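import Cfsg.Agent.EqLemmas
import Mathlib.GroupTheory.Sylow
import Mathlib.GroupTheory.SpecificGroups.Cyclic
import Mathlib.Algebra.IsPrimePow

/-!
# Cyclic subgroups of prime power order that are TI: first consequences (S3411)

* `PPTI G` : the hypothesis of S3411
* `conj_mem_zpowers` : an element commuting with a nontrivial power of a `p`-element normalises it
* `Root v z`, `Big x a` : square roots of involutions and 2-elements of order at least 4
-/

set_option autoImplicit false
set_option linter.style.haveILetI false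

namespace Cfsg.Agent.PrimePowerTI

open Subgroup
open scoped Pointwise

universe u

variable {G : Type u} [Group G]

/-- Every cyclic subgroup of prime power order is a TI-subgroup. -/
def PPTI (G : Type u) [Group G] : Prop :=
  ∀ H : Subgroup G, IsCyclic H → IsPrimePow (Nat.card H) →
    ∀ g : G, H.map (MulAut.conj g).toMonoidHom = H ∨ H.map (MulAut.conj g).toMonoidHom ⊓ H = ⊥

theorem conj_mem_zpowers (hTI : PPTI G) {p : ℕ} (hp : p.Prime) {x y g : G} {n : ℕ}
    (hx : orderOf x = p ^ n) (hy : y ∈ zpowers x) (hy1 : y ≠ 1) (hgy : Commute g y) :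
    g * x * g⁻¹ ∈ zpowers x := by
  have hn : n ≠ 0 := by
    rintro rfl
    rw [pow_zero, orderOf_eq_one_iff] at hx
    rw [hx, zpowers_one_eq_bot, mem_bot] at hy
    exact hy1 hy
  have hpp : IsPrimePow (Nat.card (zpowers x)) := by
    rw [Nat.card_zpowers, hx]
    exact hp.isPrimePow.pow hn
  rcases hTI (zpowers x) (isCyclic_zpowers x) hpp g with h | h
  · rw [← h]
    exact ⟨x, mem_zpowers x, rfl⟩
  · have hm : y ∈ (zpowers x).map (MulAut.conj g).toMonoidHom ⊓ zpowers x := by
      refine ⟨⟨y, hy, ?_⟩, hy⟩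
      show g * y * g⁻¹ = y
      rw [hgy.eq, mul_inv_cancel_right]
    rw [h, mem_bot] at hm
    exact absurd hm hy1

theorem conj_conj (g h x : G) : g * (h * x * h⁻¹) * g⁻¹ = g * h * x * (g * h)⁻¹ := by group

theorem commute_of_conj_eq {g x : G} (h : g * x * g⁻¹ = x) : Commute g x :=
  show g * x = x * g from mul_inv_eq_iff_eq_mul.1 h

theorem conj_eq_of_commute {g x : G} (h : Commute g x) : g * x * g⁻¹ = x := by
  rw [h.eq, mul_inv_cancel_right]

theorem orderOf_conj (g x : G) : orderOf (g * x * g⁻¹) = orderOf x :=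
  orderOf_injective (MulAut.conj g).toMonoidHom (MulAut.conj g).injective x

/-- `v` is a square root of the involution `z`. -/
structure Root (v z : G) : Prop where
  sq : v * v = z
  inv : z * z = 1
  ne : z ≠ 1

namespace Root

variable {v w z u g : G}

theorem inv_eq (h : Root v z) : v⁻¹ = z * v := by
  refine inv_eq_of_mul_eq_one_right ?_
  rw [← h.sq, mul_assoc v v v, ← mul_assoc v v (v * v)]
  simp only [h.sq, h.inv]

theorem commute (h : Root v z) : Commute v z := by
  rw [← h.sq]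
  exact (Commute.refl v).mul_right (Commute.refl v)

theorem self_inv (h : Root v z) : z⁻¹ = z := inv_eq_of_mul_eq_one_right h.inv

theorem symm (h : Root v z) : Root v⁻¹ z :=
  ⟨by rw [← mul_inv_rev, h.sq, h.self_inv], h.inv, h.ne⟩

theorem orderOf_eq (h : Root v z) : orderOf v = 4 := by
  haveI : Fact (Nat.Prime 2) := ⟨Nat.prime_two⟩
  have := orderOf_eq_prime_pow (x := v) (p := 2) (n := 1) ?_ ?_
  · simpa using this
  · rw [pow_one, pow_two, h.sq]
    exact h.ne
  · show v ^ 4 = 1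
    rw [show (4 : ℕ) = 2 + 2 from rfl, pow_add, pow_two, h.sq, h.inv]

theorem mem_zpowers' (h : Root v z) : z ∈ zpowers v :=
  h.sq ▸ mul_mem (mem_zpowers v) (mem_zpowers v)

theorem map (h : Root v z) (g : G) : Root (g * v * g⁻¹) (g * z * g⁻¹) :=
  ⟨by rw [← h.sq]; group,
    by rw [show g * z * g⁻¹ * (g * z * g⁻¹) = g * (z * z) * g⁻¹ by group, h.inv]; group,
    fun e => h.ne (conj_eq_one_iff.1 e)⟩

theorem cases_of_mem (h : Root v z) {x : G} (hx : x ∈ zpowers v) :
    x = 1 ∨ x = v ∨ x = z ∨ x = v⁻¹ := by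
  obtain ⟨k, rfl⟩ := mem_zpowers_iff.1 hx
  rw [← zpow_mod_orderOf, h.orderOf_eq]
  push_cast
  have : k % 4 = 0 ∨ k % 4 = 1 ∨ k % 4 = 2 ∨ k % 4 = 3 := by omega
  rcases this with e | e | e | e <;> rw [e]
  · simp
  · simp
  · exact Or.inr (Or.inr (Or.inl (by rw [zpow_two, h.sq])))
  · refine Or.inr (Or.inr (Or.inr ?_))
    rw [h.inv_eq, ← h.sq, show (3 : ℤ) = 2 + 1 from rfl, zpow_add, zpow_two, zpow_one]

/-- An element centralising `z` fixes or inverts each root of `z`. -/
theorem conj (hTI : PPTI G) (h : Root v z) (hg : Commute g z) :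
    g * v * g⁻¹ = v ∨ g * v * g⁻¹ = v⁻¹ := by
  have hm := conj_mem_zpowers hTI (p := 2) (n := 2) Nat.prime_two (by rw [h.orderOf_eq]; rfl)
    h.mem_zpowers' h.ne hg
  have h2 : (g * v * g⁻¹) * (g * v * g⁻¹) = z := by
    rw [show g * v * g⁻¹ * (g * v * g⁻¹) = g * (v * v) * g⁻¹ by group, h.sq, conj_eq_of_commute hg]
  rcases h.cases_of_mem hm with e | e | e | e
  · rw [e, mul_one] at h2
    exact absurd h2.symm h.ne
  · exact Or.inl e
  · rw [e, h.inv] at h2
    exact absurd h2.symm h.ne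
  · exact Or.inr e

theorem conj_sq (hTI : PPTI G) (h : Root v z) (hg : Commute g z) : Commute (g * g) v := by
  refine commute_of_conj_eq ?_
  rw [← conj_conj g g v]
  rcases h.conj hTI hg with e | e
  · rw [e, e]
  · rw [e, show g * v⁻¹ * g⁻¹ = (g * v * g⁻¹)⁻¹ by group, e, inv_inv]

/-- A rooted involution `u` centralising a root of `z` has its roots commuting with that root. -/
theorem fix (hTI : PPTI G) (hv : Root v z) (hw : Root w u) (hne : z ≠ u) (hzu : Commute z u)
    (huv : Commute u v) : Commute z w ∧ Commute v w ∧ Root (v * w) (z * u) := by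
  have hzw : Commute z w := hv.sq ▸ hw.conj_sq hTI huv.symm
  have hvw : Commute v w := by
    rcases hv.conj hTI hzw.symm with e | e
    · exact (commute_of_conj_eq e).symm
    · exfalso
      have h1 : v * w * v⁻¹ = z * w := by
        calc v * w * v⁻¹ = (w * v * w⁻¹)⁻¹ * w * v⁻¹ := by rw [e, inv_inv]
          _ = w * (v⁻¹ * v⁻¹) := by group
          _ = w * z := by rw [hv.symm.sq]
          _ = z * w := hzw.eq.symm
      rcases hw.conj hTI huv.symm with e' | e'
      · rw [e'] at h1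
        exact hv.ne (mul_eq_right.1 h1.symm)
      · rw [e', hw.inv_eq] at h1
        exact hne (mul_right_cancel h1).symm
  refine ⟨hzw, hvw, ?_, ?_, ?_⟩
  · rw [hvw.symm.mul_mul_mul_comm, hv.sq, hw.sq]
  · rw [hzu.symm.mul_mul_mul_comm, hv.inv, hw.inv, mul_one]
  · intro e
    exact hne (mul_left_injective u (e.trans hw.inv.symm))

end Root

/-- `a` is an involution with a square root. -/
def Rooted (a : G) : Prop := ∃ r, Root r a

theorem Rooted.map {a : G} (h : Rooted a) (g : G) : Rooted (g * a * g⁻¹) := by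
  obtain ⟨r, hr⟩ := h
  exact ⟨_, hr.map g⟩

theorem Rooted.inv {a : G} (h : Rooted a) : a * a = 1 := h.choose_spec.inv

theorem Rooted.ne {a : G} (h : Rooted a) : a ≠ 1 := h.choose_spec.ne

/-- The product of two commuting rooted involutions is rooted. -/
theorem Rooted.mul (hTI : PPTI G) {z u : G} (hz : Rooted z) (hu : Rooted u) (hne : z ≠ u)
    (hzu : Commute z u) : Rooted (z * u) := by
  obtain ⟨v, hv⟩ := hz
  obtain ⟨w, hw⟩ := hu
  rcases hv.conj hTI hzu.symm with e | e
  · exact ⟨_, (hv.fix hTI hw hne hzu (commute_of_conj_eq e)).2.2⟩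
  · have h1 : v * u * v⁻¹ = z * u := by
      calc v * u * v⁻¹ = v * (u * v * u⁻¹)⁻¹ * u := by group
        _ = v * v * u := by rw [e, inv_inv]
        _ = z * u := by rw [hv.sq]
    exact h1 ▸ (Rooted.map ⟨w, hw⟩ v)

/-- A rooted involution fixing one root of `z` fixes all of them. -/
theorem Root.fix_all (hTI : PPTI G) {v v' z u : G} (hv : Root v z) (hv' : Root v' z) (hu : Rooted u)
    (hzu : Commute z u) (huv : Commute u v) : Commute u v' := by
  obtain ⟨w, hw⟩ := hu
  by_cases hne : z = u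
  · subst hne
    exact hv'.commute.symm
  · rw [← hw.sq]
    exact hv'.conj_sq hTI (hv.fix hTI hw hne hzu huv).1.symm

/-- If a rooted involution inverts a root of `z`, it inverts all of them and they commute. -/
theorem Root.inverts_all (hTI : PPTI G) {v v' z u : G} (hv : Root v z) (hv' : Root v' z)
    (hu : Rooted u) (hzu : Commute z u) (huv : ¬ Commute u v) : u * v' * u⁻¹ = v'⁻¹ :=
  (hv'.conj hTI hzu.symm).resolve_left fun e =>
    huv (hv'.fix_all hTI hv hu hzu (commute_of_conj_eq e))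

theorem Root.roots_commute (hTI : PPTI G) {v z u x y : G} (hv : Root v z) (hu : Rooted u)
    (hzu : Commute z u) (huv : ¬ Commute u v) (hx : Root x z) (hy : Root y z) : Commute x y := by
  rcases hy.conj hTI hx.commute with e | e
  · exact commute_of_conj_eq e
  · have hxy : Root (x * y) z := by
      refine ⟨?_, hx.inv, hx.ne⟩
      calc x * y * (x * y) = (x * y * x⁻¹) * (x * x) * y := by group
        _ = y⁻¹ * z * y := by rw [e, hx.sq]
        _ = z := by rw [mul_assoc, hy.commute.symm.eq, inv_mul_cancel_left]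
    have h1 := hv.inverts_all hTI hxy hu hzu huv
    rw [show u * (x * y) * u⁻¹ = (u * x * u⁻¹) * (u * y * u⁻¹) by group,
      hv.inverts_all hTI hx hu hzu huv, hv.inverts_all hTI hy hu hzu huv, mul_inv_rev] at h1
    exact Commute.inv_inv_iff.1 h1

/-- `x` has order a power of 2, at least 4, and `a` is the involution in `⟨x⟩`. -/
def Big (x a : G) : Prop := ∃ n : ℕ, orderOf x = 2 ^ (n + 2) ∧ x ^ 2 ^ (n + 1) = a

namespace Big

variable {x a : G}

theorem mem_zpowers' (h : Big x a) : a ∈ zpowers x := by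
  obtain ⟨n, -, rfl⟩ := h
  exact npow_mem_zpowers x _

theorem exists_root (h : Big x a) : ∃ r ∈ zpowers x, Root r a := by
  obtain ⟨n, hn, rfl⟩ := h
  refine ⟨x ^ 2 ^ n, npow_mem_zpowers x _, ?_, ?_, ?_⟩
  · rw [← pow_add, ← two_mul, ← pow_succ']
  · rw [← pow_add, ← two_mul, ← pow_succ', ← hn, pow_orderOf_eq_one]
  · refine pow_ne_one_of_lt_orderOf (by positivity) ?_
    rw [hn]
    exact Nat.pow_lt_pow_right (by norm_num) (by omega)

theorem rooted (h : Big x a) : Rooted a := by
  obtain ⟨r, -, hr⟩ := h.exists_root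
  exact ⟨r, hr⟩

theorem self_inv (h : Big x a) : a * a = 1 := h.rooted.inv

theorem ne (h : Big x a) : a ≠ 1 := h.rooted.ne

theorem commute (h : Big x a) : Commute x a := by
  obtain ⟨n, -, rfl⟩ := h
  exact Commute.self_pow x _

theorem map (h : Big x a) (g : G) : Big (g * x * g⁻¹) (g * a * g⁻¹) := by
  obtain ⟨n, hn, rfl⟩ := h
  exact ⟨n, by rw [← hn]; exact orderOf_injective (MulAut.conj g).toMonoidHom (MulAut.conj g).injective x,
    conj_pow⟩

theorem symm (h : Big x a) : Big x⁻¹ a := by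
  obtain ⟨r, -, hr⟩ := h.exists_root
  obtain ⟨n, hn, rfl⟩ := h
  exact ⟨n, by rw [orderOf_inv, hn], by rw [inv_pow, hr.self_inv]⟩

/-- The only involution in `⟨x⟩` is `a`. -/
theorem eq_of_mem (h : Big x a) {y : G} (hy : y ∈ zpowers x) (hy2 : y * y = 1) :
    y = 1 ∨ y = a := by
  obtain ⟨n, hn, rfl⟩ := h
  obtain ⟨k, rfl⟩ := mem_zpowers_iff.1 hy
  rw [← zpow_add, ← orderOf_dvd_iff_zpow_eq_one, hn] at hy2
  push_cast at hy2
  obtain ⟨c, hc⟩ := hy2
  rw [pow_succ' (2 : ℤ) (n + 1)] at hc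
  have hk : k = 2 ^ (n + 1) * c := by linarith
  rcases Int.even_or_odd' c with ⟨d, rfl | rfl⟩
  · left
    rw [hk, ← orderOf_dvd_iff_zpow_eq_one, hn]
    push_cast
    exact ⟨d, by ring⟩
  · right
    rw [hk, show (2 : ℤ) ^ (n + 1) * (2 * d + 1) = ((2 ^ (n + 2) : ℕ) : ℤ) * d + ((2 ^ (n + 1) : ℕ) : ℤ) by
      push_cast; ring, zpow_add, zpow_mul, zpow_natCast, ← hn, pow_orderOf_eq_one, one_zpow, one_mul,
      zpow_natCast]

theorem part_unique {b : G} (h : Big x a) (h' : Big x b) : a = b :=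
  (h'.eq_of_mem h.mem_zpowers' h.self_inv).resolve_left h.ne

theorem of_sq {y : G} (hy : Big (y * y) a) : Big y a := by
  obtain ⟨n, hn, rfl⟩ := hy
  haveI : Fact (Nat.Prime 2) := ⟨Nat.prime_two⟩
  refine ⟨n + 1, orderOf_eq_prime_pow ?_ ?_, ?_⟩
  · intro e
    rw [pow_succ', pow_mul, pow_two] at e
    have := orderOf_dvd_of_pow_eq_one e
    rw [hn, Nat.pow_dvd_pow_iff_le_right (le_refl 2)] at this
    omega
  · rw [pow_succ', pow_mul, pow_two, ← hn, pow_orderOf_eq_one]
  · rw [pow_succ', pow_mul, pow_two]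

/-- Either `x ^ 2` is big with the same involution, or `x` is a root of it. -/
theorem sq_or_root (h : Big x a) : (Big (x * x) a ∧ orderOf (x * x) < orderOf x) ∨ Root x a := by
  obtain ⟨r, -, hr⟩ := h.exists_root
  obtain ⟨n, hn, rfl⟩ := h
  rcases n with _ | n
  · exact Or.inr ⟨by rw [← pow_two]; rfl, hr.inv, hr.ne⟩
  · left
    have ho : orderOf (x * x) = 2 ^ (n + 2) := by
      rw [← pow_two, orderOf_pow' x two_ne_zero, hn, Nat.gcd_eq_right (dvd_pow_self 2 (by omega)),
        pow_succ 2 (n + 2), Nat.mul_div_cancel _ two_pos]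
    refine ⟨⟨n, ho, by rw [← pow_two, ← pow_mul, ← pow_succ']⟩, ?_⟩
    rw [ho, hn]
    exact Nat.pow_lt_pow_right (by norm_num) (by omega)

theorem le_orderOf (h : Big x a) : 4 ≤ orderOf x := by
  obtain ⟨n, hn, -⟩ := h
  rw [hn]
  calc 4 = 2 ^ 2 := rfl
    _ ≤ _ := Nat.pow_le_pow_right (by norm_num) (by omega)

theorem not_invol (h : Big x a) : x * x ≠ 1 := by
  intro e
  have := orderOf_le_of_pow_eq_one two_pos (by rwa [pow_two] : x ^ 2 = 1)
  have := h.le_orderOf
  omega

end Big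

/-- A 2-element is an involution, trivial, or big. -/
theorem invol_or_big {x : G} {n : ℕ} (hx : orderOf x = 2 ^ n) : x * x = 1 ∨ ∃ a, Big x a := by
  rcases n with _ | _ | n
  · left
    rw [pow_zero, orderOf_eq_one_iff] at hx
    rw [hx, one_mul]
  · left
    rw [← pow_two]
    simpa [hx] using pow_orderOf_eq_one x
  · exact Or.inr ⟨_, n, hx, rfl⟩

section sylow

variable (S : Sylow 2 G)

theorem exists_orderOf_eq {x : G} (hx : x ∈ (S : Subgroup G)) : ∃ n, orderOf x = 2 ^ n := by
  haveI : Fact (Nat.Prime 2) := ⟨Nat.prime_two⟩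
  obtain ⟨n, hn⟩ := IsPGroup.iff_orderOf.1 S.2 ⟨x, hx⟩
  exact ⟨n, by simpa using hn⟩

theorem mem_cases {x : G} (hx : x ∈ (S : Subgroup G)) : x * x = 1 ∨ ∃ a, Big x a := by
  obtain ⟨n, hn⟩ := exists_orderOf_eq S hx
  exact invol_or_big hn

/-- A big element whose involution is centralised by `S` lies in `S`. -/
theorem Big.mem_sylow [Finite G] (hTI : PPTI G) {x a : G} (hx : Big x a)
    (ha : ∀ s ∈ (S : Subgroup G), Commute s a) : x ∈ (S : Subgroup G) := by
  haveI : Fact (Nat.Prime 2) := ⟨Nat.prime_two⟩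
  obtain ⟨n, hn, -⟩ := id hx
  have hle : (S : Subgroup G) ≤ normalizer ((zpowers x : Subgroup G) : Set G) := by
    intro s hs
    rw [mem_normalizer_iff]
    have hcl : ∀ t ∈ (S : Subgroup G), ∀ y ∈ zpowers x, t * y * t⁻¹ ∈ zpowers x := by
      intro t ht y hy
      obtain ⟨k, rfl⟩ := mem_zpowers_iff.1 hy
      rw [← conj_zpow]
      exact zpow_mem (conj_mem_zpowers hTI Nat.prime_two hn hx.mem_zpowers' hx.ne (ha t ht)) k
    intro y
    refine ⟨hcl s hs y, fun hy => ?_⟩
    have := hcl s⁻¹ (inv_mem hs) _ hy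
    rwa [show s⁻¹ * (s * y * s⁻¹) * s⁻¹⁻¹ = y by group] at this
  have hsup := S.2.to_sup_of_normal_right'
    (IsPGroup.of_card (n := n + 2) (by rw [Nat.card_zpowers, hn]) : IsPGroup 2 (zpowers x)) hle
  rw [← S.is_maximal' hsup le_sup_left]
  exact mem_sup_right (mem_zpowers x)

/-- A 2-subgroup centralising a central element of `S` is conjugate into `S` by a centralising element. -/
theorem exists_conj_le [Finite G] {z : G} (hz : ∀ s ∈ (S : Subgroup G), Commute s z) {P : Subgroup G}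
    (hP : IsPGroup 2 P) (hPz : ∀ x ∈ P, Commute x z) :
    ∃ c, Commute c z ∧ ∀ x ∈ P, c * x * c⁻¹ ∈ (S : Subgroup G) := by
  haveI : Fact (Nat.Prime 2) := ⟨Nat.prime_two⟩
  have hSC : (S : Subgroup G) ≤ centralizer ({z} : Set G) :=
    fun s hs => mem_centralizer_singleton_iff.2 (hz s hs).eq
  have hPC : P ≤ centralizer ({z} : Set G) :=
    fun s hs => mem_centralizer_singleton_iff.2 (hPz s hs).eq
  obtain ⟨Q, hQ⟩ := (hP.comap_subtype (K := centralizer ({z} : Set G))).exists_le_sylow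
  obtain ⟨c, hc⟩ := MulAction.exists_smul_eq (centralizer ({z} : Set G)) Q (S.subtype hSC)
  refine ⟨c, mem_centralizer_singleton_iff.1 c.2, fun x hx => ?_⟩
  have hm : c * ⟨x, hPC hx⟩ * c⁻¹ ∈ ((c • Q : Sylow 2 _) : Subgroup (centralizer ({z} : Set G))) := by
    rw [Sylow.coe_subgroup_smul]
    exact smul_mem_pointwise_smul _ _ _ (hQ (mem_subgroupOf.2 hx))
  rw [hc] at hm
  exact hm

theorem exists_conj_mem [Finite G] {z : G} (hz : ∀ s ∈ (S : Subgroup G), Commute s z) {x : G} {n : ℕ}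
    (hx : orderOf x = 2 ^ n) (hxz : Commute x z) :
    ∃ c, Commute c z ∧ c * x * c⁻¹ ∈ (S : Subgroup G) := by
  haveI : Fact (Nat.Prime 2) := ⟨Nat.prime_two⟩
  obtain ⟨c, hc, h⟩ := exists_conj_le S hz
    (IsPGroup.of_card (n := n) (by rw [Nat.card_zpowers, hx]) : IsPGroup 2 (zpowers x))
    (fun y hy => by
      obtain ⟨k, rfl⟩ := mem_zpowers_iff.1 hy
      exact hxz.zpow_left k)
  exact ⟨c, hc, h x (mem_zpowers x)⟩

end sylow

end Cfsg.Agent.PrimePowerTI
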