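import Cfsg.Agent.Lib.PrimePowerTI.Basic
import Cfsg.Agent.Lib.PSL2.Centralizers
import Cfsg.Agent.Lib.JankoOne.Elements
import Cfsg.Agent.Lib.JankoOne.Order
import Cfsg.Prelude.Def_Spor_J1

/-!
# `L₂(q)` and `J₁` have TI cyclic subgroups of prime power order (S3411)

* `ppti_psl`, `ppti_j1`
-/

set_option autoImplicit false
set_option linter.style.haveILetI false

namespace Cfsg.Agent.PrimePowerTI

open Subgroup

universe u

variable {G : Type u} [Group G]

/-- It suffices that conjugates meeting nontrivially coincide. -/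
theorem ppti_of_meet [Finite G]
    (h : ∀ (x g : G) (p n : ℕ), p.Prime → 2 ≤ n → orderOf x = p ^ n → ∀ y : G, y ≠ 1 →
      y ∈ zpowers x → y ∈ zpowers (g * x * g⁻¹) → zpowers (g * x * g⁻¹) = zpowers x) :
    PPTI G := by
  intro H hH hpp g
  obtain ⟨x, rfl⟩ := (H.isCyclic_iff_exists_zpowers_eq_top).1 hH
  obtain ⟨p, n, hp, hn, hpn⟩ := hpp
  replace hp : p.Prime := Nat.prime_iff.2 hp
  rw [Nat.card_zpowers] at hpn
  rw [or_iff_not_imp_right]
  intro hne
  obtain ⟨y, ⟨hy', hy⟩, hy1⟩ : ∃ y ∈ (zpowers x).map (MulAut.conj g).toMonoidHom ⊓ zpowers x, y ≠ 1 := by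
    by_contra hcon
    push Not at hcon
    exact hne ((eq_bot_iff_forall _).2 hcon)
  rw [MonoidHom.map_zpowers] at hy' ⊢
  change y ∈ zpowers (g * x * g⁻¹) at hy'
  show zpowers (g * x * g⁻¹) = zpowers x
  by_cases hn2 : 2 ≤ n
  · exact h x g p n hp hn2 hpn.symm y hy1 hy hy'
  haveI : Fact p.Prime := ⟨hp⟩
  have ho : orderOf x = p := by rw [← hpn, show n = 1 by omega, pow_one]
  have key : ∀ z : G, orderOf z = p → y ∈ zpowers z → zpowers y = zpowers z := by
    intro z hz hyz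
    refine eq_of_le_of_card_ge (zpowers_le.2 hyz) ?_
    rw [Nat.card_zpowers, Nat.card_zpowers, hz]
    rcases (Nat.dvd_prime hp).1 (hz ▸ orderOf_dvd_of_mem_zpowers hyz) with e | e
    · exact absurd (orderOf_eq_one_iff.1 e) hy1
    · exact e.ge
  rw [← key _ (by rw [orderOf_conj, ho]) hy', key x ho hy]

theorem ppti_of_equiv [Finite G] {H : Type*} [Group H] (e : G ≃* H)
    (h : ∀ (x g : H) (p n : ℕ), p.Prime → 2 ≤ n → orderOf x = p ^ n → ∀ y : H, y ≠ 1 →
      y ∈ zpowers x → y ∈ zpowers (g * x * g⁻¹) → zpowers (g * x * g⁻¹) = zpowers x) :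
    PPTI G := by
  refine ppti_of_meet fun x g p n hp hn hx y hy1 hy hy' => ?_
  have := h (e x) (e g) p n hp hn (by rw [MulEquiv.orderOf_eq, hx]) (e y)
    (by rwa [Ne, MulEquiv.map_eq_one_iff])
    (by
      obtain ⟨k, rfl⟩ := hy
      exact ⟨k, (map_zpow e x k).symm⟩)
    (by
      obtain ⟨k, rfl⟩ := hy'
      exact ⟨k, by simp [map_zpow]⟩)
  rw [← map_inv, ← map_mul, ← map_mul, ← MonoidHom.coe_coe, ← MonoidHom.map_zpowers,
    ← MonoidHom.map_zpowers] at this
  exact map_injective (f := (e : G →* H)) e.injective this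

section psl

open Cfsg.Agent.PSL2

variable {F : Type*} [Field F] [Finite F]

theorem psl_meet (x g : PSL2 F) (l n : ℕ) (hl : l.Prime) (hn : 2 ≤ n) (hx : orderOf x = l ^ n)
    (y : PSL2 F) (hy1 : y ≠ 1) (hy : y ∈ zpowers x) (hy' : y ∈ zpowers (g * x * g⁻¹)) :
    zpowers (g * x * g⁻¹) = zpowers x := by
  obtain ⟨p, hpC⟩ := CharP.exists F
  haveI : Fact p.Prime := ⟨CharP.char_is_prime F p⟩
  have hp : p.Prime := Fact.out
  have hl4 : 4 ≤ orderOf x := by
    rw [hx]
    calc 4 = 2 ^ 2 := rfl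
      _ ≤ l ^ 2 := Nat.pow_le_pow_left hl.two_le 2
      _ ≤ l ^ n := Nat.pow_le_pow_right hl.pos hn
  have hndvd : ¬ orderOf x ∣ p := by
    intro hd
    rw [hx] at hd
    rcases (Nat.dvd_prime hp).1 hd with e | e
    · rw [hx, e] at hl4; omega
    · exact Nat.Prime.not_prime_pow hn (e ▸ hp)
  obtain ⟨y₀, hxy₀, -, hy₀⟩ := centralizer_torus p hndvd (by omega)
  have hyy₀ : y ∈ zpowers y₀ := (zpowers_le.2 hxy₀) hy
  have hcomm : Commute (g * x * g⁻¹) y := by
    obtain ⟨k, hk⟩ := hy'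
    exact hk ▸ (Commute.refl _).zpow_right k
  suffices hm : g * x * g⁻¹ ∈ zpowers y₀ from zpowers_eq_of_orderOf hm hxy₀ (orderOf_conj g x)
  have hyo : 1 < orderOf y := by
    have := orderOf_pos y
    have : orderOf y ≠ 1 := fun e => hy1 (orderOf_eq_one_iff.1 e)
    omega
  by_cases hy3 : 3 ≤ orderOf y
  · exact mem_zpowers_of_commute_torus hy₀ hyy₀ hy3 hcomm
  have hy2 : orderOf y = 2 := by omega
  have h4d : 4 ∣ orderOf y₀ := by
    have h2 : 2 ∣ l := by
      have h := orderOf_dvd_of_mem_zpowers hy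
      rw [hy2, hx] at h
      exact Nat.prime_two.dvd_of_dvd_pow h
    obtain rfl : 2 = l := (Nat.prime_dvd_prime_iff_eq Nat.prime_two hl).1 h2
    refine dvd_trans ?_ (orderOf_dvd_of_mem_zpowers hxy₀)
    rw [hx]
    exact pow_dvd_pow 2 hn
  have hq1 : 1 < Nat.card F := Finite.one_lt_card
  have hodd : Odd (Nat.card F) := by
    by_contra he
    rw [Nat.not_odd_iff_even] at he
    obtain ⟨r, hr⟩ := he
    have hg : Nat.gcd 2 (Nat.card F - 1) = 1 :=
      (Nat.prime_two.coprime_iff_not_dvd.2 (by omega))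
    rw [hg, Nat.div_one, Nat.div_one] at hy₀
    rcases hy₀ with e | e <;> omega
  obtain ⟨r, hr⟩ := id hodd
  have hg : Nat.gcd 2 (Nat.card F - 1) = 2 := Nat.gcd_eq_left ⟨r, by omega⟩
  rw [hg] at hy₀
  have hcard : Nat.card (centralizer ({y} : Set (PSL2 F))) = 2 * orderOf y₀ := by
    obtain ⟨h1, h3⟩ := card_centralizer_involution hodd hy2
    rcases hy₀ with e | e <;> rcases (show Nat.card F % 4 = 1 ∨ Nat.card F % 4 = 3 by omega) with h | h
    · rw [h1 h]; omega
    · omega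
    · omega
    · rw [h3 h]; omega
  obtain ⟨w, hw2, hwy⟩ := exists_inverting p (x := y₀) (fun hd => by
    rcases (Nat.dvd_prime hp).1 hd with e | e
    · omega
    · rw [e] at h4d
      have := Nat.le_of_dvd hp.pos h4d
      rcases (Nat.dvd_prime hp).1 ((by norm_num : 2 ∣ 4).trans h4d) with e2 | e2 <;> omega)
  have hconj : ∀ t ∈ zpowers y₀, w * t * w⁻¹ = t⁻¹ := by
    rintro t ⟨k, rfl⟩
    show w * y₀ ^ k * w⁻¹ = (y₀ ^ k)⁻¹
    rw [← conj_zpow, hwy, inv_zpow]
  have hwn : w ∉ zpowers y₀ := by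
    intro hw
    have h1 := hconj _ (mem_zpowers y₀)
    obtain ⟨k, hk⟩ := hw
    rw [conj_eq_of_commute (hk ▸ (Commute.refl y₀).zpow_left k : Commute w y₀)] at h1
    have : orderOf y₀ ≤ 2 := orderOf_le_of_pow_eq_one two_pos (by
      rw [pow_two]; exact eq_inv_iff_mul_eq_one.1 h1)
    have := Nat.le_of_dvd (orderOf_pos y₀) h4d
    omega
  have hyC : zpowers y₀ ≤ centralizer ({y} : Set (PSL2 F)) := by
    rw [zpowers_le, mem_centralizer_singleton_iff]
    obtain ⟨k, hk⟩ := hyy₀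
    exact (hk ▸ (Commute.refl y₀).zpow_right k : Commute y₀ y).eq
  have hwC : w ∈ centralizer ({y} : Set (PSL2 F)) := by
    rw [mem_centralizer_singleton_iff]
    refine (commute_of_conj_eq ?_).eq
    rw [hconj y hyy₀]
    exact inv_eq_of_mul_eq_one_right (by
      have h := pow_orderOf_eq_one y
      rwa [hy2, pow_two] at h)
  have hidx : ((zpowers y₀).subgroupOf (centralizer ({y} : Set (PSL2 F)))).index = 2 := by
    have := ((zpowers y₀).subgroupOf (centralizer ({y} : Set (PSL2 F)))).index_mul_card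
    rw [Nat.card_congr (subgroupOfEquivOfLe hyC).toEquiv, Nat.card_zpowers, hcard] at this
    exact Nat.eq_of_mul_eq_mul_right (orderOf_pos y₀) this
  by_contra hm
  have hxC : g * x * g⁻¹ ∈ centralizer ({y} : Set (PSL2 F)) :=
    mem_centralizer_singleton_iff.2 hcomm.eq
  have h := (Subgroup.mul_mem_iff_of_index_two hidx (a := ⟨_, hxC⟩) (b := ⟨w, hwC⟩)).2
    (by simp only [mem_subgroupOf]; exact iff_of_false hm hwn)
  rw [mem_subgroupOf] at h
  change g * x * g⁻¹ * w ∈ zpowers y₀ at h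
  set t := g * x * g⁻¹ * w with ht
  have hx' : g * x * g⁻¹ = t * w := by
    rw [ht, mul_assoc (g * x * g⁻¹) w w, hw2, mul_one]
  have hsq : g * x * g⁻¹ * (g * x * g⁻¹) = 1 := by
    rw [hx', show t * w * (t * w) = t * (w * t * w⁻¹) * (w * w) by group, hconj t h, hw2, mul_one,
      mul_inv_cancel]
  have := orderOf_le_of_pow_eq_one two_pos ((pow_two _).trans hsq)
  rw [orderOf_conj] at this
  omega

end psl

theorem ppti_psl [Finite G] {F : Type*} [Field F] [Finite F]
    (e : G ≃* Matrix.ProjectiveSpecialLinearGroup (Fin 2) F) : PPTI G :=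
  ppti_of_equiv e psl_meet

theorem j1_order_pp (x : ↥Cfsg.Spor.J1) (p n : ℕ) (hp : p.Prime) (hn : 2 ≤ n) :
    orderOf x ≠ p ^ n := by
  intro hx
  haveI := Fact.mk Nat.prime_two
  haveI : Finite ↥Cfsg.Spor.J1 := Nat.finite_of_card_ne_zero (by rw [JankoOne.natCard_j1]; norm_num)
  have hd : p ^ 2 ∣ 175560 := JankoOne.natCard_j1 ▸
    (pow_dvd_pow p hn).trans (hx ▸ orderOf_dvd_natCard x)
  have hple : p ≤ 420 := by
    have := Nat.le_of_dvd (by norm_num) hd
    by_contra h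
    have : 421 ^ 2 ≤ p ^ 2 := Nat.pow_le_pow_left (by omega) 2
    omega
  obtain rfl : p = 2 := by
    have hpd : p ∣ 175560 := (dvd_pow_self p two_ne_zero).trans hd
    rw [show (175560 : ℕ) = 2 * 2 * 2 * 3 * 5 * 7 * 11 * 19 by norm_num] at hpd
    simp only [hp.dvd_mul, Nat.prime_dvd_prime_iff_eq hp Nat.prime_two,
      Nat.prime_dvd_prime_iff_eq hp Nat.prime_three,
      Nat.prime_dvd_prime_iff_eq hp (by norm_num : Nat.Prime 5),
      Nat.prime_dvd_prime_iff_eq hp (by norm_num : Nat.Prime 7),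
      Nat.prime_dvd_prime_iff_eq hp (by norm_num : Nat.Prime 11),
      Nat.prime_dvd_prime_iff_eq hp (by norm_num : Nat.Prime 19)] at hpd
    rcases hpd with ((((((rfl | rfl) | rfl) | rfl) | rfl) | rfl) | rfl) | rfl <;>
      first | rfl | (norm_num at hd)
  set H := Subgroup.closure {JankoOne.jA, JankoOne.jB, JankoOne.jC} with hH
  have hsq : ∀ y ∈ H, y ^ 2 = 1 := by
    intro y hy
    induction hy using Subgroup.closure_induction with
    | mem z hz =>
      rcases hz with rfl | rfl | rfl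
      · rw [← JankoOne.orderOf_jA, pow_orderOf_eq_one]
      · rw [← JankoOne.orderOf_jB, pow_orderOf_eq_one]
      · rw [← JankoOne.orderOf_jC, pow_orderOf_eq_one]
    | one => exact one_pow 2
    | mul a b ha hb iha ihb =>
      have hc : Commute a b := Schur.commute_of_mem_closure_triple JankoOne.commute_jA_jB
        JankoOne.commute_jA_jC JankoOne.commute_jB_jC ha hb
      rw [hc.mul_pow, iha, ihb, one_mul]
    | inv a _ ih => rw [inv_pow, ih, inv_one]
  obtain ⟨S, hS⟩ := (show IsPGroup 2 H from fun a => ⟨1, Subtype.ext (hsq a a.2)⟩).exists_le_sylow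
  have hS8 : Nat.card (S : Subgroup ↥Cfsg.Spor.J1) ≤ 8 := by
    obtain ⟨k, hk⟩ := IsPGroup.iff_card.1 S.isPGroup'
    have hkd : 2 ^ k ∣ 175560 := hk ▸ JankoOne.natCard_j1 ▸ card_subgroup_dvd_card _
    rw [hk]
    have hk3 : k ≤ 3 := by
      by_contra h
      have := (pow_dvd_pow 2 (show 4 ≤ k by omega)).trans hkd
      norm_num at this
    exact (Nat.pow_le_pow_right two_pos hk3).trans (le_refl _)
  have hHS : H = (S : Subgroup ↥Cfsg.Spor.J1) :=
    eq_of_le_of_card_ge hS (hS8.trans (Nat.le_of_dvd Nat.card_pos JankoOne.eight_dvd_card))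
  obtain ⟨P, hP⟩ := (IsPGroup.of_card (n := n) (by rw [Nat.card_zpowers, hx]) :
    IsPGroup 2 (zpowers x)).exists_le_sylow
  obtain ⟨g, hg⟩ := MulAction.exists_smul_eq ↥Cfsg.Spor.J1 P S
  have hgx : g * x * g⁻¹ ∈ ((g • P : Sylow 2 _) : Subgroup ↥Cfsg.Spor.J1) := by
    rw [Sylow.coe_subgroup_smul]
    exact ⟨x, hP (mem_zpowers x), rfl⟩
  rw [hg, ← hHS] at hgx
  have := orderOf_le_of_pow_eq_one two_pos (hsq _ hgx)
  rw [orderOf_conj, hx] at this
  have := (Nat.pow_le_pow_iff_right (le_refl 2)).1 (show 2 ^ n ≤ 2 ^ 1 by rwa [pow_one])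
  omega

theorem ppti_j1 [Finite G] (h : Cfsg.Spor.IsoJ1 G) : PPTI G := by
  obtain ⟨e⟩ := h
  exact ppti_of_equiv e fun x g p n hp hn hx => (j1_order_pp x p n hp hn hx).elim

end Cfsg.Agent.PrimePowerTI
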