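import Cfsg.Agent.EqLemmas
import Mathlib.FieldTheory.Finite.Basic
import Mathlib.Algebra.CharP.Lemmas
import Mathlib.Algebra.Algebra.ZMod
import Mathlib.LinearAlgebra.Dimension.Free
import Mathlib.Algebra.Polynomial.Roots
import Mathlib.Algebra.Polynomial.BigOperators

/-!
# Additive maps of a field of order `3 ^ k` as combinations of Frobenius powers (S3411)

* `fr i` : `x ↦ x ^ 3 ^ i`
* `exists_expansion`, `exists_expansion₂`, `eq_zero_of_sum`, `eq_zero_of_sum₂`, `eq_zero_of_sum₃`
* `pow_pair_unique` : a sum of two distinct powers of 3 modulo `(3 ^ k - 1) / 2`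
-/

set_option autoImplicit false
set_option linter.style.haveILetI false
set_option linter.unusedSectionVars false

namespace Cfsg.Agent.PrimePowerTI

open Polynomial

variable {k : ℕ} {K : Type} [Field K] [CharP K 3]

/-- `x ↦ x ^ 3 ^ i`. -/
noncomputable def fr (K : Type) [Field K] [CharP K 3] {k : ℕ} (i : ZMod k) : K →+* K :=
  haveI : Fact (Nat.Prime 3) := ⟨Nat.prime_three⟩
  iterateFrobenius K 3 i.val

theorem fr_apply (i : ZMod k) (x : K) : fr K i x = x ^ 3 ^ i.val := rfl

variable [Fintype K] [NeZero k] (hK : Fintype.card K = 3 ^ k)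
include hK

theorem pow_mod_k (x : K) (n : ℕ) : x ^ 3 ^ n = x ^ 3 ^ (n % k) := by
  conv_lhs => rw [← Nat.div_add_mod n k, pow_add, pow_mul, pow_mul]
  rw [← hK, FiniteField.pow_card_pow]

theorem fr_fr (s i : ZMod k) (x : K) : fr K s (fr K i x) = fr K (s + i) x := by
  rw [fr_apply, fr_apply, fr_apply, ZMod.val_add, ← pow_mul, ← pow_add, pow_mod_k hK,
    Nat.add_comm i.val]

theorem eq_zero_of_sum {c : ZMod k → K} (h : ∀ x, ∑ i, c i * fr K i x = 0) : c = 0 := by
  classical
  set p : K[X] := ∑ i : ZMod k, C (c i) * X ^ 3 ^ i.val with hp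
  have hdeg : p.natDegree < Fintype.card K := by
    have h1 : p.natDegree ≤ 3 ^ (k - 1) := by
      refine natDegree_sum_le_of_forall_le _ _ fun i _ => (natDegree_C_mul_X_pow_le _ _).trans ?_
      have := i.val_lt
      exact Nat.pow_le_pow_right (by norm_num) (by omega)
    rw [hK]
    exact lt_of_le_of_lt h1 (Nat.pow_lt_pow_right (by norm_num) (by have := NeZero.pos k; omega))
  have hp0 : p = 0 := eq_zero_of_natDegree_lt_card_of_eval_eq_zero p Function.injective_id
    (fun x => by
      rw [hp, eval_finsetSum]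
      simpa [fr_apply] using h x) hdeg
  funext i
  have hc : p.coeff (3 ^ i.val) = c i := by
    rw [hp, finsetSum_coeff, Finset.sum_eq_single i]
    · rw [coeff_C_mul_X_pow, if_pos rfl]
    · intro j _ hj
      rw [coeff_C_mul_X_pow, if_neg]
      intro e
      exact hj (ZMod.val_injective k (Nat.pow_right_injective (by norm_num) e)).symm
    · intro hn; exact absurd (Finset.mem_univ i) hn
  rw [hp0, coeff_zero] at hc
  exact hc.symm

theorem eq_zero_of_sum₂ {c : ZMod k → ZMod k → K}
    (h : ∀ x y, ∑ i, ∑ j, c i j * fr K i x * fr K j y = 0) : c = 0 := by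
  funext i j
  refine congrFun (eq_zero_of_sum hK (c := c i) fun y => ?_) j
  refine congrFun (eq_zero_of_sum hK (c := fun i => ∑ j, c i j * fr K j y) fun x => ?_) i
  rw [← h x y]
  refine Finset.sum_congr rfl fun i _ => ?_
  rw [Finset.sum_mul]
  exact Finset.sum_congr rfl fun j _ => by ring

theorem eq_zero_of_sum₃ {c : ZMod k → ZMod k → ZMod k → K}
    (h : ∀ x y z, ∑ i, ∑ j, ∑ l, c i j l * fr K i x * fr K j y * fr K l z = 0) : c = 0 := by
  funext i j l
  refine congrFun (eq_zero_of_sum hK (c := c i j) fun z => ?_) l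
  refine congrFun (congrFun (eq_zero_of_sum₂ hK (c := fun i j => ∑ l, c i j l * fr K l z)
    fun x y => ?_) i) j
  rw [← h x y z]
  refine Finset.sum_congr rfl fun i _ => Finset.sum_congr rfl fun j _ => ?_
  rw [Finset.sum_mul, Finset.sum_mul]
  exact Finset.sum_congr rfl fun l _ => by ring

theorem exists_expansion (f : K → K) (hf : ∀ x y, f (x + y) = f x + f y) :
    ∃ c : ZMod k → K, ∀ x, f x = ∑ i, c i * fr K i x := by
  classical
  haveI : Fact (Nat.Prime 3) := ⟨Nat.prime_three⟩
  letI : Algebra (ZMod 3) K := ZMod.algebra K 3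
  have hrank : Module.finrank (ZMod 3) K = Fintype.card (ZMod k) := by
    have h := Module.card_eq_pow_finrank (K := ZMod 3) (V := K)
    rw [hK, ZMod.card] at h
    rw [ZMod.card]
    exact (Nat.pow_right_injective (le_refl 2 |>.trans (by norm_num)) h).symm
  let b : Module.Basis (ZMod k) (ZMod 3) K :=
    (Module.finBasisOfFinrankEq (ZMod 3) K hrank).reindex (Fintype.equivFin (ZMod k)).symm
  have ext' : ∀ (g g' : K → K), (∀ x y, g (x + y) = g x + g y) → (∀ x y, g' (x + y) = g' x + g' y) →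
      (∀ n, g (b n) = g' (b n)) → ∀ x, g x = g' x := by
    intro g g' hg hg' hb x
    have := b.ext (f₁ := (AddMonoidHom.mk' g hg).toZModLinearMap 3)
      (f₂ := (AddMonoidHom.mk' g' hg').toZModLinearMap 3) hb
    exact LinearMap.congr_fun this x
  have hadd : ∀ c : ZMod k → K, ∀ x y : K,
      ∑ i, c i * fr K i (x + y) = (∑ i, c i * fr K i x) + ∑ i, c i * fr K i y := fun c x y => by
    rw [← Finset.sum_add_distrib]
    exact Finset.sum_congr rfl fun i _ => by rw [map_add, mul_add]
  let L : (ZMod k → K) → (ZMod k → K) := fun c n => ∑ i, c i * fr K i (b n)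
  have hL : Function.Injective L := by
    intro c c' e
    have h := ext' (fun x => ∑ i, c i * fr K i x) (fun x => ∑ i, c' i * fr K i x) (hadd c) (hadd c')
      fun n => congrFun e n
    refine sub_eq_zero.1 (eq_zero_of_sum hK (c := c - c') fun x => ?_)
    simp only [Pi.sub_apply, sub_mul, Finset.sum_sub_distrib, h x, sub_self]
  obtain ⟨c, hc⟩ := Finite.surjective_of_injective hL fun n => f (b n)
  exact ⟨c, fun x =>
    ext' f (fun x => ∑ i, c i * fr K i x) hf (hadd c) (fun n => (congrFun hc n).symm) x⟩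

theorem exists_expansion₂ (f : K → K → K) (hl : ∀ x x' y, f (x + x') y = f x y + f x' y)
    (hr : ∀ x y y', f x (y + y') = f x y + f x y') :
    ∃ c : ZMod k → ZMod k → K, ∀ x y, f x y = ∑ i, ∑ j, c i j * fr K i x * fr K j y := by
  classical
  choose d hd using fun y => exists_expansion hK (fun x => f x y) fun x x' => hl x x' y
  have hadd : ∀ y y', d (y + y') = d y + d y' := fun y y' => sub_eq_zero.1 <|
    eq_zero_of_sum hK (c := d (y + y') - (d y + d y')) fun x => by
      simp only [Pi.sub_apply, Pi.add_apply, sub_mul, add_mul, Finset.sum_sub_distrib,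
        Finset.sum_add_distrib, ← hd, hr, sub_self]
  choose c hc using fun i => exists_expansion hK (fun y => d y i) fun y y' => congrFun (hadd y y') i
  refine ⟨c, fun x y => ?_⟩
  rw [hd y x]
  refine Finset.sum_congr rfl fun i _ => ?_
  rw [hc i y, Finset.sum_mul]
  exact Finset.sum_congr rfl fun j _ => by ring

omit hK in
theorem pair_lt {i j : ℕ} (hij : i < j) (hj : j < k) (hk : 3 ≤ k) :
    2 * (3 ^ i + 3 ^ j) < 3 ^ k - 1 := by
  obtain ⟨n, rfl⟩ : ∃ n, k = n + 2 := ⟨k - 2, by omega⟩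
  have h1 : 3 ^ i ≤ 3 ^ n := Nat.pow_le_pow_right (by norm_num) (by omega)
  have h2 : 3 ^ j ≤ 3 * 3 ^ n := by
    rw [← pow_succ']; exact Nat.pow_le_pow_right (by norm_num) (by omega)
  have h3 : 3 ^ (n + 2) = 9 * 3 ^ n := by rw [pow_add]; ring
  have h4 : 3 ≤ 3 ^ n := le_self_pow₀ (by norm_num) (by omega)
  omega

omit hK in
theorem pair_eq {i j i' j' : ℕ} (hij : i < j) (hij' : i' < j') (h : 3 ^ i + 3 ^ j = 3 ^ i' + 3 ^ j') :
    i = i' ∧ j = j' := by
  wlog hle : i ≤ i' generalizing i j i' j'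
  · obtain ⟨a, b⟩ := this hij' hij h.symm (by omega)
    exact ⟨a.symm, b.symm⟩
  rcases eq_or_lt_of_le hle with rfl | hlt
  · exact ⟨rfl, Nat.pow_right_injective (by norm_num) (Nat.add_left_cancel h)⟩
  · exfalso
    obtain ⟨a, rfl⟩ : ∃ a, j = i + 1 + a := ⟨j - i - 1, by omega⟩
    obtain ⟨b, rfl⟩ : ∃ b, i' = i + 1 + b := ⟨i' - i - 1, by omega⟩
    obtain ⟨c, rfl⟩ : ∃ c, j' = i + 1 + c := ⟨j' - i - 1, by omega⟩
    simp only [pow_add, pow_one] at h
    have h' : 3 ^ i * (1 + 3 * 3 ^ a) = 3 ^ i * (3 * 3 ^ b + 3 * 3 ^ c) := by linarith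
    have := Nat.eq_of_mul_eq_mul_left (pow_pos (by norm_num) i) h'
    omega

omit hK in
theorem pow_pair_unique {n : ℕ} (hn : 2 * n = 3 ^ k - 1) (hk : 3 ≤ k) {x : K} (hx : orderOf x = n)
    {a b a' b' : ZMod k} (hab : a ≠ b) (hab' : a' ≠ b')
    (h : fr K a x * fr K b x = fr K a' x * fr K b' x) :
    (a' = a ∧ b' = b) ∨ (a' = b ∧ b' = a) := by
  have key : ∀ {a b a' b' : ZMod k}, a.val < b.val → a'.val < b'.val →
      fr K a x * fr K b x = fr K a' x * fr K b' x → a' = a ∧ b' = b := by
    intro a b a' b' h1 h2 h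
    rw [fr_apply, fr_apply, fr_apply, fr_apply, ← pow_add, ← pow_add] at h
    have hn0 : 0 < n := by
      have := Nat.pow_le_pow_right (show 0 < 3 by norm_num) hk
      omega
    have hx0 : x ≠ 0 := fun e => by
      have hp := pow_orderOf_eq_one x
      rw [hx, e, zero_pow hn0.ne'] at hp
      exact zero_ne_one hp
    have h' : 3 ^ a.val + 3 ^ b.val ≡ 3 ^ a'.val + 3 ^ b'.val [MOD n] := by
      have ho : orderOf (Units.mk0 x hx0) = n := by rw [← hx, ← orderOf_units]; rfl
      rw [← ho]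
      exact pow_eq_pow_iff_modEq.1 (Units.ext (by simpa using h))
    have h3 := h'.mul_left' 2
    rw [hn] at h3
    have h4 := h3.eq_of_lt_of_lt (pair_lt h1 b.val_lt hk) (pair_lt h2 b'.val_lt hk)
    obtain ⟨e1, e2⟩ := pair_eq h1 h2 (by omega)
    exact ⟨ZMod.val_injective k e1.symm, ZMod.val_injective k e2.symm⟩
  rcases lt_or_gt_of_ne (fun e => hab (ZMod.val_injective k e)) with h1 | h1 <;>
    rcases lt_or_gt_of_ne (fun e => hab' (ZMod.val_injective k e)) with h2 | h2
  · exact Or.inl (key h1 h2 h)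
  · exact Or.inr (key h1 h2 (h.trans (mul_comm _ _))).symm
  · exact Or.inr (key h1 h2 ((mul_comm _ _).trans h))
  · exact Or.inl (key h1 h2 (((mul_comm _ _).trans h).trans (mul_comm _ _))).symm

end Cfsg.Agent.PrimePowerTI
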