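import Cfsg.Agent.Lib.PrimePowerTI.ReeCoef

/-!
# The two character contradictions in the Ree case (S3411)

* `RData.false_of_central` : `P' = U` central is impossible
* `RData.false_of_meet`    : `U ∩ P' = 1` is impossible
-/

set_option autoImplicit false
set_option linter.unusedSectionVars false
set_option linter.unusedVariables false
set_option linter.style.haveILetI false

namespace Cfsg.Agent.PrimePowerTI

open Matrix Subgroup Cfsg.Agent.AbelianSylow Cfsg.Agent.AbelianSylow.Chars ReeInverted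
open scoped ComplexConjugate commutatorElement

universe u

variable {G : Type u} [Group G] [Fintype G]

namespace RData

variable {t : G} {F : Type} [Field F] [Fintype F] {H P D T : Subgroup G} {w : G} {q k : ℕ}
  (R : RData t F H P D T w q k)
  {i r w' : G} {K A T' : Subgroup G} {a₀ M : ℕ} {Q : ℤ}
include R

theorem card_fixU_dual : Nat.card (↥(fixU t P) →* ℂˣ) = q := by
  classical
  letI : Fintype (fixU t P) := Fintype.ofFinite _
  rw [ReeCover.card_dual fun x hx y hy => (R.U_elem.1 x hx y hy).eq, R.card_U]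

/-- The multiplicities on `U` add up to the degree. -/
theorem sum_U_coef [Fintype (fixU t P)] [Fintype (↥(fixU t P) →* ℂˣ)] (χ : G → ℂ) :
    ∑ l : ↥(fixU t P) →* ℂˣ, lcoef l χ = conj (χ 1) := by
  classical
  have hc : ∀ x ∈ fixU t P, ∀ y ∈ fixU t P, x * y = y * x := fun x hx y hy => (R.U_elem.1 x hx y hy).eq
  have hq : (q : ℂ) ≠ 0 := Nat.cast_ne_zero.2 (by have := R.q_ge; omega)
  simp only [lcoef_eq, R.card_U, ← Finset.mul_sum]
  rw [Finset.sum_comm, Finset.sum_eq_single (1 : fixU t P)]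
  · rw [← Finset.sum_mul, Finset.sum_congr rfl fun l _ => map_one (lin l), Finset.sum_const, Finset.card_univ,
      ← Nat.card_eq_fintype_card, R.card_fixU_dual, nsmul_eq_mul, mul_one, ← mul_assoc, inv_mul_cancel₀ hq,
      one_mul, OneMemClass.coe_one]
  · intro x _ hx
    rw [← Finset.sum_mul, show ∑ l : ↥(fixU t P) →* ℂˣ, lin l x = 0 from ReeCover.sum_lam hc hx, zero_mul]
  · exact fun h => absurd (Finset.mem_univ _) h

/-- The case of a central derived subgroup `U`. -/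
theorem false_of_central (hG : Nat.card G = q ^ 3 * ((q ^ 3 + 1) * (q - 1)))
    (S : Sec t i r w' K (fixU t P) A T' q a₀ M Q) (hQ : Q = (q : ℤ))
    (hder : ⁅P, P⁆ = fixU t P) : False := by
  classical
  letI := Fintype.ofFinite (IrrCharacter G)
  letI : Fintype P := Fintype.ofFinite P
  letI : Fintype (fixU t P) := Fintype.ofFinite _
  haveI := finite_linear P
  letI : Fintype (↥P →* ℂˣ) := Fintype.ofFinite _
  haveI : Finite (↥(fixU t P) →* ℂˣ) := Nat.finite_of_card_ne_zero (by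
    rw [R.card_fixU_dual]; have := R.q_ge; omega)
  letI : Fintype (↥(fixU t P) →* ℂˣ) := Fintype.ofFinite _
  obtain ⟨j, hj⟩ := R.k_odd
  obtain ⟨ψ, Fc⟩ := S.exists_thetaFacts
  have Pp := psiPair_of_facts S Fc
  have hm : (q : ℤ) = 3 * ((3 : ℤ) ^ j) ^ 2 := by rw [R.pow, hj]; push_cast; ring
  have hm3 : (3 : ℤ) ≤ 3 ^ j := le_self_pow₀ (by norm_num) (by have := R.k_three; omega)
  have h8 := R.q8
  obtain ⟨⟨χ, hdeg, hval, hc0, hc, huniq⟩, -⟩ :=
    exists_chars S hQ hm (h := ((q - 1) / 2 : ℕ)) (by omega) hm3 Fc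
  have hne : cvec (theta0 t ψ T') χ ≠ 0 := by rw [hc0]; norm_num
  -- the twisted coefficients vanish
  obtain ⟨e1, e2⟩ := tw_rows S Fc χ
    (fun l hl => thetaT_row S Fc Fc.gen0 (fun l hl => Fc.inner0T l hl) hne huniq l hl)
  rw [hval, hc0, sub_self, mul_eq_zero] at e1
  rw [hc, hc, sub_self] at e2
  have hd : ∀ l : ↥(fixU t P) →* ℂˣ, l ≠ 1 → cvec (twInd t (fixU t P) (lin l)) χ = 0 := by
    intro l hl
    obtain ⟨jj, kk, rfl⟩ := S.cover Pp hl
    rw [cvec_twist S kk]
    have := S.M_pos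
    fin_cases jj <;> simp only [Fin.zero_eta, Fin.mk_one] <;> omega
  have hd1 : cvec (twInd t (fixU t P) (lin (1 : ↥(fixU t P) →* ℂˣ))) χ = -1 := by
    have h := sum_tw_coef S χ
    rwa [Finset.sum_eq_single (1 : ↥(fixU t P) →* ℂˣ) (fun l _ hl => hd l hl)
      (fun h => absurd (Finset.mem_univ _) h), hval] at h
  -- invariant characters are trivial
  have hinv : ∀ a : ↥P →* ℂˣ, R.IsInv a → a = 1 := fun a ha => R.eq_one_of_inv ha (MonoidHom.ext fun x => by
    have hx : (⟨x, x.2.1⟩ : P) ∈ commutator ↥P := by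
      rw [commutator_eq_derived, mem_subgroupOf, hder]; exact x.2
    exact MonoidHom.mem_ker.1 (Abelianization.commutator_subset_ker a hx))
  have hone : lcoef (1 : ↥P →* ℂˣ) (χ : G → ℂ) = 1 := by
    rw [R.abs_coef hG S R.isInv_one χ, show R.resU 1 = 1 from MonoidHom.ext fun _ => rfl, hd1]
    simp
  have hcard : Nat.card (↥P →* ℂˣ) = q ^ 2 := by
    rw [card_linear]
    have h := ((⁅P, P⁆).subgroupOf P).card_mul_index
    rw [Nat.card_congr (subgroupOfEquivOfLe (derived_le (P := P))).toEquiv, R.point.card_P] at h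
    rw [show Nat.card (⁅P, P⁆ : Subgroup G) = q by rw [hder, R.card_U]] at h
    exact Nat.eq_of_mul_eq_mul_left (show 0 < q by have := R.q_ge; omega) (h.trans (by ring))
  obtain ⟨b₀, hb₀⟩ := Fintype.exists_ne_of_one_lt_card (α := ↥P →* ℂˣ) (by
    rw [← Nat.card_eq_fintype_card, hcard]; exact Nat.one_lt_pow two_ne_zero R.one_lt_q) 1
  obtain ⟨n, hn⟩ := lcoef_nat b₀ (Char.IsIrrCharacter.isCharacter χ.2)
  have hall : ∀ b : ↥P →* ℂˣ, b ≠ 1 → lcoef b (χ : G → ℂ) = n := fun b hb => by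
    rw [← hn]
    exact R.coef_eq hG (fun h => hb (hinv b h)) (fun h => hb₀ (hinv b₀ h)) Fc.gen0 Fc.odd0 hne huniq
  have hsum : ∑ b : ↥P →* ℂˣ, lcoef b (χ : G → ℂ) = 1 + ((q : ℂ) ^ 2 - 1) * n := by
    rw [← Finset.add_sum_erase _ _ (Finset.mem_univ (1 : ↥P →* ℂˣ)), hone,
      Finset.sum_congr rfl fun b hb => hall b (Finset.ne_of_mem_erase hb), Finset.sum_const,
      Finset.card_erase_of_mem (Finset.mem_univ _), Finset.card_univ, ← Nat.card_eq_fintype_card, hcard,
      nsmul_eq_mul, Nat.cast_sub (Nat.one_le_pow _ _ R.one_lt_q.le), Nat.cast_pow, Nat.cast_one]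
  -- the multiplicity of the trivial character of `U`
  have hD1 : lcoef (1 : ↥(fixU t P) →* ℂˣ) (χ : G → ℂ) = 1 + ((q : ℂ) ^ 2 - 1) * n := by
    rw [← hsum]
    simp only [lcoef_eq, ← Finset.mul_sum]
    rw [Finset.sum_comm]
    simp only [← Finset.sum_mul, sum_linear, hcard]
    rw [← Fintype.sum_of_injective (fun u : fixU t P => (⟨u, u.2.1⟩ : P))
      (fun u v e => Subtype.ext (congrArg Subtype.val e :))
      (fun u : fixU t P => ((q ^ 2 : ℕ) : ℂ) * conj ((χ : G → ℂ) u)) _ (fun x hx => ?_) (fun u => ?_),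
      R.point.card_P, R.card_U, Finset.mul_sum, Finset.mul_sum]
    · refine Finset.sum_congr rfl fun u _ => ?_
      have hq : (q : ℂ) ≠ 0 := Nat.cast_ne_zero.2 (by have := R.q_ge; omega)
      rw [show lin (1 : ↥(fixU t P) →* ℂˣ) u = 1 from rfl, Nat.cast_pow, Nat.cast_pow]
      field_simp
    · rw [if_neg (fun h => hx ⟨⟨x, hder ▸ h⟩, rfl⟩), zero_mul]
    · rw [if_pos (show ((⟨u, u.2.1⟩ : P) : G) ∈ ⁅P, P⁆ by rw [hder]; exact u.2)]
  -- the other multiplicities on `U`
  have hreal : ∀ g : G, conj ((χ : G → ℂ) g) = (χ : G → ℂ) g := by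
    have h1 : degv G (conjIrr χ) = degv G χ := by
      have h := apply_one_degv (conjIrr χ)
      rw [show (conjIrr χ : G → ℂ) 1 = conj ((χ : G → ℂ) 1) from rfl, apply_one_degv, map_intCast] at h
      exact_mod_cast h.symm
    have h2 : cvec (theta0 t ψ T') (conjIrr χ) ≠ 0 := by
      rw [show cvec (theta0 t ψ T') (conjIrr χ) = Chars.star (cvec (theta0 t ψ T')) χ from rfl,
        cvec_conj Fc.gen0 Fc.gen0 Fc.conj0]
      exact hne
    exact fun g => congrArg (fun φ : IrrCharacter G => (φ : G → ℂ) g) (huniq _ h1 h2)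
  have hrev : ∀ g : G, (χ : G → ℂ) g⁻¹ = (χ : G → ℂ) g := fun g => by
    rw [Char.IsCharacter.apply_inv (Char.IsIrrCharacter.isCharacter χ.2), hreal]
  have hcf := Char.IsIrrCharacter.isClassFunction χ.2
  have heven : ∀ l : ↥(fixU t P) →* ℂˣ, l ≠ 1 → ∃ m : ℕ, lcoef l (χ : G → ℂ) = ((2 * m : ℕ) : ℂ) := by
    intro l hl
    have hn' : ∀ x ∈ fixU t P, t * x * t ∈ fixU t P := fun x hx => by rwa [R.fix_of_mem hx]
    obtain ⟨n₁, n₂, f₁, f₂⟩ := ext_split R.tt hn' (fun h => R.t_not_P h.1) l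
      (fun x => congrArg l (Subtype.ext (R.fix_of_mem x.2))) (Char.IsIrrCharacter.isCharacter χ.2)
    rw [← twInd_inner R.tt _ _ hcf, inner_eq_cvec (twU_gen S l), hd l hl, Int.cast_zero, eq_comm,
      sub_eq_zero, Nat.cast_inj] at f₂
    exact ⟨n₁, by rw [f₁, ← f₂]; push_cast; ring⟩
  let cU : T → (↥(fixU t P) →* ↥(fixU t P)) := fun d =>
    { toFun := fun x => ⟨(d : G) * x * (d : G)⁻¹, R.conj_U_D (R.T_le d.2) x.2⟩
      map_one' := Subtype.ext (by simp)
      map_mul' := fun x y => Subtype.ext (by simp) }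
  have hDconj : ∀ (d : T) (l : ↥(fixU t P) →* ℂˣ),
      lcoef (l.comp (cU d)) (χ : G → ℂ) = lcoef l (χ : G → ℂ) := by
    intro d l
    rw [lcoef_eq, lcoef_eq]
    congr 1
    refine Fintype.sum_equiv
      { toFun := cU d
        invFun := cU d⁻¹
        left_inv := fun x => Subtype.ext (by
          show ((d⁻¹ : T) : G) * ((d : G) * x * (d : G)⁻¹) * ((d⁻¹ : T) : G)⁻¹ = x
          simp only [InvMemClass.coe_inv]; group)
        right_inv := fun x => Subtype.ext (by
          show (d : G) * (((d⁻¹ : T) : G) * x * ((d⁻¹ : T) : G)⁻¹) * (d : G)⁻¹ = x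
          simp only [InvMemClass.coe_inv]; group) } _ _ fun x => ?_
    show lin (l.comp (cU d)) x * _ = lin l (cU d x) * conj ((χ : G → ℂ) ((d : G) * x * (d : G)⁻¹))
    rw [hcf]
    rfl
  have hDinv : ∀ l : ↥(fixU t P) →* ℂˣ, lcoef l⁻¹ (χ : G → ℂ) = lcoef l (χ : G → ℂ) := by
    intro l
    rw [lcoef_eq, lcoef_eq]
    congr 1
    refine Fintype.sum_equiv (Equiv.inv _) _ _ fun x => ?_
    show lin l⁻¹ x * _ = lin l x⁻¹ * conj ((χ : G → ℂ) (x : G)⁻¹)
    rw [hrev, lin_apply, lin_apply, MonoidHom.inv_apply, map_inv]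
  -- the orbit of a character and its inverse
  have hfree : ∀ d : T, ∀ l : ↥(fixU t P) →* ℂˣ, l ≠ 1 → l.comp (cU d) = l → d = 1 := by
    intro d l hl e
    by_contra hd1
    apply hl
    let f : fixU t P → fixU t P := fun x => x⁻¹ * cU d x
    have hinj : Function.Injective f := by
      intro x y e
      have e' : (x : G)⁻¹ * ((d : G) * x * (d : G)⁻¹) = (y : G)⁻¹ * ((d : G) * y * (d : G)⁻¹) :=
        congrArg Subtype.val e
      have h1 : (y : G) * (x : G)⁻¹ = 1 := R.fpf_T d.2 (fun e1 => hd1 (Subtype.ext e1))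
        (mul_mem y.2.1 (inv_mem x.2.1)) (commute_of_conj_eq (by
          calc (d : G) * ((y : G) * (x : G)⁻¹) * (d : G)⁻¹
              = ((d : G) * y * (d : G)⁻¹) * ((d : G) * x * (d : G)⁻¹)⁻¹ := by group
            _ = y * ((y : G)⁻¹ * ((d : G) * y * (d : G)⁻¹)) * ((x : G)⁻¹ * ((d : G) * x * (d : G)⁻¹))⁻¹ * (x : G)⁻¹ := by
              group
            _ = y * (x : G)⁻¹ := by rw [e']; group)).symm
      exact Subtype.ext (mul_inv_eq_one.1 h1).symm
    refine MonoidHom.ext fun z => ?_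
    obtain ⟨x, rfl⟩ := (Finite.injective_iff_surjective.1 hinj) z
    show l (x⁻¹ * cU d x) = 1
    rw [map_mul, map_inv, ← MonoidHom.comp_apply, e, inv_mul_cancel]
  have hcomp : ∀ (d e : T) (l : ↥(fixU t P) →* ℂˣ), (l.comp (cU d)).comp (cU e) = l.comp (cU (d * e)) :=
    fun d e l => MonoidHom.ext fun x => congrArg l (Subtype.ext (by
      show (d : G) * ((e : G) * x * (e : G)⁻¹) * (d : G)⁻¹ = ((d * e : T) : G) * x * ((d * e : T) : G)⁻¹
      rw [Subgroup.coe_mul]; group))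
  have hcone : ∀ l : ↥(fixU t P) →* ℂˣ, l.comp (cU 1) = l := fun l =>
    MonoidHom.ext fun x => congrArg l (Subtype.ext (by simp [cU]))
  obtain ⟨l₀, hl₀⟩ := Fintype.exists_ne_of_one_lt_card (α := ↥(fixU t P) →* ℂˣ) (by
    rw [← Nat.card_eq_fintype_card, R.card_fixU_dual]; exact R.one_lt_q) 1
  let O : T ⊕ T → {l : ↥(fixU t P) →* ℂˣ // l ≠ 1} := fun z => ⟨match z with
    | Sum.inl d => l₀.comp (cU d)
    | Sum.inr d => (l₀.comp (cU d))⁻¹, by
      have key : ∀ d : T, l₀.comp (cU d) ≠ 1 := fun d e => hl₀ (by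
        rw [← hcone l₀, ← mul_inv_cancel d, ← hcomp, e, MonoidHom.one_comp])
      rcases z with d | d
      · exact key d
      · exact fun e => key d (dual_inv_eq_one e)⟩
  have heqT : ∀ d e : T, l₀.comp (cU d) = l₀.comp (cU e) → d = e := fun d e h => by
    have h2 := congrArg (fun f : ↥(fixU t P) →* ℂˣ => f.comp (cU d⁻¹)) h
    simp only [hcomp, mul_inv_cancel, hcone] at h2
    exact (mul_inv_eq_one.1 (hfree _ l₀ hl₀ h2.symm)).symm
  have hne' : ∀ d e : T, l₀.comp (cU d) ≠ (l₀.comp (cU e))⁻¹ := fun d e h => by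
    have h2 := congrArg (fun f : ↥(fixU t P) →* ℂˣ => f.comp (cU e⁻¹)) h
    simp only [MonoidHom.inv_comp, hcomp, mul_inv_cancel, hcone] at h2
    set g := d * e⁻¹
    have h3 : l₀.comp (cU (g * g)) = l₀ := by
      rw [← hcomp, h2, MonoidHom.inv_comp, h2, inv_inv]
    have hg : g = 1 := Subtype.ext (R.eq_one_of_sq_T g.2 (congrArg Subtype.val (hfree _ l₀ hl₀ h3)))
    rw [hg, hcone] at h2
    apply hl₀
    refine MonoidHom.ext fun x => ?_
    have h4 : l₀ x * l₀ x = 1 := by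
      nth_rewrite 1 [h2]; rw [MonoidHom.inv_apply, inv_mul_cancel]
    obtain ⟨c, hc⟩ := R.odd_q
    have h5 : l₀ x ^ q = 1 := by rw [← map_pow, ← R.card_U, pow_card_eq_one', map_one]
    rwa [hc, pow_succ, pow_mul, pow_two, h4, one_pow, one_mul] at h5
  have hOinj : Function.Injective O := by
    intro z z' e
    have e' := congrArg Subtype.val e
    rcases z with d | d <;> rcases z' with d' | d' <;> simp only [O] at e'
    · exact congrArg Sum.inl (heqT _ _ e')
    · exact absurd e' (hne' _ _)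
    · exact absurd e'.symm (hne' _ _)
    · exact congrArg Sum.inr (heqT _ _ (inv_inj.1 e'))
  have hOsurj : Function.Surjective O := (hOinj.bijective_of_nat_card_le (by
    rw [Nat.card_sum, Nat.card_eq_fintype_card (α := {l : ↥(fixU t P) →* ℂˣ // l ≠ 1}),
      Fintype.card_subtype_compl, Fintype.card_subtype_eq, ← Nat.card_eq_fintype_card (α := ↥(fixU t P) →* ℂˣ),
      R.card_fixU_dual]
    have := R.card_T
    omega)).2
  obtain ⟨m, hm'⟩ := heven l₀ hl₀
  have hDall : ∀ l : ↥(fixU t P) →* ℂˣ, l ≠ 1 → lcoef l (χ : G → ℂ) = ((2 * m : ℕ) : ℂ) := by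
    intro l hl
    obtain ⟨z, hz⟩ := hOsurj ⟨l, hl⟩
    have e : _ = l := congrArg Subtype.val hz
    rw [← hm', ← e]
    rcases z with d | d
    · exact hDconj d l₀
    · exact (hDinv _).trans (hDconj d l₀)
  have hdeg' := R.sum_U_coef (χ : G → ℂ)
  rw [← Finset.add_sum_erase _ _ (Finset.mem_univ (1 : ↥(fixU t P) →* ℂˣ)), hD1,
    Finset.sum_congr rfl fun l hl => hDall l (Finset.ne_of_mem_erase hl), Finset.sum_const,
    Finset.card_erase_of_mem (Finset.mem_univ _), Finset.card_univ, ← Nat.card_eq_fintype_card,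
    R.card_fixU_dual, nsmul_eq_mul, Nat.cast_sub R.one_lt_q.le, hreal, apply_one_degv, hdeg] at hdeg'
  have hfin : 1 + ((q : ℤ) ^ 2 - 1) * n + ((q : ℤ) - 1) * (2 * m) = (q : ℤ) ^ 2 - q + 1 := by
    have : ((1 + ((q : ℤ) ^ 2 - 1) * n + ((q : ℤ) - 1) * (2 * m) : ℤ) : ℂ) =
        (((q : ℤ) ^ 2 - q + 1 : ℤ) : ℂ) := by
      push_cast at hdeg' ⊢
      linear_combination hdeg'
    exact_mod_cast this
  have hq27 : (27 : ℤ) ≤ q := by exact_mod_cast R.q_ge
  rcases Nat.eq_zero_or_pos n with rfl | hn0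
  · have h2 : ((q : ℤ) - 1) * (2 * m) = ((q : ℤ) - 1) * q := by push_cast at hfin; linarith
    have h3 := mul_left_cancel₀ (by omega) h2
    obtain ⟨c, hc⟩ := R.odd_q
    omega
  · have h2 : ((q : ℤ) ^ 2 - 1) * 1 ≤ ((q : ℤ) ^ 2 - 1) * n :=
      mul_le_mul_of_nonneg_left (by exact_mod_cast hn0) (by nlinarith)
    have h3 : 0 ≤ ((q : ℤ) - 1) * (2 * m) := mul_nonneg (by omega) (by positivity)
    linarith

set_option maxHeartbeats 400000 in
/-- The case of trivial intersection. -/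
theorem false_of_meet (hG : Nat.card G = q ^ 3 * ((q ^ 3 + 1) * (q - 1)))
    (S : Sec t i r w' K (fixU t P) A T' q a₀ M Q) (hQ : Q = (q : ℤ))
    (hmeet : fixU t P ⊓ ⁅P, P⁆ = ⊥) : False := by
  classical
  letI := Fintype.ofFinite (IrrCharacter G)
  letI : Fintype P := Fintype.ofFinite P
  letI : Fintype (fixU t P) := Fintype.ofFinite _
  letI : Fintype (IrrCharacter ↥P) := Fintype.ofFinite _
  haveI := finite_linear P
  letI : Fintype (↥P →* ℂˣ) := Fintype.ofFinite _
  haveI : Finite (↥(fixU t P) →* ℂˣ) := Nat.finite_of_card_ne_zero (by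
    rw [R.card_fixU_dual]; have := R.q_ge; omega)
  letI : Fintype (↥(fixU t P) →* ℂˣ) := Fintype.ofFinite _
  letI : Fintype (normK K (fixU t P)) := Fintype.ofFinite _
  obtain ⟨j, hj⟩ := R.k_odd
  obtain ⟨ψ, Fc⟩ := S.exists_thetaFacts
  have Pp := psiPair_of_facts S Fc
  have hm : (q : ℤ) = 3 * ((3 : ℤ) ^ j) ^ 2 := by rw [R.pow, hj]; push_cast; ring
  have hm3 : (3 : ℤ) ≤ 3 ^ j := le_self_pow₀ (by norm_num) (by have := R.k_three; omega)
  have h8 := R.q8
  set h := (q - 1) / 2 with hh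
  obtain ⟨-, χ, hdeg, hval, hc0, hc, hc', huniq⟩ :=
    exists_chars S hQ hm (h := (h : ℤ)) (by omega) hm3 Fc
  have hne : cvec (theta t ψ T' A 0) χ ≠ 0 := by rw [hc]; norm_num
  have hM : M = h := by
    have := S.two_M; rw [hQ] at this; omega
  obtain ⟨e1, e2⟩ := tw_rows S Fc χ
    (fun l hl => thetaT_row S Fc (Fc.gen 0) (fun l hl => Fc.innerT' 0 l hl) hne huniq l hl)
  rw [hval, hc0, hM, sub_zero] at e1
  rw [hc, hc'] at e2
  have hh1 : 1 ≤ h := by omega
  have hs : cvec (twInd t (fixU t P) (lin (ψ 0))) χ + cvec (twInd t (fixU t P) (lin (ψ 1))) χ = -1 :=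
    mul_left_cancel₀ (show (h : ℤ) ≠ 0 by omega) (by rw [e1]; ring)
  -- the orbit of `ψ 0`
  set I : Finset (↥(fixU t P) →* ℂˣ) := Finset.univ.image fun kk : normK K (fixU t P) => twK kk (ψ 0)
    with hI
  have hId : ∀ l : ↥(fixU t P) →* ℂˣ, l ≠ 1 →
      cvec (twInd t (fixU t P) (lin l)) χ = if l ∈ I then -1 else 0 := by
    intro l hl
    obtain ⟨jj, kk, rfl⟩ := S.cover Pp hl
    rw [cvec_twist S kk]
    obtain rfl | rfl : jj = 0 ∨ jj = 1 := by omega
    · rw [if_pos (Finset.mem_image_of_mem _ (Finset.mem_univ kk))]; omega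
    · rw [if_neg, show cvec (twInd t (fixU t P) (lin (ψ 1))) χ = 0 by omega]
      intro hmem
      obtain ⟨kk', -, e⟩ := Finset.mem_image.1 hmem
      refine S.apart Pp (kk⁻¹ * kk') ?_
      rw [S.twK_mul, e, ← S.twK_mul, inv_mul_cancel, S.twK_one]
  have hI1 : (1 : ↥(fixU t P) →* ℂˣ) ∉ I := fun hmem => by
    obtain ⟨kk, -, e⟩ := Finset.mem_image.1 hmem
    apply Pp.ne_one 0
    rw [← S.twK_one (ψ 0), ← inv_mul_cancel kk, S.twK_mul, e]
    exact MonoidHom.ext fun x => rfl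
  have hfib : ∀ l ∈ I, (Finset.univ.filter fun kk : normK K (fixU t P) => twK kk (ψ 0) = l).card = q := by
    intro l hl
    obtain ⟨k₀, -, rfl⟩ := Finset.mem_image.1 hl
    rw [← Fintype.card_subtype, ← Nat.card_eq_fintype_card]
    refine (Nat.card_congr ?_).trans (S.card_stab (Pp.ne_one 0))
    exact
      { toFun := fun kk => ⟨k₀⁻¹ * kk.1, by rw [S.twK_mul, kk.2, ← S.twK_mul, inv_mul_cancel, S.twK_one]⟩
        invFun := fun s => ⟨k₀ * s.1, by rw [S.twK_mul, s.2]⟩
        left_inv := fun kk => Subtype.ext (mul_inv_cancel_left k₀ kk.1)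
        right_inv := fun s => Subtype.ext (inv_mul_cancel_left k₀ s.1) }
  have hIc : I.card = h := by
    have h1 : Nat.card (normK K (fixU t P)) = I.card * q := by
      rw [Nat.card_eq_fintype_card, ← Finset.card_univ,
        Finset.card_eq_sum_card_fiberwise (f := fun kk : normK K (fixU t P) => twK kk (ψ 0)) (t := I)
          fun kk _ => Finset.mem_image_of_mem _ (Finset.mem_univ kk),
        Finset.sum_congr rfl hfib, Finset.sum_const, smul_eq_mul]
    have h2 := S.card_normK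
    rw [h1] at h2
    have h3 : 2 * I.card = q - 1 :=
      Nat.eq_of_mul_eq_mul_left (show 0 < q by omega) (by rw [← h2]; ring)
    omega
  have hd1 : cvec (twInd t (fixU t P) (lin (1 : ↥(fixU t P) →* ℂˣ))) χ = 0 := by
    have hsum := sum_tw_coef S χ
    rw [hval, ← Finset.add_sum_erase _ _ (Finset.mem_univ (1 : ↥(fixU t P) →* ℂˣ)),
      Finset.sum_congr rfl (fun l hl => hId l (Finset.ne_of_mem_erase hl)), Finset.sum_ite_mem,
      Finset.inter_eq_right.2 (fun l hl => Finset.mem_erase.2 ⟨fun e => hI1 (by rw [e] at hl; exact hl), Finset.mem_univ _⟩),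
      Finset.sum_const, hIc, smul_neg, nsmul_eq_mul, mul_one] at hsum
    omega
  have habs : ∑ l : ↥(fixU t P) →* ℂˣ, (cvec (twInd t (fixU t P) (lin l)) χ).natAbs = h := by
    rw [← hIc, Finset.card_eq_sum_ones, ← Finset.sum_subset (Finset.subset_univ I) fun l _ hl => ?_]
    · refine Finset.sum_congr rfl fun l hl => ?_
      rw [hId l (fun e => hI1 (e ▸ hl)), if_pos hl]; rfl
    · by_cases e : l = 1
      · rw [e, hd1]; rfl
      · rw [hId l e, if_neg hl]; rfl
  -- the invariant characters are the characters of `U`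
  have hres : ∀ l : ↥(fixU t P) →* ℂˣ, ∃ a : ↥P →* ℂˣ, R.IsInv a ∧ R.resU a = l := by
    intro l
    set oA : ↥P →* Abelianization ↥P := Abelianization.of with hoA
    let τ : ↥P →* ↥P :=
      { toFun := fun y => ⟨t * y * t, R.tau_P y.2⟩
        map_one' := Subtype.ext (by show t * 1 * t = 1; rw [mul_one, R.tt])
        map_mul' := fun a b => Subtype.ext (by
          show t * (a * b) * t = t * a * t * (t * b * t)
          calc t * ((a : G) * b) * t = t * a * 1 * b * t := by group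
            _ = _ := by rw [← R.tt]; group) }
    let e : ↥(fixU t P) →* Abelianization ↥P := oA.comp (Subgroup.inclusion inf_le_left)
    have mcomm : ∀ x : P, oA x = 1 ↔ (x : G) ∈ ⁅P, P⁆ := fun x => by
      rw [← MonoidHom.mem_ker, hoA, Abelianization.ker_of, commutator_eq_derived, mem_subgroupOf]
    have hinj : Function.Injective e := (injective_iff_map_eq_one e).2 fun x hx =>
      Subtype.ext (mem_bot.1 (hmeet ▸ ⟨x.2, (mcomm ⟨x, x.2.1⟩).1 hx⟩))
    let ρ : ↥P →* Abelianization ↥P := oA * oA.comp τ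
    have hρ : ∀ x, ρ x ∈ e.range := by
      intro x
      have hfix : ((x : G) * (t * x * t))⁻¹ * (t * ((x : G) * (t * x * t)) * t) ∈ ⁅P, P⁆ := by
        have h1 : ((x : G) * (t * x * t))⁻¹ * (t * ((x : G) * (t * x * t)) * t) =
            ⁅(t * (x : G) * t)⁻¹, (x : G)⁻¹⁆ := by
          calc ((x : G) * (t * x * t))⁻¹ * (t * ((x : G) * (t * x * t)) * t)
              = ((x : G) * (t * x * t))⁻¹ * (t * x * t * x * (t * t)) := by group
            _ = ((x : G) * (t * x * t))⁻¹ * (t * x * t * x) := by rw [R.tt, mul_one]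
            _ = _ := by rw [commutatorElement_def]; group
        rw [h1]
        exact commutator_mem_commutator (inv_mem (R.tau_P x.2)) (inv_mem x.2)
      obtain ⟨v, hv, hvx⟩ := R.exists_fix derived_le (mul_mem x.2 (R.tau_P x.2)) hfix
      refine ⟨⟨v, hv⟩, ?_⟩
      show oA ⟨v, hv.1⟩ = oA x * oA (τ x)
      rw [← map_mul, ← inv_mul_eq_one, ← map_inv, ← map_mul, mcomm]
      exact hvx
    let π : ↥P →* ↥(fixU t P) := (MonoidHom.ofInjective hinj).symm.toMonoidHom.comp (ρ.codRestrict e.range hρ)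
    have hπ : ∀ x, e (π x) = ρ x := fun x =>
      congrArg Subtype.val ((MonoidHom.ofInjective hinj).apply_symm_apply ⟨ρ x, hρ x⟩)
    refine ⟨(l.comp π) ^ 2, fun x => ?_, MonoidHom.ext fun v => ?_⟩
    · show (l (π (τ x))) ^ 2 = (l (π x)) ^ 2
      rw [show π (τ x) = π x from hinj (by
        rw [hπ, hπ]
        show oA (τ x) * oA (τ (τ x)) = oA x * oA (τ x)
        rw [show τ (τ x) = x from Subtype.ext (by
          show t * (t * x * t) * t = x
          rw [show t * (t * (x : G) * t) * t = (t * t) * x * (t * t) by group, R.tt, one_mul, mul_one]),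
          mul_comm])]
    · show (l (π ⟨v, v.2.1⟩)) ^ 2 = l v
      rw [show π ⟨v, v.2.1⟩ = v * v from hinj (by
        rw [hπ, map_mul]
        show oA ⟨v, v.2.1⟩ * oA (τ ⟨v, v.2.1⟩) = oA ⟨v, v.2.1⟩ * oA ⟨v, v.2.1⟩
        rw [show τ ⟨v, v.2.1⟩ = ⟨v, v.2.1⟩ from Subtype.ext (R.fix_of_mem v.2)]), ← map_pow]
      refine congrArg l (Subtype.ext ?_)
      rw [SubmonoidClass.coe_pow, Subgroup.coe_mul, ← pow_two, ← pow_mul, show 2 * 2 = 3 + 1 from rfl,
        pow_succ, R.U_elem.2 v v.2, one_mul]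
  have hinvcard : Function.Bijective fun a : {a : ↥P →* ℂˣ // R.IsInv a} => R.resU a.1 := by
    refine ⟨fun a b e => ?_, fun l => ?_⟩
    · have hab : R.IsInv (a.1 * b.1⁻¹) := fun x => by
        rw [MonoidHom.mul_apply, MonoidHom.inv_apply, a.2 x, b.2 x]; rfl
      have h1 : R.resU (a.1 * b.1⁻¹) = 1 := by
        refine MonoidHom.ext fun v => ?_
        have e' : a.1 ⟨v, v.2.1⟩ = b.1 ⟨v, v.2.1⟩ := congrArg (fun f : ↥(fixU t P) →* ℂˣ => f v) e
        show a.1 ⟨v, v.2.1⟩ * (b.1 ⟨v, v.2.1⟩)⁻¹ = 1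
        rw [e', mul_inv_cancel]
      exact Subtype.ext (mul_inv_eq_one.1 (R.eq_one_of_inv hab h1))
    · obtain ⟨a, ha, e⟩ := hres l
      exact ⟨⟨a, ha⟩, e⟩
  choose N hN using fun a : ↥P →* ℂˣ => lcoef_nat a (Char.IsIrrCharacter.isCharacter χ.2)
  have hinvsum : ∑ a : {a : ↥P →* ℂˣ // R.IsInv a}, N a.1 = h := by
    rw [← habs]
    refine Fintype.sum_bijective _ hinvcard _ _ fun a => ?_
    have := (hN a.1).symm.trans (R.abs_coef hG S a.2 χ)
    exact_mod_cast this
  have hlin : 3 ∣ ∑ a : {a : ↥P →* ℂˣ // ¬ R.IsInv a}, N a.1 := by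
    by_cases hex : Nonempty {a : ↥P →* ℂˣ // ¬ R.IsInv a}
    · obtain ⟨a₁⟩ := hex
      rw [Finset.sum_congr rfl fun a _ => show N a.1 = N a₁.1 from Nat.cast_inj.1 ((hN a.1).symm.trans
        ((R.coef_eq hG a.2 a₁.2 (Fc.gen 0) (fun x hx => Fc.odd 0 x hx) hne huniq).trans (hN a₁.1))),
        Finset.sum_const, Finset.card_univ, smul_eq_mul]
      refine Dvd.dvd.mul_right ?_ _
      obtain ⟨i₁, hi₁, hi₂⟩ := R.card_derived
      have hidx : ((⁅P, P⁆).subgroupOf P).index = q ^ (3 - i₁) := by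
        have h1 := ((⁅P, P⁆).subgroupOf P).card_mul_index
        rw [Nat.card_congr (subgroupOfEquivOfLe (derived_le (P := P))).toEquiv, R.point.card_P, hi₂] at h1
        refine Nat.eq_of_mul_eq_mul_left (pow_pos (show 0 < q by omega) i₁) (h1.trans ?_)
        rw [← pow_add]; congr 1; omega
      rw [Fintype.card_subtype_compl, ← Nat.card_eq_fintype_card, card_linear, hidx,
        ← Nat.card_eq_fintype_card, Nat.card_congr (Equiv.ofBijective _ hinvcard), R.card_fixU_dual]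
      refine Nat.dvd_sub (dvd_pow ?_ (by omega)) ?_ <;>
        (rw [R.pow]; exact dvd_pow_self 3 (by have := R.k_three; omega))
    · haveI := not_nonempty_iff.1 hex
      simp
  -- the restriction
  set f : P → ℂ := fun x => (χ : G → ℂ) x with hf
  have hfc := Char.IsCharacter.restrict (Char.IsIrrCharacter.isCharacter χ.2) P
  choose n hn using fun φ : IrrCharacter ↥P =>
    Char.IsCharacter.classInner_nat hfc (Char.IsIrrCharacter.isCharacter φ.2)
  choose dP hdPpos hdP using fun φ : IrrCharacter ↥P => Char.IsIrrCharacter.exists_degree φ.2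
  have htot : (degv G χ : ℂ) = ((∑ φ : IrrCharacter ↥P, n φ * dP φ : ℕ) : ℂ) := by
    have e := congrFun (Char.classFunction_eq_sum (Char.IsCharacter.isClassFunction hfc)) 1
    rw [Finset.sum_apply] at e
    simp only [Pi.smul_apply, smul_eq_mul, OneMemClass.coe_one, apply_one_degv, hn, hdP] at e
    rw [e]; push_cast; rfl
  have hmod : (∑ φ : IrrCharacter ↥P, n φ * dP φ) % 3 = (∑ a : ↥P →* ℂˣ, N a) % 3 := by
    rw [← Fintype.sum_subtype_add_sum_subtype (fun φ : IrrCharacter ↥P => (φ : P → ℂ) 1 = 1)]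
    have h1 : 3 ∣ ∑ φ : {φ : IrrCharacter ↥P // ¬ (φ : P → ℂ) 1 = 1}, n φ.1 * dP φ.1 := by
      refine Finset.dvd_sum fun φ _ => Dvd.dvd.mul_left ?_ _
      obtain ⟨d, hdpos, hd1, hd2⟩ := Char.IsIrrCharacter.degree_dvd_card φ.1.2
      have hd : dP φ.1 = d := Nat.cast_inj.1 ((hdP φ.1).symm.trans hd1)
      rw [R.point.card_P, R.pow, ← pow_mul] at hd2
      obtain ⟨c, -, rfl⟩ := (Nat.dvd_prime_pow Nat.prime_three).1 hd2
      rw [hd]
      refine dvd_pow_self 3 fun e => φ.2 ?_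
      rw [hd1, e, pow_zero, Nat.cast_one]
    have h2 : ∑ φ : {φ : IrrCharacter ↥P // (φ : P → ℂ) 1 = 1}, n φ.1 * dP φ.1 = ∑ a : ↥P →* ℂˣ, N a := by
      refine (Fintype.sum_equiv (Char.linearCharEquiv ↥P) _ _ fun a => ?_).symm
      set φ := (Char.linearCharEquiv ↥P a).1 with hφ
      have hd : dP φ = 1 := Nat.cast_inj.1 (by rw [← hdP, Nat.cast_one]; exact (Char.linearCharEquiv ↥P a).2)
      show N a = n φ * dP φ
      rw [hd, mul_one]
      have h3 : (n φ : ℂ) = conj (N a : ℂ) := by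
        rw [← hn, ← hN]
        exact (Char.classInner_conj_symm _ _).symm
      rw [map_natCast] at h3
      exact_mod_cast h3.symm
    omega
  have hdiv : (3 : ℤ) ∣ degv G χ := by
    rw [hdeg]
    exact ((dvd_pow_self 3 (show j ≠ 0 by have := R.k_three; omega)).mul_left _).mul_right _
  rw [show degv G χ = ((∑ φ : IrrCharacter ↥P, n φ * dP φ : ℕ) : ℤ) by exact_mod_cast htot] at hdiv
  have hdiv' : 3 ∣ ∑ φ : IrrCharacter ↥P, n φ * dP φ := by exact_mod_cast hdiv
  have htotal := Fintype.sum_subtype_add_sum_subtype (fun a : ↥P →* ℂˣ => R.IsInv a) N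
  rw [hinvsum] at htotal
  have h3 : q % 3 = 0 := Nat.mod_eq_zero_of_dvd (R.pow ▸ dvd_pow_self 3 (by have := R.k_three; omega))
  omega

end RData

end Cfsg.Agent.PrimePowerTI
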