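import Cfsg.Agent.Lib.PrimePowerTI.ReeCoord
import Cfsg.Agent.Lib.PrimePowerTI.FrobExpand

/-!
# No Sylow 3-subgroup of class three and exponent 3 (S3411)

* `ClassThree.false` : the weights of the torus on the trilinear form `[[x, y], z]` are contradictory
-/

set_option autoImplicit false
set_option linter.style.haveILetI false
set_option linter.unusedSectionVars false

namespace Cfsg.Agent.PrimePowerTI

open Subgroup Cfsg.Agent.AbelianSylow
open scoped commutatorElement

universe u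

variable {G : Type u} [Group G] [Finite G]

theorem commute_commutator_of_cube {a b : G} (ha : a ^ 3 = 1) (hb : b ^ 3 = 1)
    (hab : (a * b) ^ 3 = 1) (hab' : (a * b⁻¹) ^ 3 = 1) : Commute ⁅a, b⁆ a := by
  have ha' : a * a * a = 1 := by rw [← ha, pow_succ, pow_two]
  have hb' : b * b * b = 1 := by rw [← hb, pow_succ, pow_two]
  have h1 : a * b * a = b⁻¹ * a⁻¹ * b⁻¹ := by
    have h : a * b * a * (b * a * b) = 1 := by
      rw [pow_succ, pow_two] at hab; rw [← hab]; group
    rw [eq_inv_of_mul_eq_one_left h]; group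
  have h2 : a * b⁻¹ * a = b * a⁻¹ * b := by
    have h : a * b⁻¹ * a * (b⁻¹ * a * b⁻¹) = 1 := by
      rw [pow_succ, pow_two] at hab'; rw [← hab']; group
    rw [eq_inv_of_mul_eq_one_left h]; group
  have hbb : b⁻¹ * b⁻¹ = b := by rw [← mul_inv_rev, inv_eq_of_mul_eq_one_right hb']
  have hbb' : b⁻¹ = b * b := inv_eq_of_mul_eq_one_left hb'
  have key : a * (b * a * b⁻¹) = b * a * b⁻¹ * a := by
    calc a * (b * a * b⁻¹) = a * b * a * b⁻¹ := by group
      _ = b⁻¹ * a⁻¹ * (b⁻¹ * b⁻¹) := by rw [h1]; group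
      _ = b⁻¹ * a⁻¹ * b := by rw [hbb]
      _ = b * b * a⁻¹ * b := by rw [hbb']
      _ = b * (b * a⁻¹ * b) := by group
      _ = b * a * b⁻¹ * a := by rw [← h2]; group
  have e : ⁅a, b⁆ = a * (b * a * b⁻¹)⁻¹ := by rw [commutatorElement_def]; group
  rw [e]
  exact (Commute.refl a).mul_left (show Commute a (b * a * b⁻¹) from key).symm.inv_left

variable {k : ℕ} {K : Type} [Field K] [CharP K 3] [Fintype K] [NeZero k]

theorem two_mul_eq_zero (hk : Odd k) {d : ZMod k} (h : 2 * d = 0) : d = 0 := by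
  have h' : ((2 * d.val : ℕ) : ZMod k) = 0 := by
    push_cast
    rw [ZMod.natCast_zmod_val]
    exact h
  rw [ZMod.natCast_eq_zero_iff] at h'
  have h2 := (Nat.Coprime.dvd_of_dvd_mul_left (Nat.coprime_two_right.2 hk) h')
  exact (ZMod.val_eq_zero d).1 (Nat.eq_zero_of_dvd_of_lt h2 d.val_lt)

theorem cycle_fix (hK : Fintype.card K = 3 ^ k) {a b c d : ZMod k} (hab : a = b + d) (hbc : b = c + d)
    (hca : c = a + d) (x : K) :
    fr K d (fr K a x * fr K b x * fr K c x) = fr K a x * fr K b x * fr K c x := by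
  rw [map_mul, map_mul, fr_fr hK, fr_fr hK, fr_fr hK, add_comm d a, ← hca, add_comm d b, ← hab,
    add_comm d c, ← hbc]
  ring

namespace ClassThree

variable {t : G} {F : Type} [Field F] [Fintype F] {H P D T : Subgroup G} {w : G} {q : ℕ}
  {Z : Subgroup G}

theorem false_aux (hKc : Fintype.card K = 3 ^ k) (C : ClassThree t P Z q)
    (R : RData t F H P D T w q k) (hcube : ∀ x ∈ P, x ^ 3 = 1) : False := by
  classical
  set Q := ⁅P, P⁆ with hQ
  have hQP : Q ≤ P := RData.derived_le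
  have hq : Nat.card K = q := by rw [Nat.card_eq_fintype_card, hKc, R.pow]
  have hQT : ∀ d ∈ T, ∀ a ∈ Q, d * a * d⁻¹ ∈ Q := fun d hd a ha => R.derived_D (R.T_le hd) ha
  have hPT : ∀ d ∈ T, ∀ a ∈ P, d * a * d⁻¹ ∈ P := fun d hd a ha => R.conj_P_D (R.T_le hd) ha
  have hZT : ∀ d ∈ T, ∀ a ∈ Z, d * a * d⁻¹ ∈ Z := fun d hd a ha =>
    C.Z_conj d (fun x hx => hPT d hd x hx) (fun x hx => by simpa using hPT d⁻¹ (inv_mem hd) x hx) a ha
  have hcomm1 : ∀ a ∈ Q, ∀ b ∈ Q, ⁅a, b⁆ = 1 := fun a ha b hb =>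
    commutatorElement_eq_one_iff_commute.2 (C.derived_comm a ha b hb)
  obtain ⟨φX, χX, X⟩ := R.exists_coord hq le_rfl hQP
    (fun a ha b hb => commutator_mem_commutator ha hb) hPT hQT
    (by rw [R.point.card_P, C.card_derived]; ring)
  obtain ⟨φU, χU, XU⟩ := R.exists_coord hq hQP C.Z_le
    (fun a ha b hb => hcomm1 a ha b hb ▸ one_mem Z) hQT hZT (by rw [C.card_derived, C.card_Z, pow_two])
  obtain ⟨φZ, χZ, XZ⟩ := R.exists_coord hq (C.Z_le.trans hQP) bot_le
    (fun a ha b hb => mem_bot.2 (hcomm1 a (C.Z_le ha) b (C.Z_le hb))) hZT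
    (fun d hd a ha => by rw [mem_bot] at ha; rw [ha]; exact mem_bot.2 (by group))
    (by rw [C.card_Z, card_bot, one_mul])
  -- freeness on `P' / Z` and on `Z`
  have hUZ : ∀ u ∈ RData.fixU t P, u ∈ Z → u = 1 := fun u hu hz =>
    C.nondeg u hu fun x hx => C.Z_central u hz x hx
  have hfreeZ : ∀ d ∈ T, ∀ a ∈ Z, a ∉ (⊥ : Subgroup G) → a⁻¹ * (d * a * d⁻¹) ∈ (⊥ : Subgroup G) → d = 1 := by
    intro d hd a ha hne he
    by_contra hd1
    exact hne (mem_bot.2 (R.fpf_T hd hd1 ((C.Z_le.trans hQP) ha)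
      (commute_of_conj_eq (inv_mul_eq_one.1 (mem_bot.1 he)).symm).symm))
  have hfreeU : ∀ d ∈ T, ∀ a ∈ Q, a ∉ Z → a⁻¹ * (d * a * d⁻¹) ∈ Z → d = 1 := by
    intro d hd a ha hne he
    by_contra hd1
    have hn : Z ⊔ RData.fixU t P = Q := by
      have hc : RData.fixU t P ≤ centralizer (Z : Set G) := fun u hu =>
        mem_centralizer_iff.2 fun z hz => (C.Z_central z hz u hu.1).eq
      have h2 := PLocal.card_sup_mul_card_inf (H := Z) (K := RData.fixU t P)
        (hc.trans (Subgroup.centralizer_le_normalizer _))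
      have hinf : Z ⊓ RData.fixU t P = ⊥ :=
        (Subgroup.eq_bot_iff_forall _).2 fun u hu => hUZ u hu.2 hu.1
      rw [hinf, card_bot, mul_one, C.card_Z, R.card_U] at h2
      exact eq_of_le_of_card_ge (sup_le C.Z_le C.U_le) (by rw [C.card_derived, h2, pow_two])
    rw [← hn] at ha
    obtain ⟨z, hz, u, hu, rfl⟩ := TwoTrans.exists_mul_of_mem_sup
      ((show RData.fixU t P ≤ centralizer (Z : Set G) from fun u hu =>
        mem_centralizer_iff.2 fun z hz => (C.Z_central z hz u hu.1).eq).trans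
          (Subgroup.centralizer_le_normalizer _)) ha
    refine hne (mul_mem hz ?_)
    have h1 : u⁻¹ * (d * u * d⁻¹) ∈ Z := by
      have e : u⁻¹ * (d * u * d⁻¹) = (d * z * d⁻¹)⁻¹ * z * ((z * u)⁻¹ * (d * (z * u) * d⁻¹)) := by
        have hc1 := C.Z_central (d * z * d⁻¹) (hZT d hd z hz) (u⁻¹) (inv_mem hu.1)
        calc u⁻¹ * (d * u * d⁻¹) = (d * z * d⁻¹)⁻¹ * (u⁻¹ * (d * z * d⁻¹)) * (d * u * d⁻¹) := by
              rw [← hc1.eq]; group
          _ = (d * z * d⁻¹)⁻¹ * (z * u⁻¹ * z⁻¹) * (d * (z * u) * d⁻¹) := by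
              rw [(C.Z_central z hz u⁻¹ (inv_mem hu.1)).eq, mul_inv_cancel_right]; group
          _ = _ := by group
      rw [e]
      exact mul_mem (mul_mem (inv_mem (hZT d hd z hz)) hz) he
    have h2 := hUZ _ (mul_mem (inv_mem hu) (R.conj_U_D (R.T_le hd) hu)) h1
    have hu1 : u = 1 := R.fpf_T hd hd1 hu.1 (commute_of_conj_eq (inv_mul_eq_one.1 h2).symm).symm
    rw [hu1]; exact one_mem Z
  -- the forms
  have hcm : ∀ a ∈ P, ∀ b ∈ P, ⁅a, b⁆ ∈ Q := fun a ha b hb => commutator_mem_commutator ha hb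
  have badd : ∀ a ∈ P, ∀ a' ∈ P, ∀ c ∈ P, φU ⁅a * a', c⁆ = φU ⁅a, c⁆ + φU ⁅a', c⁆ := by
    intro a ha a' ha' c hc
    have hv := hcm a' ha' c hc
    have hv' : a * ⁅a', c⁆ * a⁻¹ ∈ Q := RData.derived_conjP ha hv
    rw [show ⁅a * a', c⁆ = a * ⁅a', c⁆ * a⁻¹ * ⁅a, c⁆ by simp only [commutatorElement_def]; group,
      XU.add _ hv' _ (hcm a ha c hc), add_comm]
    congr 1
    refine (XU.eq_iff hv' hv).2 ?_
    have h := C.Z_central _ (C.comm_mem _ (inv_mem hv) a ha) _ (hQP hv)
    have e : (a * ⁅a', c⁆ * a⁻¹)⁻¹ * ⁅a', c⁆ = (⁅⁅a', c⁆⁻¹, a⁆)⁻¹ := by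
      rw [commutatorElement_def (⁅a', c⁆⁻¹) a]; group
    rw [e]
    exact inv_mem (C.comm_mem _ (inv_mem hv) a ha)
  have bskew : ∀ a ∈ P, ∀ c ∈ P, φU ⁅c, a⁆ = -φU ⁅a, c⁆ := by
    intro a ha c hc
    rw [← commutatorElement_inv, XU.map_inv' (hcm a ha c hc)]
  have bcongr : ∀ a ∈ P, ∀ a' ∈ P, ∀ c ∈ P, φX a = φX a' → φU ⁅a, c⁆ = φU ⁅a', c⁆ := by
    intro a ha a' ha' c hc e
    have hp := (X.eq_iff ha ha').1 e
    have h0 : φU ⁅a⁻¹ * a', c⁆ = 0 :=
      (XU.zero_iff _ (hcm _ (hQP hp) c hc)).2 (C.comm_mem _ hp c hc)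
    conv_rhs => rw [show a' = a * (a⁻¹ * a') by group]
    rw [badd a ha _ (hQP hp) c hc, h0, add_zero]
  choose sX hsX hφX using X.surj
  choose sU hsU hφU using XU.surj
  let β : K → K → K := fun x y => φU ⁅sX x, sX y⁆
  have β_eq : ∀ a ∈ P, ∀ c ∈ P, β (φX a) (φX c) = φU ⁅a, c⁆ := by
    intro a ha c hc
    show φU ⁅sX (φX a), sX (φX c)⁆ = _
    rw [bcongr _ (hsX _) a ha _ (hsX _) (hφX _), bskew _ (hsX _) a ha,
      bcongr _ (hsX _) c hc a ha (hφX _), ← bskew c hc a ha]
  have βl : ∀ x x' y, β (x + x') y = β x y + β x' y := by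
    intro x x' y
    obtain ⟨a, ha, rfl⟩ := X.surj x
    obtain ⟨a', ha', rfl⟩ := X.surj x'
    obtain ⟨c, hc, rfl⟩ := X.surj y
    rw [← X.add a ha a' ha', β_eq _ (mul_mem ha ha') c hc, β_eq a ha c hc, β_eq a' ha' c hc,
      badd a ha a' ha' c hc]
  have βskew : ∀ x y, β y x = -β x y := fun x y => bskew _ (hsX x) _ (hsX y)
  have βr : ∀ x y y', β x (y + y') = β x y + β x y' := fun x y y' => by
    rw [βskew (y + y') x, βl, neg_add, ← βskew, ← βskew]
  have βequiv : ∀ d ∈ T, ∀ x y, β (χX d * x) (χX d * y) = χU d * β x y := by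
    intro d hd x y
    obtain ⟨a, ha, rfl⟩ := X.surj x
    obtain ⟨c, hc, rfl⟩ := X.surj y
    rw [← X.equiv d hd a ha, ← X.equiv d hd c hc, β_eq _ (hPT d hd a ha) _ (hPT d hd c hc), β_eq a ha c hc,
      ← XU.equiv d hd _ (hcm a ha c hc)]
    congr 1
    simp only [commutatorElement_def]; group
  let δ : K → K → K := fun x z => φZ ⁅sU x, sX z⁆
  have δ_eq : ∀ v ∈ Q, ∀ c ∈ P, δ (φU v) (φX c) = φZ ⁅v, c⁆ := by
    intro v hv c hc
    have hp := (XU.eq_iff (hsU (φU v)) hv).1 (hφU _)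
    have hp' := (X.eq_iff (hsX (φX c)) hc).1 (hφX _)
    have e1 : ⁅sU (φU v), c⁆ = ⁅v, c⁆ := by
      conv_rhs => rw [show v = sU (φU v) * ((sU (φU v))⁻¹ * v) by group]
      rw [C.comm_mul_left (hsU _) (C.Z_le hp) hc,
        commutatorElement_eq_one_iff_commute.2 (C.Z_central _ hp c hc), mul_one]
    have e2 : ⁅sU (φU v), sX (φX c)⁆ = ⁅sU (φU v), c⁆ := by
      conv_rhs => rw [show c = sX (φX c) * ((sX (φX c))⁻¹ * c) by group]
      rw [C.comm_mul_right (hsU _) (hsX _) (hQP hp'), hcomm1 _ (hsU _) _ hp', mul_one]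
    show φZ ⁅sU (φU v), sX (φX c)⁆ = _
    rw [e2, e1]
  have δl : ∀ x x' z, δ (x + x') z = δ x z + δ x' z := by
    intro x x' z
    obtain ⟨a, ha, rfl⟩ := XU.surj x
    obtain ⟨a', ha', rfl⟩ := XU.surj x'
    obtain ⟨c, hc, rfl⟩ := X.surj z
    rw [← XU.add a ha a' ha', δ_eq _ (mul_mem ha ha') c hc, δ_eq a ha c hc, δ_eq a' ha' c hc,
      C.comm_mul_left ha ha' hc, XZ.add _ (C.comm_mem a ha c hc) _ (C.comm_mem a' ha' c hc)]
  have δr : ∀ x z z', δ x (z + z') = δ x z + δ x z' := by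
    intro x z z'
    obtain ⟨a, ha, rfl⟩ := XU.surj x
    obtain ⟨c, hc, rfl⟩ := X.surj z
    obtain ⟨c', hc', rfl⟩ := X.surj z'
    rw [← X.add c hc c' hc', δ_eq a ha _ (mul_mem hc hc'), δ_eq a ha c hc, δ_eq a ha c' hc',
      C.comm_mul_right ha hc hc', XZ.add _ (C.comm_mem a ha c hc) _ (C.comm_mem a ha c' hc')]
  have δequiv : ∀ d ∈ T, ∀ x z, δ (χU d * x) (χX d * z) = χZ d * δ x z := by
    intro d hd x z
    obtain ⟨a, ha, rfl⟩ := XU.surj x
    obtain ⟨c, hc, rfl⟩ := X.surj z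
    rw [← XU.equiv d hd a ha, ← X.equiv d hd c hc, δ_eq _ (hQT d hd a ha) _ (hPT d hd c hc),
      δ_eq a ha c hc, ← XZ.equiv d hd _ (C.comm_mem a ha c hc)]
    congr 1
    simp only [commutatorElement_def]; group
  have γzero : ∀ x y, δ (β x y) x = 0 := by
    intro x y
    obtain ⟨a, ha, rfl⟩ := X.surj x
    obtain ⟨c, hc, rfl⟩ := X.surj y
    rw [β_eq a ha c hc, δ_eq _ (hcm a ha c hc) a ha, commutatorElement_eq_one_iff_commute.2
      (commute_commutator_of_cube (hcube a ha) (hcube c hc) (hcube _ (mul_mem ha hc))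
        (hcube _ (mul_mem ha (inv_mem hc)))), XZ.map_one']
  -- expansions
  obtain ⟨bb, hbb⟩ := exists_expansion₂ hKc β βl βr
  obtain ⟨ee, hee⟩ := exists_expansion₂ hKc δ δl δr
  have hbskew : ∀ i j, bb j i = -bb i j := by
    intro i j
    have h := eq_zero_of_sum₂ hKc (c := fun i j => bb i j + bb j i) fun x y => ?_
    · exact eq_neg_of_add_eq_zero_right (congrFun (congrFun h i) j)
    · have e : ∑ i, ∑ j, bb j i * fr K i x * fr K j y = β y x := by
        rw [hbb, Finset.sum_comm]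
        exact Finset.sum_congr rfl fun i _ => Finset.sum_congr rfl fun j _ => by ring
      simp only [add_mul, Finset.sum_add_distrib]
      rw [e, ← hbb, βskew x y, add_neg_cancel]
  have h2 : (2 : K) ≠ 0 := by
    intro e
    have := (CharP.cast_eq_zero_iff K 3 2).1 (by exact_mod_cast e)
    norm_num at this
  have hne : ∀ {v : K}, v = -v → v = 0 := fun {v} e => by
    have : (2 : K) * v = 0 := by linear_combination e
    exact (mul_eq_zero.1 this).resolve_left h2
  have hdiag : ∀ i, bb i i = 0 := fun i => hne (hbskew i i)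
  have hbweight : ∀ d ∈ T, ∀ i j, bb i j * (fr K i (χX d) * fr K j (χX d) - χU d) = 0 := by
    intro d hd
    have h := eq_zero_of_sum₂ hKc
      (c := fun i j => bb i j * (fr K i (χX d) * fr K j (χX d) - χU d)) fun x y => ?_
    · exact fun i j => congrFun (congrFun h i) j
    · have e := βequiv d hd x y
      rw [hbb, hbb, ← sub_eq_zero, Finset.mul_sum, ← Finset.sum_sub_distrib] at e
      rw [← e]
      refine Finset.sum_congr rfl fun i _ => ?_
      rw [Finset.mul_sum, ← Finset.sum_sub_distrib]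
      exact Finset.sum_congr rfl fun j _ => by rw [map_mul, map_mul]; ring
  obtain ⟨i₀, j₀, hb0⟩ : ∃ i j, bb i j ≠ 0 := by
    by_contra hcon
    push Not at hcon
    have hβ0 : ∀ a ∈ P, ∀ c ∈ P, ⁅a, c⁆ ∈ Z := fun a ha c hc => by
      refine (XU.zero_iff _ (hcm a ha c hc)).1 ?_
      rw [← β_eq a ha c hc, hbb]
      simp [hcon]
    have h := card_le_of_le (commutator_le.2 hβ0 : Q ≤ Z)
    rw [C.card_derived, C.card_Z, pow_two] at h
    have hq1 := R.one_lt_q
    nlinarith
  have hij : i₀ ≠ j₀ := fun e => hb0 (e ▸ hdiag i₀)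
  have hχU : ∀ d ∈ T, χU d = fr K i₀ (χX d) * fr K j₀ (χX d) := fun d hd =>
    (sub_eq_zero.1 ((mul_eq_zero.1 (hbweight d hd i₀ j₀)).resolve_left hb0)).symm
  have hXinj : ∀ d ∈ T, χX d = 1 → d = 1 := fun d hd e =>
    XU.chi_injective hfreeU hd (by rw [hχU d hd, e, map_one, map_one, one_mul])
  let hom : T →* K :=
    { toFun := fun d => χX d
      map_one' := X.chi_one
      map_mul' := fun a b => X.chi_mul a.2 b.2 }
  have hominj : Function.Injective hom := fun a b e => by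
    have hane : χX a ≠ 0 := fun e0 => by
      have h := X.chi_mul (inv_mem a.2) a.2
      rw [inv_mul_cancel, X.chi_one, e0, mul_zero] at h
      exact one_ne_zero h
    refine Subtype.ext (inv_mul_eq_one.1 (hXinj _ (mul_mem (inv_mem a.2) b.2) ?_))
    rw [X.chi_mul (inv_mem a.2) b.2, show χX (b : G) = χX a from e.symm,
      ← X.chi_mul (inv_mem a.2) a.2, inv_mul_cancel, X.chi_one]
  haveI : IsCyclic T := isCyclic_of_injective_ringHom hom hominj
  obtain ⟨τ, hτ⟩ := IsCyclic.exists_ofOrder_eq_natCard (α := T)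
  set ω := χX τ
  have hω : orderOf ω = Nat.card T := hτ ▸ orderOf_injective hom hominj τ
  have hTk : 2 * Nat.card T = 3 ^ k - 1 := by rw [R.card_T, R.pow]
  have hsupp : ∀ i j, bb i j ≠ 0 → (i = i₀ ∧ j = j₀) ∨ (i = j₀ ∧ j = i₀) := by
    intro i j hb
    refine pow_pair_unique hTk R.k_three hω hij (fun e => hb (e ▸ hdiag i)) ?_
    rw [← hχU τ τ.2, sub_eq_zero.1 ((mul_eq_zero.1 (hbweight τ τ.2 i j)).resolve_left hb)]
  obtain ⟨s₀, c₀, he0⟩ : ∃ s c, ee s c ≠ 0 := by
    by_contra hcon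
    push Not at hcon
    obtain ⟨u, hu, hu1⟩ : ∃ u ∈ RData.fixU t P, u ≠ 1 := by
      by_contra h
      push Not at h
      have := R.card_U
      rw [(Subgroup.eq_bot_iff_forall _).2 h, card_bot] at this
      have := R.one_lt_q
      omega
    refine hu1 (C.nondeg u hu fun x hx => commutatorElement_eq_one_iff_commute.1 ?_)
    have hm := C.comm_mem u (C.U_le hu) x hx
    refine mem_bot.1 ((XZ.zero_iff _ hm).1 ?_)
    rw [← δ_eq u (C.U_le hu) x hx, hee]
    simp [hcon]
  -- the trilinear form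
  let c3 : ZMod k → ZMod k → ZMod k → K := fun a b c => ∑ s, ee s c * fr K s (bb (a - s) (b - s))
  have hγ : ∀ x y z, δ (β x y) z = ∑ a, ∑ b, ∑ c, c3 a b c * fr K a x * fr K b y * fr K c z := by
    intro x y z
    have e1 : ∀ s, fr K s (β x y) = ∑ a, ∑ b, fr K s (bb (a - s) (b - s)) * fr K a x * fr K b y := by
      intro s
      rw [hbb, map_sum]
      refine Fintype.sum_equiv (Equiv.addRight s) _ _ fun i => ?_
      rw [map_sum]
      refine Fintype.sum_equiv (Equiv.addRight s) _ _ fun j => ?_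
      simp only [Equiv.coe_addRight, add_sub_cancel_right]
      rw [map_mul, map_mul, fr_fr hKc, fr_fr hKc, add_comm s i, add_comm s j]
    simp only [hee, e1, c3, Finset.sum_mul, Finset.mul_sum]
    rw [Finset.sum_comm]
    conv_rhs => arg 2; ext a; rw [Finset.sum_comm]
    conv_rhs => rw [Finset.sum_comm]
    refine Finset.sum_congr rfl fun c _ => ?_
    rw [Finset.sum_comm]
    refine Finset.sum_congr rfl fun a _ => ?_
    rw [Finset.sum_comm]
    exact Finset.sum_congr rfl fun b _ => Finset.sum_congr rfl fun s _ => by ring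
  have hanti1 : ∀ a b c, c3 b a c = -c3 a b c := by
    intro a b c
    simp only [c3, ← Finset.sum_neg_distrib]
    exact Finset.sum_congr rfl fun s _ => by rw [hbskew, map_neg, mul_neg]
  have hanti2 : ∀ a b c, c3 c b a = -c3 a b c := by
    intro a b c
    have h := eq_zero_of_sum₃ hKc (c := fun a b c => c3 a b c + c3 c b a) fun x y z => ?_
    · exact eq_neg_of_add_eq_zero_right (congrFun (congrFun (congrFun h a) b) c)
    · have e : ∑ a, ∑ b, ∑ c, c3 c b a * fr K a x * fr K b y * fr K c z = δ (β z y) x := by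
        rw [hγ]
        conv_lhs => rw [Finset.sum_comm]; arg 2; ext b; rw [Finset.sum_comm]
        conv_lhs => rw [Finset.sum_comm]
        exact Finset.sum_congr rfl fun a _ => Finset.sum_congr rfl fun b _ =>
          Finset.sum_congr rfl fun c _ => by ring
      simp only [add_mul, Finset.sum_add_distrib]
      rw [e, ← hγ]
      have h1 := γzero (x + z) y
      simp only [βl, δl, δr, γzero] at h1
      linear_combination h1
  have hdiff : ∀ a b c, c3 a b c ≠ 0 → a - b = i₀ - j₀ ∨ a - b = -(i₀ - j₀) := by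
    intro a b c h
    obtain ⟨s, -, hs⟩ := Finset.exists_ne_zero_of_sum_ne_zero h
    have hb : bb (a - s) (b - s) ≠ 0 := fun e => hs (by rw [e, map_zero, mul_zero])
    rcases hsupp _ _ hb with ⟨e1, e2⟩ | ⟨e1, e2⟩
    · exact Or.inl (by linear_combination e1 - e2)
    · exact Or.inr (by linear_combination e1 - e2)
  obtain ⟨a, b, c, h3⟩ : ∃ a b c, c3 a b c ≠ 0 := by
    refine ⟨i₀ + s₀, j₀ + s₀, c₀, ?_⟩
    simp only [c3]
    rw [Finset.sum_eq_single s₀]
    · simp only [add_sub_cancel_right]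
      exact mul_ne_zero he0 ((map_ne_zero _).2 hb0)
    · intro s _ hs
      rw [mul_eq_zero, map_eq_zero]
      refine Or.inr (by_contra fun hb => ?_)
      rcases hsupp _ _ hb with ⟨e1, -⟩ | ⟨e1, e2⟩
      · exact hs (by linear_combination -e1)
      · exact hij (sub_eq_zero.1 (two_mul_eq_zero R.k_odd (by linear_combination e1 - e2)))
    · intro hn; exact absurd (Finset.mem_univ _) hn
  set d := i₀ - j₀
  have hd0 : d ≠ 0 := sub_ne_zero.2 hij
  have h1 := hdiff a b c h3
  have h2' : c - b = d ∨ c - b = -d := hdiff c b a (by rw [hanti2]; exact neg_ne_zero.2 h3)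
  have h3' : a - c = d ∨ a - c = -d := by
    have e1 : c3 b c a ≠ 0 := by rw [hanti1, hanti2]; simpa using h3
    exact hdiff a c b (by rw [hanti2]; exact neg_ne_zero.2 e1)
  have hweight : ∀ e ∈ T, χZ e = fr K a (χX e) * fr K b (χX e) * fr K c (χX e) := by
    intro e he
    have h := eq_zero_of_sum₃ hKc
      (c := fun a b c => c3 a b c * (fr K a (χX e) * fr K b (χX e) * fr K c (χX e) - χZ e))
      fun x y z => ?_
    · exact (sub_eq_zero.1 ((mul_eq_zero.1 (congrFun (congrFun (congrFun h a) b) c)).resolve_left h3)).symm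
    · have h5 : δ (β (χX e * x) (χX e * y)) (χX e * z) = χZ e * δ (β x y) z := by
        rw [βequiv e he, δequiv e he]
      rw [hγ, hγ, ← sub_eq_zero, Finset.mul_sum, ← Finset.sum_sub_distrib] at h5
      rw [← h5]
      refine Finset.sum_congr rfl fun a _ => ?_
      rw [Finset.mul_sum, ← Finset.sum_sub_distrib]
      refine Finset.sum_congr rfl fun b _ => ?_
      rw [Finset.mul_sum, ← Finset.sum_sub_distrib]
      exact Finset.sum_congr rfl fun c _ => by rw [map_mul, map_mul, map_mul]; ring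
  obtain ⟨f, hf0, hfix⟩ : ∃ f : ZMod k, f ≠ 0 ∧ fr K f (χZ τ) = χZ τ := by
    rw [hweight τ τ.2]
    have bad : ∀ e : ZMod k, e + e = e ∨ e + e = 0 → e = 0 := fun e he => by
      rcases he with he | he
      · exact left_eq_add.1 he.symm
      · exact two_mul_eq_zero R.k_odd (by rw [two_mul, he])
    rcases h1 with e1 | e1 <;> rcases h2' with e2 | e2 <;> rcases h3' with e3 | e3
    all_goals
      first
        | exact ⟨d, hd0, cycle_fix hKc (by linear_combination e1) (by linear_combination -e2)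
            (by linear_combination -e3) _⟩
        | exact ⟨-d, neg_ne_zero.2 hd0, cycle_fix hKc (by linear_combination e1)
            (by linear_combination -e2) (by linear_combination -e3) _⟩
        | exact absurd (bad d (Or.inl (by linear_combination e1 - e2 - e3))) hd0
        | exact absurd (bad d (Or.inr (by linear_combination e1 - e2 - e3))) hd0
        | exact absurd (bad d (Or.inl (by linear_combination -e1 + e2 + e3))) hd0
  have hoZ : orderOf (χZ τ) = Nat.card T := by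
    rw [XZ.orderOf_chi hfreeZ τ.2, orderOf_coe, hτ]
  have hTpos : 0 < Nat.card T := Nat.card_pos
  have hne0 : χZ τ ≠ 0 := fun e => by
    have h := pow_orderOf_eq_one (χZ (τ : G))
    rw [hoZ, e, zero_pow hTpos.ne'] at h
    exact zero_ne_one h
  rw [fr_apply] at hfix
  have hpow : χZ τ ^ (3 ^ f.val - 1) = 1 := by
    have h := congrArg (fun v => v * (χZ (τ : G))⁻¹) hfix
    rwa [mul_inv_cancel₀ hne0, ← pow_sub_one_mul (by positivity), mul_inv_cancel_right₀ hne0] at h
  have hdvd := orderOf_dvd_of_pow_eq_one hpow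
  rw [hoZ] at hdvd
  have hf1 : 0 < f.val := Nat.pos_of_ne_zero fun e => hf0 ((ZMod.val_eq_zero f).1 e)
  have h6 : 3 ≤ 3 ^ f.val := le_self_pow₀ (by norm_num) hf1.ne'
  have h7 := Nat.le_of_dvd (by omega) hdvd
  have h8 : 3 ^ f.val * 3 ≤ q := by
    rw [R.pow, ← pow_succ]
    exact Nat.pow_le_pow_right (by norm_num) f.val_lt
  have h9 := R.card_T
  generalize 3 ^ f.val = B at h6 h7 h8
  generalize Nat.card T = cT at h7 h9
  clear hTk hω hoZ hdvd hpow
  omega

theorem false (C : ClassThree t P Z q) (R : RData t F H P D T w q k) (hTI : PPTI G) : False := by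
  haveI : Fact (Nat.Prime 3) := ⟨Nat.prime_three⟩
  letI : Fintype (GaloisField 3 k) := Fintype.ofFinite _
  exact false_aux (K := GaloisField 3 k)
    (by rw [← Nat.card_eq_fintype_card, GaloisField.card 3 k (NeZero.ne k)]) C R
    fun x hx => C.cube R hTI hx

end ClassThree

end Cfsg.Agent.PrimePowerTI
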