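import Cfsg.Agent.Lib.PrimePowerTI.TwoCommute
import Cfsg.Agent.Lib.GWDihedral.Main
import Cfsg.Agent.Lib.PSL2.Groups
import Cfsg.Agent.Lib.L34Sylow.Minimal
import Cfsg.Agent.S1169

/-!
# TI prime power cyclic subgroups: the nonabelian Sylow 2-subgroup is dihedral (S3411)

* `psl_of_inverted` : if a rooted involution inverts a root of the central one then `G ≃ L₂(odd)`
* `comm_or_psl` : the Sylow 2-subgroups are abelian or `G ≃ L₂(odd)`
-/

set_option autoImplicit false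
set_option linter.style.haveILetI false
set_option linter.unusedSectionVars false
set_option linter.unusedVariables false

namespace Cfsg.Agent.PrimePowerTI

open Subgroup Cfsg

universe u

local notation "PSLt" => Matrix.ProjectiveSpecialLinearGroup (Fin 2)

variable {G : Type u} [Group G]

/-- A rooted involution `u₀` of `S` inverts the root `v` of `z`. -/
structure Inv (S : Sylow 2 G) (z v u₀ : G) : Prop where
  ctx : Ctx S z
  root : Root v z
  memS : u₀ ∈ (S : Subgroup G)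
  rooted : Rooted u₀
  moves : ¬ Commute u₀ v

namespace Inv

variable {S : Sylow 2 G} {z v u₀ : G}

theorem pair (h : Inv S z v u₀) {a c : G} (ha : a ∈ (S : Subgroup G)) (hc : c ∈ (S : Subgroup G))
    (har : Rooted a) (hcr : Rooted c) (haz : a ≠ z) (hac : Commute a c)
    (hav : Commute a v) (hcv : ¬ Commute c v) : False := by
  have hTI := h.ctx.ti
  have hv := h.root
  obtain ⟨ra, hra⟩ := har
  obtain ⟨rc, hrc⟩ := hcr
  have hcz : Commute c z := h.ctx.central c hc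
  have hazc : Commute a z := h.ctx.central a ha
  obtain ⟨-, hvra, hroot⟩ := hv.fix hTI hra haz.symm hazc.symm hav
  have hcinv : c * v * c⁻¹ = v⁻¹ := (hv.conj hTI hcz).resolve_left fun e => hcv (commute_of_conj_eq e)
  have hrainv : c * ra * c⁻¹ = ra⁻¹ := by
    refine (hra.conj hTI hac.symm).resolve_left fun e => ?_
    have e' : c * (v * ra) * c⁻¹ = v⁻¹ * ra := by
      rw [show c * (v * ra) * c⁻¹ = c * v * c⁻¹ * (c * ra * c⁻¹) by group, hcinv, e]
    rcases hroot.conj hTI (hcz.mul_right hac.symm) with e2 | e2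
    · exact hv.ne_inv (mul_right_cancel (e'.symm.trans e2)).symm
    · rw [e', mul_inv_rev, (hvra.inv_inv).symm.eq] at e2
      exact hra.ne_inv (mul_left_cancel e2)
  have hne1 : c ≠ z := fun e => hcv (e ▸ hv.commute.symm)
  have hne2 : c ≠ a := fun e => hcv (e ▸ hav)
  have hne3 : c ≠ z * a := fun e => hcv (e ▸ hv.commute.symm.mul_left hav)
  have hzrc : ¬ Commute z rc := fun hz' => hcv (by
    exact (hrc.fix hTI hv hne1 hcz hz').1)
  have harc : ¬ Commute a rc := fun ha' => by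
    have h1 := (hrc.fix hTI hra hne2 hac.symm ha').1
    exact hra.ne_inv ((conj_eq_of_commute h1).symm.trans hrainv)
  have hfix : Commute (z * a) rc := by
    refine commute_of_conj_eq ?_
    rw [← conj_conj z a rc, (hrc.conj hTI hac).resolve_left fun e => harc (commute_of_conj_eq e),
      show z * rc⁻¹ * z⁻¹ = (z * rc * z⁻¹)⁻¹ by group,
      (hrc.conj hTI hcz.symm).resolve_left fun e => hzrc (commute_of_conj_eq e), inv_inv]
  have h1 := conj_eq_of_commute (hrc.fix hTI hroot hne3 (hcz.mul_right hac.symm) hfix).1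
  rw [show c * (v * ra) * c⁻¹ = c * v * c⁻¹ * (c * ra * c⁻¹) by group, hcinv, hrainv,
    (hvra.inv_inv).eq, ← mul_inv_rev] at h1
  exact hroot.ne_inv h1.symm

theorem moves_all (h : Inv S z v u₀) {y : G} (hy : y ∈ (S : Subgroup G)) (hyr : Rooted y)
    (hyz : y ≠ z) : ¬ Commute y v := by
  intro hyv
  by_cases hyu : Commute y u₀
  · exact h.pair hy h.memS hyr h.rooted hyz hyu hyv h.moves
  obtain ⟨c, hc⟩ := exists_big_mul hy h.memS hyr.inv h.rooted.inv hyu
  obtain ⟨r, hrm, hr⟩ := hc.exists_root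
  have hyinv : y⁻¹ = y := inv_eq_of_mul_eq_one_right hyr.inv
  have huinv : u₀⁻¹ = u₀ := inv_eq_of_mul_eq_one_right h.rooted.inv
  have hd1 : y * (y * u₀) * y⁻¹ = (y * u₀)⁻¹ := by
    rw [mul_inv_rev, huinv, hyinv, ← mul_assoc, hyr.inv, one_mul]
  have hd2 : u₀ * (y * u₀) * u₀⁻¹ = (y * u₀)⁻¹ := by
    rw [mul_inv_rev, huinv, hyinv, mul_assoc, mul_assoc y, h.rooted.inv, mul_one]
  have hcS : c ∈ (S : Subgroup G) := (zpowers_le.2 (mul_mem hy h.memS)) hc.mem_zpowers'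
  have hcy : Commute y c := commute_of_conj_eq <| by
    rw [conj_inv_of_mem hd1 hc.mem_zpowers', hr.self_inv]
  have hcu : Commute u₀ c := commute_of_conj_eq <| by
    rw [conj_inv_of_mem hd2 hc.mem_zpowers', hr.self_inv]
  have hcz : c ≠ z := by
    rintro rfl
    exact hr.ne_inv ((conj_eq_of_commute (h.root.fix_all h.ctx.ti hr hyr hcy.symm hyv)).symm.trans
      (conj_inv_of_mem hd1 hrm))
  by_cases hcv : Commute c v
  · exact h.pair hcS h.memS hc.rooted h.rooted hcz hcu.symm hcv h.moves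
  · exact h.pair hy hcS hyr hc.rooted hyz hcy hyv hcv

theorem inverts_root (h : Inv S z v u₀) {y r : G} (hy : y ∈ (S : Subgroup G)) (hyr : Rooted y)
    (hyz : y ≠ z) (hr : Root r z) : y * r * y⁻¹ = r⁻¹ :=
  h.root.inverts_all h.ctx.ti hr hyr (h.ctx.central y hy).symm (h.moves_all hy hyr hyz)

theorem roots_comm (h : Inv S z v u₀) {x y : G} (hx : Root x z) (hy : Root y z) : Commute x y :=
  h.root.roots_commute h.ctx.ti h.rooted (h.ctx.central u₀ h.memS).symm h.moves hx hy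

theorem part_eq (h : Inv S z v u₀) {x a : G} (hx : x ∈ (S : Subgroup G)) (hxa : Big x a) : a = z := by
  by_contra haz
  obtain ⟨r, hrm, hr⟩ := hxa.exists_root
  have hrS : r ∈ (S : Subgroup G) := (zpowers_le.2 hx) hrm
  refine h.moves_all (hr.sq ▸ mul_mem hrS hrS) hxa.rooted haz ?_
  rw [← hr.sq]
  exact h.root.conj_sq h.ctx.ti (h.ctx.central r hrS)

theorem big_of_sq_ne (h : Inv S z v u₀) {x : G} (hx : x ∈ (S : Subgroup G)) (h2 : x * x ≠ 1) :
    Big x z := by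
  obtain ⟨a, ha⟩ := (mem_cases S hx).resolve_left h2
  exact h.part_eq hx ha ▸ ha

theorem inverts_big (h : Inv S z v u₀) {x : G} (hx : x ∈ (S : Subgroup G)) (hxz : Big x z) :
    u₀ * x * u₀⁻¹ = x⁻¹ := by
  induction hn : orderOf x using Nat.strong_induction_on generalizing x with
  | _ n ih =>
  subst hn
  have hu2 := h.rooted.inv
  have huinv : u₀⁻¹ = u₀ := inv_eq_of_mul_eq_one_right hu2
  have hu0z : u₀ ≠ z := fun e => h.moves (e ▸ h.root.commute.symm)
  rcases hxz.sq_or_root with ⟨h2, hlt⟩ | hroot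
  · have ih2 := ih _ hlt (mul_mem hx hx) h2 rfl
    obtain ⟨m, hm, -⟩ := id hxz
    have hy := conj_mem_zpowers h.ctx.ti Nat.prime_two hm hxz.mem_zpowers' hxz.ne
      (h.ctx.central u₀ h.memS)
    obtain ⟨k, hk⟩ := mem_zpowers_iff.1 hy
    have hcomm : Commute x (u₀ * x * u₀⁻¹) := hk ▸ (Commute.refl x).zpow_right k
    have hcm : x * (u₀ * x * u₀⁻¹) ∈ zpowers x := mul_mem (mem_zpowers x) hy
    have hc2 : x * (u₀ * x * u₀⁻¹) * (x * (u₀ * x * u₀⁻¹)) = 1 := by
      rw [hcomm.symm.mul_mul_mul_comm,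
        show u₀ * x * u₀⁻¹ * (u₀ * x * u₀⁻¹) = u₀ * (x * x) * u₀⁻¹ by group, ih2, mul_inv_cancel]
    rcases hxz.eq_of_mem hcm hc2 with e | e
    · exact eq_inv_of_mul_eq_one_right e
    · exfalso
      obtain ⟨r, hrm, hr⟩ := hxz.exists_root
      have hux : Root (u₀ * x) z := by
        refine ⟨?_, hr.inv, hr.ne⟩
        calc u₀ * x * (u₀ * x) = (u₀ * x * u₀⁻¹) * x := by rw [huinv]; group
          _ = x * (u₀ * x * u₀⁻¹) := hcomm.eq.symm
          _ = z := e
      obtain ⟨j, hj⟩ := mem_zpowers_iff.1 hrm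
      have hxr : Commute x r := hj ▸ (Commute.refl x).zpow_right j
      have h3 := (h.roots_comm hux hr).mul_left hxr.inv_left
      rw [mul_inv_cancel_right] at h3
      exact hr.ne_inv ((conj_eq_of_commute h3).symm.trans (h.inverts_root h.memS h.rooted hu0z hr))
  · exact h.inverts_root h.memS h.rooted hu0z hroot

theorem big_commute_v (h : Inv S z v u₀) {x : G} (hx : x ∈ (S : Subgroup G)) (hxz : Big x z) :
    Commute x v := by
  rcases h.root.conj h.ctx.ti (h.ctx.central x hx) with e | e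
  · exact commute_of_conj_eq e
  exfalso
  have hu0z : u₀ ≠ z := fun e => h.moves (e ▸ h.root.commute.symm)
  have huv := h.inverts_root h.memS h.rooted hu0z h.root
  have hux := h.inverts_big hx hxz
  have huinv : u₀⁻¹ = u₀ := inv_eq_of_mul_eq_one_right h.rooted.inv
  have hm2 : u₀ * x * (u₀ * x) = 1 := by
    calc u₀ * x * (u₀ * x) = u₀ * x * u₀⁻¹ * x := by rw [huinv]; group
      _ = 1 := by rw [hux, inv_mul_cancel]
  have hmv : Commute (u₀ * x) v := commute_of_conj_eq <| by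
    rw [← conj_conj u₀ x v, e, show u₀ * v⁻¹ * u₀⁻¹ = (u₀ * v * u₀⁻¹)⁻¹ by group, huv, inv_inv]
  have hmvroot : Root (u₀ * x * v) z :=
    ⟨by rw [hmv.symm.mul_mul_mul_comm, hm2, one_mul, h.root.sq], h.root.inv, h.root.ne⟩
  obtain ⟨r, hrm, hr⟩ := hxz.exists_root
  obtain ⟨j, hj⟩ := mem_zpowers_iff.1 hrm
  have hxr : Commute x r := hj ▸ (Commute.refl x).zpow_right j
  have h1 := (h.roots_comm hmvroot hr).mul_left (h.roots_comm h.root hr).inv_left
  rw [mul_inv_cancel_right] at h1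
  have h2 := h1.mul_left hxr.inv_left
  rw [mul_inv_cancel_right] at h2
  exact hr.ne_inv ((conj_eq_of_commute h2).symm.trans (h.inverts_root h.memS h.rooted hu0z hr))

/-- `K = C_S(v)`. -/
def K (S : Sylow 2 G) (v : G) : Subgroup G := (S : Subgroup G) ⊓ centralizer ({v} : Set G)

theorem mem_K {x : G} : x ∈ K S v ↔ x ∈ (S : Subgroup G) ∧ Commute x v := by
  rw [K, Subgroup.mem_inf, mem_centralizer_singleton_iff]
  rfl

theorem v_mem (h : Inv S z v u₀) [Finite G] : v ∈ K S v :=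
  mem_K.2 ⟨h.root.big.mem_sylow S h.ctx.ti h.ctx.central, Commute.refl v⟩

theorem z_mem_K (h : Inv S z v u₀) : z ∈ K S v := mem_K.2 ⟨h.ctx.mem, h.root.commute.symm⟩

theorem conj_K (h : Inv S z v u₀) {k : G} (hk : k ∈ K S v) : u₀ * k * u₀⁻¹ = k⁻¹ := by
  rw [mem_K] at hk
  by_cases h2 : k * k = 1
  · have hkv : Root (k * v) z :=
      ⟨by rw [hk.2.symm.mul_mul_mul_comm, h2, one_mul, h.root.sq], h.root.inv, h.root.ne⟩
    have hu0z : u₀ ≠ z := fun e => h.moves (e ▸ h.root.commute.symm)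
    have e := h.inverts_root h.memS h.rooted hu0z hkv
    rw [show u₀ * (k * v) * u₀⁻¹ = u₀ * k * u₀⁻¹ * (u₀ * v * u₀⁻¹) by group,
      h.inverts_root h.memS h.rooted hu0z h.root, mul_inv_rev, (hk.2.inv_inv).symm.eq] at e
    exact mul_right_cancel e
  · exact h.inverts_big hk.1 (h.big_of_sq_ne hk.1 h2)

theorem commute_K (h : Inv S z v u₀) {p q : G} (hp : p ∈ K S v) (hq : q ∈ K S v) : Commute p q := by
  have e := h.conj_K (mul_mem hp hq)
  rw [show u₀ * (p * q) * u₀⁻¹ = u₀ * p * u₀⁻¹ * (u₀ * q * u₀⁻¹) by group, h.conj_K hp, h.conj_K hq,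
    mul_inv_rev] at e
  exact Commute.inv_inv_iff.1 e

theorem mul_u_mem_K (h : Inv S z v u₀) {s : G} (hs : s ∈ (S : Subgroup G)) (hsK : s ∉ K S v) :
    u₀ * s ∈ K S v := by
  have hu0z : u₀ ≠ z := fun e => h.moves (e ▸ h.root.commute.symm)
  refine mem_K.2 ⟨mul_mem h.memS hs, commute_of_conj_eq ?_⟩
  rw [← conj_conj u₀ s v, (h.root.conj h.ctx.ti (h.ctx.central s hs)).resolve_left fun e =>
    hsK (mem_K.2 ⟨hs, commute_of_conj_eq e⟩), show u₀ * v⁻¹ * u₀⁻¹ = (u₀ * v * u₀⁻¹)⁻¹ by group,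
    h.inverts_root h.memS h.rooted hu0z h.root, inv_inv]

theorem u_not_mem (h : Inv S z v u₀) : u₀ ∉ K S v := fun hu => h.moves (mem_K.1 hu).2

theorem u_mul_not_mem (h : Inv S z v u₀) {k : G} (hk : k ∈ K S v) : u₀ * k ∉ K S v := fun hu =>
  h.u_not_mem ((mul_mem_cancel_right hk).1 hu)

theorem sq_one_central (h : Inv S z v u₀) {b : G} (hb : b ∈ K S v) (hb2 : b * b = 1) {s : G}
    (hs : s ∈ (S : Subgroup G)) : Commute s b := by
  have hub : Commute u₀ b := commute_of_conj_eq (by rw [h.conj_K hb, inv_eq_of_mul_eq_one_right hb2])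
  by_cases hsK : s ∈ K S v
  · exact h.commute_K hsK hb
  · have h1 := hub.mul_left (h.commute_K (h.mul_u_mem_K hs hsK) hb)
    rwa [← mul_assoc, h.rooted.inv, one_mul] at h1

theorem eq_z_of_rooted (h : Inv S z v u₀) {b : G} (hb : b ∈ K S v) (hbr : Rooted b) : b = z :=
  by_contra fun hne => h.moves_all (mem_K.1 hb).1 hbr hne (mem_K.1 hb).2

variable [Finite G]

theorem exists_gen (h : Inv S z v u₀) : ∃ g ∈ K S v, Big g z ∧
    ∀ k ∈ K S v, ∃ i : ℤ, ((g ^ i)⁻¹ * k) * ((g ^ i)⁻¹ * k) = 1 := by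
  classical
  haveI : Fact (Nat.Prime 2) := ⟨Nat.prime_two⟩
  obtain ⟨g, hg, hmax⟩ := Set.exists_max_image (K S v : Set G) orderOf (Set.toFinite _)
    ⟨v, h.v_mem⟩
  have hg2 : g * g ≠ 1 := by
    intro e
    have h1 : orderOf g ≤ 2 := orderOf_le_of_pow_eq_one two_pos (by rwa [pow_two])
    have h2 := hmax v h.v_mem
    rw [h.root.orderOf_eq] at h2
    omega
  have hgz := h.big_of_sq_ne (mem_K.1 hg).1 hg2
  refine ⟨g, hg, hgz, ?_⟩
  intro k hk
  induction hn : orderOf k using Nat.strong_induction_on generalizing k with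
  | _ n ih =>
  subst hn
  by_cases hk2 : k * k = 1
  · exact ⟨0, by rw [zpow_zero, inv_one, one_mul, hk2]⟩
  obtain ⟨m, hm, hm'⟩ := h.big_of_sq_ne (mem_K.1 hk).1 hk2
  obtain ⟨M, hM, hM'⟩ := id hgz
  have hle : m ≤ M := by
    have := hmax k hk
    rw [hm, hM, Nat.pow_le_pow_iff_right (le_refl 2)] at this
    omega
  set j : ℤ := ((2 ^ (M - m) : ℕ) : ℤ) with hj
  have hgk : Commute (g ^ j)⁻¹ k := ((h.commute_K hg hk).zpow_left j).inv_left
  have hlt : orderOf ((g ^ j)⁻¹ * k) < orderOf k := by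
    refine lt_of_le_of_lt (orderOf_le_of_pow_eq_one (n := 2 ^ (m + 1)) (by positivity) ?_) ?_
    · rw [hgk.mul_pow, inv_pow, hm', hj, zpow_natCast, ← pow_mul, ← pow_add,
        show M - m + (m + 1) = M + 1 by omega, hM', inv_mul_cancel]
    · rw [hm]
      exact Nat.pow_lt_pow_right (by norm_num) (by omega)
  obtain ⟨i, hi⟩ := ih _ hlt _ (mul_mem (inv_mem (zpow_mem hg j)) hk) rfl
  refine ⟨j + i, ?_⟩
  rwa [zpow_add, mul_inv_rev, mul_assoc (g ^ i)⁻¹]

theorem card_eq (h : Inv S z v u₀) : Nat.card (S : Subgroup G) = 2 * Nat.card (K S v) := by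
  have h1 : (K S v).relIndex (S : Subgroup G) = 2 := by
    rw [relIndex_eq_two_iff_exists_notMem_and']
    refine ⟨u₀, h.memS, h.u_not_mem, fun s hs => ?_⟩
    by_cases hsK : s ∈ K S v
    · exact Or.inr hsK
    · exact Or.inl (h.mul_u_mem_K hs hsK)
  have hle : K S v ≤ (S : Subgroup G) := inf_le_left
  rw [← relIndex_bot_left, ← relIndex_bot_left, ← relIndex_mul_relIndex ⊥ (K S v) _ bot_le hle, h1,
    mul_comm]

variable [IsSimpleGroup G]

/-- The dihedral case. -/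
theorem dihedral_case (hG : ¬ IsMulCommutative G) (h : Inv S z v u₀)
    (hZ : ∀ b ∈ K S v, b * b = 1 → b = 1 ∨ b = z) :
    ∃ (F : Type) (_ : Field F) (_ : Fintype F), Odd (Fintype.card F) ∧ Nonempty (G ≃* PSLt F) := by
  haveI : Fact (Nat.Prime 2) := ⟨Nat.prime_two⟩
  obtain ⟨g, hg, hgz, hgen⟩ := h.exists_gen
  have hKle : K S v ≤ (S : Subgroup G) := inf_le_left
  have hKg : K S v = zpowers g := by
    refine le_antisymm (fun k hk => ?_) (zpowers_le.2 hg)
    obtain ⟨i, hi⟩ := hgen k hk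
    rw [show k = g ^ i * ((g ^ i)⁻¹ * k) by group]
    refine mul_mem (zpow_mem (mem_zpowers g) i) ?_
    rcases hZ _ (mul_mem (inv_mem (zpow_mem hg i)) hk) hi with e | e
    · exact e ▸ one_mem _
    · exact e ▸ hgz.mem_zpowers'
  obtain ⟨M, hM, -⟩ := id hgz
  have hcard : Nat.card (S : Subgroup G) = 2 * 2 ^ (M + 2) := by
    rw [h.card_eq, hKg, Nat.card_zpowers, hM]
  obtain ⟨e⟩ := PSL2.mulEquiv_dihedral hcard (by
      calc 2 = 2 ^ 1 := rfl
        _ ≤ _ := Nat.pow_le_pow_right (by norm_num) (by omega))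
    (⟨g, (mem_K.1 hg).1⟩ : (S : Subgroup G)) ⟨u₀, h.memS⟩
    (by rw [← orderOf_coe]; exact hM)
    (by
      rw [← orderOf_coe]
      exact orderOf_eq_prime (by rw [pow_two]; exact h.rooted.inv) h.rooted.ne)
    (by
      apply Subtype.ext
      show u₀ * g * u₀ = g⁻¹
      have := h.conj_K hg
      rwa [inv_eq_of_mul_eq_one_right h.rooted.inv] at this)
    (fun hm => h.u_not_mem (by
      obtain ⟨k, hk⟩ := mem_zpowers_iff.1 hm
      have hk' : g ^ k = u₀ := congrArg Subtype.val hk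
      exact hk' ▸ zpow_mem hg k))
  rcases GWDihedral.dihedralGW G inferInstance hG S (2 ^ (M + 2)) (by
      calc 2 = 2 ^ 1 := rfl
        _ ≤ _ := Nat.pow_le_pow_right (by norm_num) (by omega)) ⟨e⟩ with hF | h7
  · exact hF
  · exfalso
    obtain ⟨φ⟩ := h7
    let σ : alternatingGroup (Fin 7) := ⟨Equiv.swap 0 1 * Equiv.swap 1 2 * Equiv.swap 2 3 *
      Equiv.swap 4 5, Equiv.Perm.mem_alternatingGroup.2 (by decide)⟩
    let c : alternatingGroup (Fin 7) := ⟨Equiv.swap 4 5 * Equiv.swap 5 6,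
      Equiv.Perm.mem_alternatingGroup.2 (by decide)⟩
    have hσ : Root (φ.symm σ) (φ.symm (σ * σ)) := by
      refine ⟨(map_mul φ.symm σ σ).symm, ?_, ?_⟩
      · rw [← map_mul, show σ * σ * (σ * σ) = 1 by decide, map_one]
      · rw [Ne, MulEquiv.map_eq_one_iff]; decide
    have hcc : Commute (φ.symm c) (φ.symm (σ * σ)) :=
      Commute.map (show Commute c (σ * σ) by unfold Commute SemiconjBy; decide) φ.symm
    rcases hσ.conj h.ctx.ti hcc with e | e <;>
      · rw [← map_inv, ← map_mul, ← map_mul] at e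
        first
          | exact absurd (φ.symm.injective e) (by decide)
          | (rw [← map_inv] at e; exact absurd (φ.symm.injective e) (by decide))

omit [Finite G] [IsSimpleGroup G] in
theorem conj_class (h : Inv S z v u₀) {g : G} (hg : g ∈ K S v) {i j : ℤ} {b b' : G}
    (hb : b ∈ K S v) (hb2 : b * b = 1) (hb' : b' ∈ K S v) (hb'2 : b' * b' = 1)
    (hr : Rooted (u₀ * (g ^ i * b))) (hr' : Rooted (u₀ * (g ^ j * b'))) (hij : 2 ∣ i - j)
    (hv : v ∈ (S : Subgroup G)) :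
    ∃ s ∈ (S : Subgroup G), s * (u₀ * (g ^ i * b)) * s⁻¹ = u₀ * (g ^ j * b') := by
  obtain ⟨m, hm⟩ := hij
  have hgS : g ^ m ∈ (S : Subgroup G) := zpow_mem (mem_K.1 hg).1 m
  have huinv : u₀⁻¹ = u₀ := inv_eq_of_mul_eq_one_right h.rooted.inv
  have hgu : g ^ m * u₀ = u₀ * g ^ (-m) := by
    have := h.conj_K (zpow_mem hg m)
    rw [huinv] at this
    calc g ^ m * u₀ = u₀ * (u₀ * g ^ m * u₀) := by
          rw [← mul_assoc, ← mul_assoc, h.rooted.inv, one_mul]
      _ = u₀ * g ^ (-m) := by rw [this, zpow_neg]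
  have he : g ^ m * (u₀ * (g ^ i * b)) * (g ^ m)⁻¹ = u₀ * (g ^ j * b) := by
    calc g ^ m * (u₀ * (g ^ i * b)) * (g ^ m)⁻¹ = g ^ m * u₀ * g ^ i * (b * (g ^ m)⁻¹) := by group
      _ = u₀ * g ^ (-m) * g ^ i * ((g ^ m)⁻¹ * b) := by
          rw [hgu, ((h.commute_K hb (zpow_mem hg m)).inv_right).eq]
      _ = u₀ * (g ^ (-m + i + -m) * b) := by group
      _ = u₀ * (g ^ j * b) := by rw [show -m + i + -m = j by omega]
  by_cases hbb : b = b'
  · exact ⟨_, hgS, hbb ▸ he⟩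
  have hr2 : Rooted (u₀ * (g ^ j * b)) := he ▸ hr.map _
  have hprod : u₀ * (g ^ j * b) * (u₀ * (g ^ j * b')) = b * b' := by
    have hc := h.conj_K (mul_mem (zpow_mem hg j) hb)
    rw [huinv] at hc
    calc _ = (u₀ * (g ^ j * b) * u₀) * (g ^ j * b') := by group
      _ = b⁻¹ * b' := by rw [hc]; group
      _ = b * b' := by rw [inv_eq_of_mul_eq_one_right hb2]
  have hcom : Commute (u₀ * (g ^ j * b)) (u₀ * (g ^ j * b')) := by
    show _ = _
    rw [hprod]
    have hc := h.conj_K (mul_mem (zpow_mem hg j) hb')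
    rw [huinv] at hc
    calc b * b' = b' * b := (h.commute_K hb hb').eq
      _ = b'⁻¹ * b := by rw [inv_eq_of_mul_eq_one_right hb'2]
      _ = (u₀ * (g ^ j * b') * u₀) * (g ^ j * b) := by rw [hc]; group
      _ = _ := by group
  have hne : u₀ * (g ^ j * b) ≠ u₀ * (g ^ j * b') := fun e =>
    hbb (mul_left_cancel (mul_left_cancel e))
  have hz : b * b' = z := h.eq_z_of_rooted (mul_mem hb hb') (hprod ▸ hr2.mul h.ctx.ti hr' hne hcom)
  refine ⟨v * g ^ m, mul_mem hv hgS, ?_⟩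
  have hu0z : u₀ ≠ z := fun e => h.moves (e ▸ h.root.commute.symm)
  rw [← conj_conj v (g ^ m) _, he]
  calc v * (u₀ * (g ^ j * b)) * v⁻¹ = (v * u₀ * v⁻¹) * (v * (g ^ j * b) * v⁻¹) := by group
    _ = u₀ * z * (g ^ j * b) := by
        rw [conj_eq_of_commute (mem_K.1 (mul_mem (zpow_mem hg j) hb)).2.symm]
        congr 1
        calc v * u₀ * v⁻¹ = u₀ * (u₀ * v * u₀⁻¹) * v⁻¹ := by
              rw [huinv, ← mul_assoc, ← mul_assoc, h.rooted.inv, one_mul]
          _ = u₀ * (v⁻¹ * v⁻¹) := by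
              rw [h.inverts_root h.memS h.rooted hu0z h.root, mul_assoc]
          _ = u₀ * z := by rw [h.root.symm.sq]
    _ = u₀ * (g ^ j * b') := by
        rw [mul_assoc, ← hz, (h.commute_K (mul_mem hb hb') (mul_mem (zpow_mem hg j) hb)).eq,
          mul_assoc (g ^ j), ← mul_assoc b, hb2, one_mul]

omit [Finite G] [IsSimpleGroup G] in
theorem z_moves_root (h : Inv S z v u₀) {y w : G} (hy : y ∈ (S : Subgroup G)) (hw : Root w y)
    (hyz : y ≠ z) : ¬ Commute z w := fun hzw =>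
  h.moves_all hy ⟨w, hw⟩ hyz (hw.fix h.ctx.ti h.root hyz (h.ctx.central y hy) hzw).1

omit [Finite G] [IsSimpleGroup G] in
theorem fix_roots (h : Inv S z v u₀) {b : G} (hb : b ∈ K S v) (hb2 : b * b = 1) {y w w' : G}
    (hy : y ∈ (S : Subgroup G)) (hyz : y ≠ z) (hw : Root w y) (hw' : Root w' y) (hbw : Commute b w) :
    Commute b w' := by
  have hTI := h.ctx.ti
  have hyzc : Commute y z := h.ctx.central y hy
  have hzw := h.z_moves_root hy hw hyz
  have hzw' := h.z_moves_root hy hw' hyz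
  have hww := hw.roots_commute hTI h.ctx.rooted hyzc hzw hw hw'
  rcases hw'.conj hTI (h.sq_one_central hb hb2 hy).symm with e | e
  · exact commute_of_conj_eq e
  exfalso
  set c := w⁻¹ * w' with hcdef
  have hc2 : c * c = 1 := by
    rw [hcdef, (hww.inv_left).symm.mul_mul_mul_comm, hw.symm.sq, hw'.sq, hw.inv]
  have hzc : Commute z c := by
    refine commute_of_conj_eq ?_
    have e1 := (hw.conj hTI hyzc.symm).resolve_left fun e => hzw (commute_of_conj_eq e)
    have e2 := (hw'.conj hTI hyzc.symm).resolve_left fun e => hzw' (commute_of_conj_eq e)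
    calc z * c * z⁻¹ = (z * w * z⁻¹)⁻¹ * (z * w' * z⁻¹) := by rw [hcdef]; group
      _ = w * w'⁻¹ := by rw [e1, e2, inv_inv]
      _ = w'⁻¹ * w := hww.inv_right.eq
      _ = c⁻¹ := by rw [hcdef, mul_inv_rev, inv_inv]
      _ = c := inv_eq_of_mul_eq_one_right hc2
  have hbcb : b * c * b⁻¹ = w⁻¹ * w'⁻¹ := by
    rw [show b * c * b⁻¹ = (b * w * b⁻¹)⁻¹ * (b * w' * b⁻¹) by rw [hcdef]; group,
      conj_eq_of_commute hbw, e]
  have hroot : Root (b * c) y := by
    refine ⟨?_, hw.inv, hw.ne⟩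
    calc b * c * (b * c) = b * c * b⁻¹ * c := by rw [inv_eq_of_mul_eq_one_right hb2]; group
      _ = w⁻¹ * (w'⁻¹ * w⁻¹) * w' := by rw [hbcb, hcdef]; group
      _ = w⁻¹ * w⁻¹ := by rw [(hww.inv_inv).symm.eq]; group
      _ = y := hw.symm.sq
  exact h.z_moves_root hy hroot hyz ((h.sq_one_central hb hb2 h.ctx.mem).mul_right hzc)

/-- Squares to one in `K` and fixes the roots of the rooted involutions other than `z`. -/
def Fixes (S : Sylow 2 G) (z v b : G) : Prop :=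
  b ∈ K S v ∧ b * b = 1 ∧ ∀ y ∈ (S : Subgroup G), y ≠ z → ∀ w, Root w y → Commute b w

omit [IsSimpleGroup G] in
theorem fixes_conj (h : Inv S z v u₀) {b f : G} (hb : Fixes S z v b) {g : G} (hf : g * b * g⁻¹ = f)
    (hfS : f ∈ (S : Subgroup G)) : Fixes S z v f := by
  have P : ∀ y w, Root w y → Commute y b → Commute b w := by
    intro y w hw hyb
    have hbc : ∀ s ∈ (S : Subgroup G), Commute s b := fun s hs => h.sq_one_central hb.1 hb.2.1 hs
    obtain ⟨c, hc, hcS⟩ := exists_conj_mem S hbc (x := y) (n := 1)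
      (by
        haveI : Fact (Nat.Prime 2) := ⟨Nat.prime_two⟩
        rw [pow_one]
        exact orderOf_eq_prime (by rw [pow_two]; exact hw.inv) hw.ne) hyb
    have h1 : Commute b (c * w * c⁻¹) := by
      by_cases hyz : c * y * c⁻¹ = z
      · have hr : Root (c * w * c⁻¹) z := hyz ▸ hw.map c
        exact h.commute_K hb.1
          (mem_K.2 ⟨hr.big.mem_sylow S h.ctx.ti h.ctx.central, (h.roots_comm hr h.root)⟩)
      · exact hb.2.2 _ hcS hyz _ (hw.map c)
    rw [← conj_eq_of_commute hc] at h1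
    exact (Commute.conj_iff c).1 h1
  have Pf : ∀ y w, Root w y → Commute y f → Commute f w := by
    intro y w hw hyf
    subst hf
    have h1 := P _ _ (hw.map g⁻¹) (by
      have := (Commute.conj_iff g⁻¹).2 hyf
      rwa [show g⁻¹ * (g * b * g⁻¹) * g⁻¹⁻¹ = b by group] at this)
    have h2 := (Commute.conj_iff g).2 h1
    rwa [show g * (g⁻¹ * w * g⁻¹⁻¹) * g⁻¹ = w by group] at h2
  have hfK : f ∈ K S v := mem_K.2 ⟨hfS, Pf z v h.root (h.ctx.central f hfS).symm⟩
  have hf2 : f * f = 1 := by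
    subst hf
    rw [show g * b * g⁻¹ * (g * b * g⁻¹) = g * (b * b) * g⁻¹ by group, hb.2.1]; group
  exact ⟨hfK, hf2, fun y hy _ w hw => Pf y w hw (h.sq_one_central hfK hf2 hy)⟩

theorem no_fixes (hG : ¬ IsMulCommutative G) (h : Inv S z v u₀) {b : G} (hb : Fixes S z v b) :
    b = 1 := by
  by_contra hb1
  haveI : Fact (Nat.Prime 2) := ⟨Nat.prime_two⟩
  let A : Subgroup G :=
    { carrier := {b | Fixes S z v b}
      one_mem' := ⟨one_mem _, one_mul 1, fun y _ _ w _ => Commute.one_left w⟩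
      mul_mem' := fun {p q} hp hq => ⟨mul_mem hp.1 hq.1,
        by rw [(h.commute_K hq.1 hp.1).mul_mul_mul_comm, hp.2.1, hq.2.1, one_mul],
        fun y hy hyz w hw => (hp.2.2 y hy hyz w hw).mul_left (hq.2.2 y hy hyz w hw)⟩
      inv_mem' := fun {p} hp => by rwa [inv_eq_of_mul_eq_one_right hp.2.1] }
  have hA : A ≠ ⊥ := fun e => hb1 (by
    have : b ∈ A := hb
    rwa [e, mem_bot] at this)
  have hsc : IsStronglyClosed A (S : Subgroup G) :=
    ⟨fun x hx => (mem_K.1 hx.1).1, fun x hx g hg => h.fixes_conj hx rfl hg⟩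
  rcases Cfsg.Agent.S1169.result S A hA
    ⟨⟨fun p q => Subtype.ext (h.commute_K p.2.1 q.2.1).eq⟩⟩ hsc with hco | ⟨H, hH⟩
  · exact h.moves (congrArg Subtype.val (hco.is_comm.comm (⟨u₀, h.memS⟩ : (S : Subgroup G))
      ⟨v, (mem_K.1 h.v_mem).1⟩))
  · obtain ⟨g, hg⟩ := isConj_iff.1 (L34Sylow.one_class hH (a := z) (b := b)
      (orderOf_eq_prime (by rw [pow_two]; exact h.root.inv) h.root.ne)
      (orderOf_eq_prime (by rw [pow_two]; exact hb.2.1) hb1))
    have hbz : b = z := h.eq_z_of_rooted hb.1 (hg ▸ h.ctx.rooted.map g)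
    subst hbz
    obtain ⟨w, hw⟩ := h.rooted
    have hu0z : u₀ ≠ b := fun e => h.moves (e ▸ h.root.commute.symm)
    exact h.z_moves_root h.memS hw hu0z (hb.2.2 u₀ h.memS hu0z w hw)

omit [Finite G] [IsSimpleGroup G] in
/-- Either `b` or `b * z` fixes a root of `y`. -/
theorem fixes_or (h : Inv S z v u₀) {b y w : G} (hb : b ∈ K S v) (hb2 : b * b = 1)
    (hy : y ∈ (S : Subgroup G)) (hyz : y ≠ z) (hw : Root w y) :
    Commute b w ∨ Commute (b * z) w := by
  rcases hw.conj h.ctx.ti (h.sq_one_central hb hb2 hy).symm with e | e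
  · exact Or.inl (commute_of_conj_eq e)
  · refine Or.inr (commute_of_conj_eq ?_)
    rw [← conj_conj b z w, (hw.conj h.ctx.ti (h.ctx.central y hy).symm).resolve_left fun e' =>
      h.z_moves_root hy hw hyz (commute_of_conj_eq e'),
      show b * w⁻¹ * b⁻¹ = (b * w * b⁻¹)⁻¹ by group, e, inv_inv]

omit [Finite G] [IsSimpleGroup G] in
/-- A central involution fixing one root of `y` fixes the roots of its `S`-conjugates. -/
theorem fix_conj (h : Inv S z v u₀) {b : G} (hb : b ∈ K S v) (hb2 : b * b = 1) {y y' w w' s : G}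
    (hy' : y' ∈ (S : Subgroup G)) (hy'z : y' ≠ z) (hs : s ∈ (S : Subgroup G)) (e : s * y * s⁻¹ = y')
    (hw : Root w y) (hw' : Root w' y') (hbw : Commute b w) : Commute b w' := by
  refine h.fix_roots hb hb2 hy' hy'z (e ▸ hw.map s) hw' ?_
  rw [← conj_eq_of_commute (h.sq_one_central hb hb2 hs)]
  exact (Commute.conj_iff s).2 hbw

theorem psl (hG : ¬ IsMulCommutative G) (h : Inv S z v u₀) :
    ∃ (F : Type) (_ : Field F) (_ : Fintype F), Odd (Fintype.card F) ∧ Nonempty (G ≃* PSLt F) := by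
  by_cases hZ : ∀ b ∈ K S v, b * b = 1 → b = 1 ∨ b = z
  · exact h.dihedral_case hG hZ
  exfalso
  push Not at hZ
  obtain ⟨b₀, hb₀, hb₀2, hb₀1, hb₀z⟩ := hZ
  haveI : Fact (Nat.Prime 2) := ⟨Nat.prime_two⟩
  have hvS : v ∈ (S : Subgroup G) := (mem_K.1 h.v_mem).1
  have hu0z : u₀ ≠ z := fun e => h.moves (e ▸ h.root.commute.symm)
  obtain ⟨g, hg, hgz, hgen⟩ := h.exists_gen
  have hform : ∀ y ∈ (S : Subgroup G), y ≠ z → Rooted y →
      ∃ (i : ℤ) (c : G), c ∈ K S v ∧ c * c = 1 ∧ y = u₀ * (g ^ i * c) := by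
    intro y hy hyz hyr
    have hyK : y ∉ K S v := fun hk => h.moves_all hy hyr hyz (mem_K.1 hk).2
    obtain ⟨i, hi⟩ := hgen _ (h.mul_u_mem_K hy hyK)
    refine ⟨i, _, mul_mem (inv_mem (zpow_mem hg i)) (h.mul_u_mem_K hy hyK), hi, ?_⟩
    rw [mul_inv_cancel_left, ← mul_assoc, h.rooted.inv, one_mul]
  have hu0 : u₀ = u₀ * (g ^ (0 : ℤ) * 1) := by simp
  obtain ⟨w₀, hw₀⟩ := id h.rooted
  obtain ⟨b, hb, hb2, hb1, hbz, hbw⟩ : ∃ b, b ∈ K S v ∧ b * b = 1 ∧ b ≠ 1 ∧ b ≠ z ∧ Commute b w₀ := by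
    rcases h.fixes_or hb₀ hb₀2 h.memS hu0z hw₀ with e | e
    · exact ⟨b₀, hb₀, hb₀2, hb₀1, hb₀z, e⟩
    · refine ⟨b₀ * z, mul_mem hb₀ h.z_mem_K, ?_, ?_, ?_, e⟩
      · rw [(h.commute_K h.z_mem_K hb₀).mul_mul_mul_comm, hb₀2, h.root.inv, one_mul]
      · intro e1
        exact hb₀z (mul_right_cancel (e1.trans h.root.inv.symm))
      · exact fun e1 => hb₀1 (mul_eq_right.1 e1)
  by_cases hone : ∀ y ∈ (S : Subgroup G), y ≠ z → Rooted y →
      ∃ s ∈ (S : Subgroup G), s * u₀ * s⁻¹ = y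
  · refine hb1 (h.no_fixes hG ⟨hb, hb2, fun y hy hyz w hw => ?_⟩)
    obtain ⟨s, hs, e⟩ := hone y hy hyz ⟨w, hw⟩
    exact h.fix_conj hb hb2 hy hyz hs e hw₀ hw hbw
  push Not at hone
  obtain ⟨y₁, hy₁, hy₁z, hy₁r, hy₁n⟩ := hone
  obtain ⟨i, c, hc, hc2, rfl⟩ := hform y₁ hy₁ hy₁z hy₁r
  have hodd : ¬ 2 ∣ i := by
    intro hd
    obtain ⟨s, hs, e⟩ := h.conj_class hg (i := 0) (j := i) (b := 1) (b' := c) (one_mem _) (one_mul 1)
      hc hc2 (hu0 ▸ h.rooted) hy₁r (by omega) hvS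
    exact hy₁n s hs (by rwa [← hu0] at e)
  obtain ⟨w₁, hw₁⟩ := id hy₁r
  have hclass : ∀ y ∈ (S : Subgroup G), y ≠ z → Rooted y →
      (∃ s ∈ (S : Subgroup G), s * u₀ * s⁻¹ = y) ∨
        ∃ s ∈ (S : Subgroup G), s * (u₀ * (g ^ i * c)) * s⁻¹ = y := by
    intro y hy hyz hyr
    obtain ⟨j, c', hc', hc'2, rfl⟩ := hform y hy hyz hyr
    by_cases hj : 2 ∣ j
    · obtain ⟨s, hs, e⟩ := h.conj_class hg (i := 0) (j := j) (b := 1) (b' := c') (one_mem _)
        (one_mul 1) hc' hc'2 (hu0 ▸ h.rooted) hyr (by omega) hvS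
      exact Or.inl ⟨s, hs, by rwa [← hu0] at e⟩
    · obtain ⟨s, hs, e⟩ := h.conj_class hg (i := i) (j := j) hc hc2 hc' hc'2 hy₁r hyr (by omega) hvS
      exact Or.inr ⟨s, hs, e⟩
  have hfix : ∀ f ∈ K S v, f * f = 1 → Commute f w₀ → Commute f w₁ → f = 1 := by
    intro f hf hf2 h0 h1
    refine h.no_fixes hG ⟨hf, hf2, fun y hy hyz w hw => ?_⟩
    rcases hclass y hy hyz ⟨w, hw⟩ with ⟨s, hs, e⟩ | ⟨s, hs, e⟩
    · exact h.fix_conj hf hf2 hy hyz hs e hw₀ hw h0
    · exact h.fix_conj hf hf2 hy hyz hs e hw₁ hw h1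
  have hbinv : b * w₁ * b⁻¹ = w₁⁻¹ := (hw₁.conj h.ctx.ti
    (h.sq_one_central hb hb2 hy₁).symm).resolve_left fun e =>
      hb1 (hfix b hb hb2 hbw (commute_of_conj_eq e))
  have hfour : ∀ f ∈ K S v, f * f = 1 → f = 1 ∨ f = z ∨ f = b ∨ f = b * z := by
    have key : ∀ f ∈ K S v, f * f = 1 → Commute f w₀ → f = 1 ∨ f = b := by
      intro f hf hf2 h0
      rcases hw₁.conj h.ctx.ti (h.sq_one_central hf hf2 hy₁).symm with e | e
      · exact Or.inl (hfix f hf hf2 h0 (commute_of_conj_eq e))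
      · refine Or.inr ?_
        have h2 : f * b = 1 := by
          refine hfix _ (mul_mem hf hb) ?_ (h0.mul_left hbw) (commute_of_conj_eq ?_)
          · rw [(h.commute_K hb hf).mul_mul_mul_comm, hf2, hb2, one_mul]
          · rw [← conj_conj f b w₁, hbinv, show f * w₁⁻¹ * f⁻¹ = (f * w₁ * f⁻¹)⁻¹ by group, e,
              inv_inv]
        exact (eq_inv_of_mul_eq_one_left h2).trans (inv_eq_of_mul_eq_one_right hb2)
    intro f hf hf2
    rcases h.fixes_or hf hf2 h.memS hu0z hw₀ with e | e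
    · rcases key f hf hf2 e with e' | e'
      · exact Or.inl e'
      · exact Or.inr (Or.inr (Or.inl e'))
    · rcases key (f * z) (mul_mem hf h.z_mem_K)
        (by rw [(h.commute_K h.z_mem_K hf).mul_mul_mul_comm, hf2, h.root.inv, one_mul]) e with e' | e'
      · exact Or.inr (Or.inl (mul_right_cancel (e'.trans h.root.inv.symm)))
      · exact Or.inr (Or.inr (Or.inr (by rw [← e', mul_assoc, h.root.inv, mul_one])))
  -- the subgroup of index two
  have hg'K : g ^ i * c ∈ K S v := mul_mem (zpow_mem hg i) hc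
  set g' := g ^ i * c with hg'def
  have hg'z : Big g' z := by
    obtain ⟨M, hM, hM'⟩ := id hgz
    refine Big.of_pow (k := M) ?_ h.root.inv h.root.ne
    rw [hg'def, ((h.commute_K hg hc).zpow_left i).mul_pow,
      show c ^ 2 ^ (M + 1) = 1 by rw [pow_succ', pow_mul, pow_two, hc2, one_pow], mul_one,
      ← zpow_natCast, ← zpow_mul, mul_comm i, zpow_mul, zpow_natCast, hM']
    obtain ⟨l, rfl⟩ : ∃ l, i = 2 * l + 1 := ⟨i / 2, by omega⟩
    rw [zpow_add, zpow_mul, zpow_two, h.root.inv, one_zpow, one_mul, zpow_one]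
  have huinv : u₀⁻¹ = u₀ := inv_eq_of_mul_eq_one_right h.rooted.inv
  have hswap : ∀ m : ℤ, g' ^ m * u₀ = u₀ * g' ^ (-m) := by
    intro m
    have hc' := h.conj_K (zpow_mem hg'K m)
    rw [huinv] at hc'
    calc g' ^ m * u₀ = u₀ * (u₀ * g' ^ m * u₀) := by
          rw [← mul_assoc, ← mul_assoc, h.rooted.inv, one_mul]
      _ = u₀ * g' ^ (-m) := by rw [hc', zpow_neg]
  let M : Subgroup G :=
    { carrier := {x | ∃ m : ℤ, x = g' ^ m ∨ x = u₀ * g' ^ m}
      one_mem' := ⟨0, Or.inl (zpow_zero g').symm⟩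
      mul_mem' := by
        rintro _ _ ⟨m, rfl | rfl⟩ ⟨n, rfl | rfl⟩
        · exact ⟨m + n, Or.inl (zpow_add g' m n).symm⟩
        · exact ⟨-m + n, Or.inr (by rw [← mul_assoc, hswap, mul_assoc, ← zpow_add])⟩
        · exact ⟨m + n, Or.inr (by rw [mul_assoc, ← zpow_add])⟩
        · exact ⟨-m + n, Or.inl (by
            rw [mul_assoc, ← mul_assoc (g' ^ m), hswap, ← mul_assoc, ← mul_assoc, h.rooted.inv,
              one_mul, ← zpow_add])⟩
      inv_mem' := by
        rintro _ ⟨m, rfl | rfl⟩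
        · exact ⟨-m, Or.inl (zpow_neg g' m).symm⟩
        · exact ⟨m, Or.inr (by rw [mul_inv_rev, huinv, ← zpow_neg, hswap, neg_neg])⟩ }
  have hMS : M ≤ (S : Subgroup G) := by
    rintro _ ⟨m, rfl | rfl⟩
    · exact zpow_mem (mem_K.1 hg'K).1 m
    · exact mul_mem h.memS (zpow_mem (mem_K.1 hg'K).1 m)
  have hbM : b ∉ M := by
    rintro ⟨m, e | e⟩
    · rcases hg'z.eq_of_mem (e ▸ zpow_mem (mem_zpowers g') m) hb2 with e' | e'
      · exact hb1 e'
      · exact hbz e'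
    · exact h.u_mul_not_mem (zpow_mem hg'K m) (e ▸ hb)
  have hK : ∀ k ∈ K S v, ∃ m : ℤ, k = g' ^ m ∨ k = g' ^ m * b := by
    intro k hk
    obtain ⟨j, hj⟩ := hgen k hk
    obtain ⟨o, ho, -⟩ := id hgz
    obtain ⟨l, hl⟩ : ∃ l : ℤ, (orderOf g : ℤ) ∣ i * l - j := by
      have hcop : IsCoprime i (orderOf g : ℤ) := by
        rw [ho]
        push_cast
        exact IsCoprime.pow_right ((Int.prime_two.coprime_iff_not_dvd.2 hodd).symm)
      obtain ⟨a, e, hae⟩ := hcop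
      exact ⟨a * j, ⟨-(e * j), by linear_combination j * hae⟩⟩
    have hgl : g ^ (i * l) = g ^ j := by
      rw [← mul_inv_eq_one, ← zpow_sub, ← orderOf_dvd_iff_zpow_eq_one]
      exact hl
    obtain ⟨f, hf, hf2, rfl⟩ : ∃ f, f ∈ K S v ∧ f * f = 1 ∧ k = g' ^ l * f := by
      refine ⟨(g' ^ l)⁻¹ * k, mul_mem (inv_mem (zpow_mem hg'K l)) hk, ?_,
        (mul_inv_cancel_left _ _).symm⟩
      have hsplit : (g' ^ l)⁻¹ * k = (c ^ l)⁻¹ * ((g ^ j)⁻¹ * k) := by
        rw [hg'def, ((h.commute_K hg hc).zpow_left i).mul_zpow, ← zpow_mul, hgl, mul_inv_rev,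
          mul_assoc]
      have hcl : (c ^ l)⁻¹ * (c ^ l)⁻¹ = 1 := by
        rw [← mul_inv_rev, ← zpow_add, ← two_mul, zpow_mul, zpow_two, hc2, one_zpow, inv_one]
      rw [hsplit, (h.commute_K (mul_mem (inv_mem (zpow_mem hg j)) hk)
        (inv_mem (zpow_mem hc l))).mul_mul_mul_comm, hj, hcl, one_mul]
    obtain ⟨o', ho'⟩ := mem_zpowers_iff.1 hg'z.mem_zpowers'
    rcases hfour f hf hf2 with rfl | rfl | rfl | rfl
    · exact ⟨l, Or.inl (mul_one _)⟩
    · exact ⟨l + o', Or.inl (by rw [zpow_add, ho'])⟩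
    · exact ⟨l, Or.inr rfl⟩
    · exact ⟨l + o', Or.inr (by
        rw [zpow_add, ho', mul_assoc, (h.commute_K h.z_mem_K hb).eq])⟩
  have hidx : M.relIndex (S : Subgroup G) = 2 := by
    rw [relIndex_eq_two_iff_exists_notMem_and]
    refine ⟨b, (mem_K.1 hb).1, hbM, fun s hs => ?_⟩
    by_cases hsK : s ∈ K S v
    · obtain ⟨m, rfl | rfl⟩ := hK s hsK
      · exact Or.inr ⟨m, Or.inl rfl⟩
      · exact Or.inl ⟨m, Or.inl (by rw [mul_assoc, hb2, mul_one])⟩
    · obtain ⟨m, e | e⟩ := hK _ (h.mul_u_mem_K hs hsK)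
      · refine Or.inr ⟨m, Or.inr ?_⟩
        rw [← e, ← mul_assoc, h.rooted.inv, one_mul]
      · refine Or.inl ⟨m, Or.inr ?_⟩
        rw [show s = u₀ * (u₀ * s) by rw [← mul_assoc, h.rooted.inv, one_mul], e, mul_assoc u₀,
          mul_assoc (g' ^ m), hb2, mul_one]
  rcases Cfsg.Agent.S0111.result S M hMS hidx b
      (orderOf_eq_prime (by rw [pow_two]; exact hb2) hb1) (mem_K.1 hb).1 hbM with
    ⟨N, hNn, hNi, hbN⟩ | ⟨x, hx⟩
  · rcases hNn.eq_bot_or_eq_top with e | e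
    · subst e
      rw [index_bot] at hNi
      haveI : IsCyclic G := isCyclic_of_prime_card hNi
      exact hG ⟨⟨mul_comm'⟩⟩
    · exact hbN (e ▸ mem_top b)
  · refine hbz (h.eq_z_of_rooted hb ?_)
    suffices hr : Rooted (x * b * x⁻¹) by
      have := hr.map x⁻¹
      rwa [show x⁻¹ * (x * b * x⁻¹) * x⁻¹⁻¹ = b by group] at this
    obtain ⟨m, e | e⟩ := hx
    · rw [e]
      have h2 : g' ^ m * g' ^ m = 1 := by
        rw [← e, show x * b * x⁻¹ * (x * b * x⁻¹) = x * (b * b) * x⁻¹ by group, hb2]; group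
      rcases hg'z.eq_of_mem (zpow_mem (mem_zpowers g') m) h2 with e' | e'
      · rw [e'] at e
        exact absurd (conj_eq_one_iff.1 e) hb1
      · exact e' ▸ h.ctx.rooted
    · rw [e]
      rcases Int.even_or_odd' m with ⟨l, rfl | rfl⟩
      · have := h.rooted.map (g' ^ (-l))
        rwa [hswap, neg_neg, mul_assoc, ← zpow_neg, neg_neg, ← zpow_add, ← two_mul] at this
      · have := hy₁r.map (g' ^ (-l))
        rwa [← mul_assoc (g' ^ (-l)), hswap, neg_neg, ← zpow_neg, neg_neg, mul_assoc u₀,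
          show g' ^ l * g' = g' ^ (l + 1) by rw [zpow_add, zpow_one], mul_assoc, ← zpow_add,
          show l + 1 + l = 2 * l + 1 by ring] at this

end Inv

variable [Finite G] [IsSimpleGroup G]

/-- In a TI group the Sylow 2-subgroups are abelian or the group is `L₂(q)`, `q` odd. -/
theorem comm_or_psl (hG : ¬ IsMulCommutative G) (hTI : PPTI G) (S : Sylow 2 G) :
    IsMulCommutative (S : Subgroup G) ∨
      ∃ (F : Type) (_ : Field F) (_ : Fintype F), Odd (Fintype.card F) ∧ Nonempty (G ≃* PSLt F) := by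
  by_cases hnc : ∀ a ∈ (S : Subgroup G), ∀ b ∈ (S : Subgroup G), Commute a b
  · exact Or.inl ⟨⟨fun p q => Subtype.ext (hnc p p.2 q q.2).eq⟩⟩
  obtain ⟨z, hc⟩ := exists_ctx hTI S hnc
  obtain ⟨v, hv⟩ := hc.rooted
  obtain ⟨u, hu, hur, huv⟩ := not_all_fix hG hnc hc hv
  exact Or.inr (Inv.psl hG ⟨hc, hv, hu, hur, huv⟩)

end Cfsg.Agent.PrimePowerTI
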