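import Cfsg.Agent.Lib.AbelianSylow.SimpleCases
import Cfsg.Agent.Lib.AbelianSylow.Janko
import Cfsg.Agent.Lib.AbelianSylow.Cent.Main
import Cfsg.Agent.Lib.AbelianSylow.Chars.Main
import Cfsg.Agent.Lib.AbelianSylow.ReeSylow.Local
import Cfsg.Agent.Lib.PSL2.Soluble
import Cfsg.Agent.Lib.PrimePowerTI.TwoDihedral
import Cfsg.Agent.Lib.PrimePowerTI.Converse
import Cfsg.Agent.Lib.PrimePowerTI.ReeWeights
import Cfsg.Agent.Lib.PrimePowerTI.ReeFalse

/-!
# Simple groups whose cyclic subgroups of prime power order are TI (S3411)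

* `ree_false` : groups of Ree type do not occur
* `forward`   : `L₂(q)` or `J₁`
-/

set_option autoImplicit false
set_option linter.unusedSectionVars false
set_option linter.style.haveILetI false

namespace Cfsg.Agent.PrimePowerTI

open Subgroup Cfsg.Agent.AbelianSylow

universe u

local notation "PSLt" => Matrix.ProjectiveSpecialLinearGroup (Fin 2)

variable {G : Type u} [Group G] [Finite G]

/-- A group of Ree type: conjugation by an element of `C(t)`. -/
theorem RData.conj {t : G} {F : Type} [Field F] [Fintype F] {H P D T : Subgroup G} {w : G} {q k : ℕ}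
    (R : RData t F H P D T w q k) {c : G} (hc : Commute c t) :
    RData t F (H.map (MulAut.conj c).toMonoidHom) (P.map (MulAut.conj c).toMonoidHom)
      (D.map (MulAut.conj c).toMonoidHom) (T.map (MulAut.conj c).toMonoidHom) (c * w * c⁻¹) q k := by
  set φ := MulAut.conj c with hφ
  have mem : ∀ (B : Subgroup G) (x : G), x ∈ B.map φ.toMonoidHom ↔ c⁻¹ * x * c ∈ B := fun B x => by
    rw [mem_map_equiv, hφ, MulAut.conj_symm_apply]
  have hct : c⁻¹ * t * c = t := by rw [mul_assoc, ← hc.eq, inv_mul_cancel_left]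
  have card : ∀ B : Subgroup G, Nat.card (B.map φ.toMonoidHom) = Nat.card B := fun B =>
    card_map_of_injective φ.injective
  have hC : (centralizer ({t} : Set G)).map φ.toMonoidHom = centralizer ({t} : Set G) := by
    have hcC : c ∈ centralizer ({t} : Set G) := mem_centralizer_singleton_iff.2 hc.eq
    ext x
    rw [mem]
    exact ⟨fun h => by simpa [mul_assoc] using mul_mem (mul_mem hcC h) (inv_mem hcC),
      fun h => mul_mem (mul_mem (inv_mem hcC) h) hcC⟩
  refine ⟨R.jt, R.card_F, ?_, R.pow, R.k_three, R.k_odd, map_mono R.T_le, by rw [card]; exact R.card_T,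
    fun d hd => ?_⟩
  · have X := R.point
    exact
      { q8 := X.q8
        invol := X.invol
        card_cent := X.card_cent
        t_mem := (mem D t).2 (by rw [hct]; exact X.t_mem)
        P_le := map_mono X.P_le
        D_le := map_mono X.D_le
        normal := (map_mono X.normal).trans (le_normalizer_map φ.toMonoidHom)
        card_P := by rw [card, X.card_P]
        card_D := by rw [card, X.card_D]
        card_H := by rw [card, X.card_H]
        comm := by
          rintro _ ⟨a, ha, rfl⟩ _ ⟨b, hb, rfl⟩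
          rw [← map_mul, X.comm a ha b hb, map_mul]
        index := (index_map_equiv H φ).trans X.index
        semireg := fun g hg p hp hgp => by
          rw [mem] at hg hp hgp
          have h := X.semireg _ hg _ hp (by simpa [mul_assoc] using hgp)
          exact mul_eq_one_iff_eq_inv.1 h |> fun e => by
            calc p = c * (c⁻¹ * p * c) * c⁻¹ := by group
              _ = 1 := by rw [e]; group
        w_not := fun h => X.w_not (by
          have h' := (mem H _).1 h
          simpa [mul_assoc] using h')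
        w_mul := by
          calc c * w * c⁻¹ * (c * w * c⁻¹) = c * (w * w) * c⁻¹ := by group
            _ = 1 := by rw [X.w_mul]; group
        w_inv := fun d hd => by
          rw [mem] at hd
          calc c * w * c⁻¹ * d * (c * w * c⁻¹)⁻¹ = c * (w * (c⁻¹ * d * c) * w⁻¹) * c⁻¹ := by group
            _ = d⁻¹ := by rw [X.w_inv _ hd]; group
        cent_H := by
          rw [← hC, ← map_inf _ _ _ φ.injective, card, X.cent_H]
        proper := fun h => X.proper (by
          refine eq_top_iff.2 fun x _ => ?_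
          have := (mem H (c * x * c⁻¹)).1 (h.symm ▸ mem_top _)
          simpa [mul_assoc] using this)
        ti := fun g hg x hx hgx => by
          rw [mem] at hg hx hgx
          have h := X.ti _ hg _ hx (by simpa [mul_assoc] using hgx)
          calc x = c * (c⁻¹ * x * c) * c⁻¹ := by group
            _ = 1 := by rw [h]; group
        cover := fun g hg => by
          rw [mem] at hg
          obtain ⟨p, hp, h, hh, e⟩ := X.cover _ hg
          refine ⟨c * p * c⁻¹, (mem P _).2 (by simpa [mul_assoc] using hp), c * h * c⁻¹,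
            (mem H _).2 (by simpa [mul_assoc] using hh), ?_⟩
          calc g = c * (c⁻¹ * g * c) * c⁻¹ := by group
            _ = _ := by rw [e]; group }
  · rw [mem] at hd ⊢
    have := R.sq_mem _ hd
    simpa [mul_assoc] using this

theorem RData.map_fixU {t : G} {P : Subgroup G} {c : G} (hc : Commute c t) :
    (RData.fixU t P).map (MulAut.conj c).toMonoidHom = RData.fixU t (P.map (MulAut.conj c).toMonoidHom) := by
  have hcC : c ∈ centralizer ({t} : Set G) := mem_centralizer_singleton_iff.2 hc.eq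
  rw [RData.fixU, map_inf _ _ _ (MulAut.conj c).injective, RData.fixU]
  congr 1
  ext x
  rw [mem_map_equiv, MulAut.conj_symm_apply]
  exact ⟨fun h => by simpa [mul_assoc] using mul_mem (mul_mem hcC h) (inv_mem hcC),
    fun h => mul_mem (mul_mem (inv_mem hcC) h) hcC⟩

/-- Groups of Ree type do not occur. -/
theorem ree_false (hTI : PPTI G) {t : G} {F : Type} [Field F] [Fintype F] (hJ : JTData G t F) {m : ℕ}
    (hm : 1 ≤ m) (hF : Fintype.card F = 3 ^ (2 * m + 1)) : False := by
  classical
  letI := Fintype.ofFinite G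
  haveI : Fact (Nat.Prime 3) := ⟨Nat.prime_three⟩
  have hord := Chars.orderTarget G t F hJ m hm hF
  obtain ⟨H, P, D, w, X⟩ := TwoTrans.exists_point_of_order hJ hF hord
  obtain ⟨T, hT1, hT2, hT3⟩ := exists_torus X
  have R₀ : RData t F H P D T w (Fintype.card F) (2 * m + 1) :=
    ⟨hJ, rfl, hF.symm ▸ X, hF, by omega, ⟨m, rfl⟩, hT1, by rw [hF]; exact hT2, hT3⟩
  obtain ⟨i, r, w', K, U, A, T', a, M, Q, S, hQ, -⟩ :=
    Chars.exists_sec' hJ (by have := R₀.q_ge; omega)
  have hQ' : Q = (Fintype.card F : ℤ) := hQ R₀.q8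
  set q := Fintype.card F with hq
  -- align `U`
  have hle : RData.fixU t P ≤ K := fun x hx =>
    ReeSylow.mem_K_of_odd S (RData.mem_fixU.1 hx).2 R₀.odd_q (R₀.U_pow hx)
  have hidx : ∀ B : Subgroup G, B ≤ K → Nat.card B = q →
      IsPGroup 3 (B.subgroupOf K) ∧ ¬ 3 ∣ (B.subgroupOf K).index := by
    intro B hB hc
    have hc' : Nat.card (B.subgroupOf K) = q := by
      rw [Nat.card_congr (subgroupOfEquivOfLe hB).toEquiv, hc]
    refine ⟨IsPGroup.of_card (hc'.trans hF), fun hd => ?_⟩
    have h := (B.subgroupOf K).card_mul_index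
    rw [hc'] at h
    have h2 : 2 * (B.subgroupOf K).index = q ^ 2 - 1 :=
      Nat.eq_of_mul_eq_mul_left (show 0 < q by have := R₀.q_ge; omega) (by rw [← S.card_K, ← h]; ring)
    have h3 : 3 ∣ q ^ 2 := hF ▸ dvd_pow (dvd_pow_self 3 (by omega)) two_ne_zero
    have h4 : 1 ≤ q ^ 2 := Nat.one_le_pow _ _ (by have := R₀.q_ge; omega)
    have h5 : 3 ∣ q ^ 2 - 1 := h2 ▸ hd.mul_left 2
    omega
  obtain ⟨p1, p2⟩ := hidx _ hle R₀.card_U
  obtain ⟨p3, p4⟩ := hidx U S.U_le S.card_U
  obtain ⟨c, hc⟩ := MulAction.exists_smul_eq K (p1.toSylow p2) (p3.toSylow p4)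
  have hct : Commute (c : G) t := (S.comm_K c c.2).symm
  have hU : (RData.fixU t P).map (MulAut.conj (c : G)).toMonoidHom = U := by
    refine eq_of_le_of_card_ge ?_ ?_
    · rintro _ ⟨x, hx, rfl⟩
      have h1 : c * (⟨x, hle hx⟩ : K) * c⁻¹ ∈ ((p3.toSylow p4 : Sylow 3 K) : Subgroup K) := by
        rw [← hc, Sylow.coe_subgroup_smul]
        refine ⟨⟨x, hle hx⟩, ?_, rfl⟩
        exact hx
      exact h1
    · rw [card_map_of_injective (MulAut.conj (c : G)).injective, R₀.card_U, S.card_U]
  rw [RData.map_fixU hct] at hU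
  subst hU
  have R := R₀.conj hct
  have hG : Nat.card G = q ^ 3 * ((q ^ 3 + 1) * (q - 1)) := by rw [hord, hF, mul_assoc]
  haveI : NeZero (2 * m + 1) := ⟨by omega⟩
  rcases R.cases with h | ⟨h, -⟩ | ⟨Z, C⟩
  · exact R.false_of_meet hG S hQ' h
  · exact R.false_of_central hG S hQ' h
  · exact C.false R hTI

/-- `L₂(q)` or `J₁`. -/
theorem forward [IsSimpleGroup G] (hG : ¬ IsMulCommutative G) (hTI : PPTI G) :
    (∃ (F : Type) (_ : Field F) (_ : Fintype F), 3 < Fintype.card F ∧ Nonempty (G ≃* PSLt F)) ∨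
      Cfsg.Spor.IsoJ1 G := by
  haveI : Fact (Nat.Prime 2) := ⟨Nat.prime_two⟩
  obtain ⟨S⟩ : Nonempty (Sylow 2 G) := inferInstance
  rcases comm_or_psl hG hTI S with hS | ⟨F, _, _, hodd, ⟨e⟩⟩
  · rcases simple_cases hG S hS with ⟨a, ha, F, _, _, hF, he⟩ | ⟨F, _, _, ⟨-, h5⟩, he⟩ | h
    · refine Or.inl ⟨F, inferInstance, inferInstance, ?_, he⟩
      rw [hF]
      exact lt_of_lt_of_le (by norm_num : 3 < 2 ^ 2) (Nat.pow_le_pow_right (by norm_num) ha)
    · exact Or.inl ⟨F, inferInstance, inferInstance, by omega, he⟩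
    · obtain ⟨t, F, _, _, hJ⟩ := centTarget G h
      rcases Chars.threeTarget G t F hJ with h5 | ⟨m, hm, hF⟩
      · exact Or.inr (jt_five hJ h5).2
      · exact (ree_false hTI hJ hm hF).elim
  · refine Or.inl ⟨F, inferInstance, inferInstance, ?_, ⟨e⟩⟩
    by_contra hlt
    have h1 : 1 < Fintype.card F := Fintype.one_lt_card
    have h3 : Fintype.card F = 3 := by obtain ⟨j, hj⟩ := hodd; omega
    have hc := PSL2.card_psl_mul (F := F)
    have hF3 : Nat.card F = 3 := by rw [Nat.card_eq_fintype_card, h3]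
    rw [hF3, show Nat.gcd 2 (3 - 1) = 2 from rfl] at hc
    have h12 : Nat.card G = 12 := by
      rw [Nat.card_congr e.toEquiv]
      change 2 * Nat.card (PSLt F) = 24 at hc
      omega
    haveI : Group.IsSolvable G := PSL2.isSolvable_of_card_two_three (by rw [h12]; decide)
    exact hG ⟨⟨IsSimpleGroup.comm_iff_isSolvable.2 inferInstance⟩⟩

/-- The classification. -/
theorem ppti_iff [IsSimpleGroup G] (hG : ¬ IsMulCommutative G) :
    PPTI G ↔ ((∃ (F : Type) (_ : Field F) (_ : Fintype F), 3 < Fintype.card F ∧ Nonempty (G ≃* PSLt F)) ∨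
      Cfsg.Spor.IsoJ1 G) := by
  refine ⟨forward hG, ?_⟩
  rintro (⟨F, _, _, -, ⟨e⟩⟩ | h)
  · exact ppti_psl e
  · exact ppti_j1 h

end Cfsg.Agent.PrimePowerTI
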