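import Cfsg.Agent.Lib.AbelianSylow.Chars.Main
import Cfsg.Agent.Lib.AbelianSylow.Chars.Rows

/-!
# Two rows of the character table in the Ree case (S3411)

* `row_zero`          : a difference of two irreducibles of equal degree misses a character
  singled out by its degree and a row
* `psiPair_of_facts`  : `ThetaFacts` gives `PsiPair`
* `exists_chars`      : the characters of degrees `q² - q + 1` and `(q - 1) m (q + 1 + 3 m) / 2`
* `inner_twU_self`    : norms of the twisted functions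
-/

set_option autoImplicit false
set_option linter.unusedSectionVars false

namespace Cfsg.Agent.PrimePowerTI

open Matrix Subgroup Cfsg.Agent.AbelianSylow Cfsg.Agent.AbelianSylow.Chars ReeInverted

universe u

variable {G : Type u} [Group G] [Fintype G]

/-- A difference of two irreducibles. -/
theorem row_zero [Fintype (IrrCharacter G)] {f g : G → ℂ} (hf : IsGeneralizedCharacter G f)
    (hg : IsGeneralizedCharacter G g) (hn : classInner f f = 2) (h1 : f 1 = 0)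
    (hfg : classInner g f = 0) {χ : IrrCharacter G} (hχ : cvec g χ ≠ 0)
    (hu : ∀ φ, degv G φ = degv G χ → cvec g φ ≠ 0 → φ = χ) : cvec f χ = 0 := by
  classical
  have e2 : cvec f ⬝ᵥ cvec f = 2 := by
    exact_mod_cast (show ((cvec f ⬝ᵥ cvec f : ℤ) : ℂ) = ((2 : ℤ) : ℂ) by
      rw [← cvec_inner hf hf, hn]; norm_num)
  have e0 : cvec g ⬝ᵥ cvec f = 0 := by
    exact_mod_cast (show ((cvec g ⬝ᵥ cvec f : ℤ) : ℂ) = ((0 : ℤ) : ℂ) by
      rw [← cvec_inner hg hf, hfg]; norm_num)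
  have ed := cvec_deg hf h1
  obtain ⟨p, n, hpn, e⟩ := ReeCover.exists_pos_neg (deg := degv G) (v := cvec f) degv_pos
    (by simpa [dotProduct, pow_two] using e2) (by simpa [dotProduct, mul_comm] using ed)
  have hv : cvec f = Pi.single p 1 - Pi.single n 1 := funext fun x => by
    rw [e x]; simp [Pi.single_apply, eq_comm]
  rw [hv, dotProduct_sub, dotProduct_single, dotProduct_single, mul_one, mul_one] at e0 ed
  rw [hv, Pi.sub_apply, Pi.single_apply, Pi.single_apply]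
  by_cases hp : χ = p
  · subst hp
    have := hu n (by omega) (fun h => hχ (by omega))
    exact absurd this.symm hpn
  by_cases hn' : χ = n
  · subst hn'
    have := hu p (by omega) (fun h => hχ (by omega))
    exact absurd this hpn
  rw [if_neg hp, if_neg hn', sub_zero]

section

variable {t i r w : G} {K U A T : Subgroup G} {q a M : ℕ} {Q : ℤ} (S : Sec t i r w K U A T q a M Q)
  {ψ : Fin 2 → (↥U →* ℂˣ)}
include S

theorem psiPair_of_facts (Fc : ThetaFacts t ψ T A q Q) : PsiPair K U ψ := by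
  refine ⟨Fc.psi_ne, fun k hk hkU => ?_⟩
  by_contra! hall
  have hkN : k⁻¹ ∈ normK K U := Subgroup.inv_mem _
    (Subgroup.mem_inf.2 ⟨hk, Cfsg.Agent.Coprime.mem_normalizer_of_forall hkU⟩)
  set k' : normK K U := ⟨k⁻¹, hkN⟩ with hk'
  have e1 : twK k' (ψ 0) = ψ 1 := MonoidHom.ext fun x => by
    rw [twK_apply]
    refine Eq.trans ?_ (hall x)
    exact congrArg (ψ 0) (Subtype.ext (by simp [conjU, hk']))
  have e2 : twInd t U (lin (ψ 1)) = twInd t U (lin (ψ 0)) := by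
    rw [← e1]
    exact twInd_comp t (lin (ψ 0) : U → ℂ) (S.comm_K _ k'.2.1).symm fun b =>
      ⟨fun hb => conj_mem_U k' hb, fun hb => by
        have := conj_mem_U k'⁻¹ hb
        simpa [mul_assoc] using this⟩
  have e3 : theta t ψ T A 1 = theta t ψ T A 0 := by simp only [theta, e2]
  have h1 := Fc.inner 0 0
  have h2 := Fc.inner 0 1
  rw [e3, h1, if_pos rfl, if_neg (by decide)] at h2
  norm_num at h2

open scoped Classical in
theorem inner_twU_self {l : ↥U →* ℂˣ} (hl : l ≠ 1) :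
    classInner (twInd t U (lin l)) (twInd t U (lin l)) = (q : ℂ) + 1 := by
  rw [S.inner_twU_twU, show Nat.card {k : normK K U // twK k l = l} = q from S.card_stab hl]
  have hq : (q : ℂ) ≠ 0 := Nat.cast_ne_zero.2 S.q_pos.ne'
  field_simp
  ring

theorem inner_twU_one :
    classInner (twInd t U (lin (1 : ↥U →* ℂˣ))) (twInd t U (lin (1 : ↥U →* ℂˣ))) = 2 * ((q : ℂ) - 1) := by
  rw [S.inner_twU_twU, Nat.card_congr (Equiv.subtypeUnivEquiv fun k : normK K U =>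
    show twK k (1 : ↥U →* ℂˣ) = 1 from MonoidHom.ext fun _ => rfl)]
  have hq : (q : ℂ) ≠ 0 := Nat.cast_ne_zero.2 S.q_pos.ne'
  have hN : 2 * (Nat.card (normK K U) : ℂ) = (q : ℂ) * ((q : ℂ) - 1) := by
    rw [show 2 * (Nat.card (normK K U) : ℂ) = ((2 * Nat.card (normK K U) : ℕ) : ℂ) by push_cast; ring,
      S.card_normK, Nat.cast_mul, Nat.cast_sub S.q_pos, Nat.cast_one]
  field_simp
  linear_combination hN

set_option maxHeartbeats 1000000 in
/-- The two rows. -/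
theorem exists_chars [Fintype (IrrCharacter G)] (hQ : Q = (q : ℤ)) {m h : ℤ} (hm : (q : ℤ) = 3 * m ^ 2)
    (hh : (q : ℤ) = 2 * h + 1) (hm3 : 3 ≤ m) (Fc : ThetaFacts t ψ T A q Q) :
    (∃ x : IrrCharacter G, degv G x = (q : ℤ) ^ 2 - q + 1 ∧ valv t x = -1 ∧
      cvec (theta0 t ψ T) x = -1 ∧ (∀ j, cvec (theta t ψ T A j) x = 0) ∧
      ∀ φ, degv G φ = degv G x → cvec (theta0 t ψ T) φ ≠ 0 → φ = x) ∧
    ∃ x : IrrCharacter G, degv G x = h * m * ((q : ℤ) + 1 + 3 * m) ∧ valv t x = -h ∧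
      cvec (theta0 t ψ T) x = 0 ∧ cvec (theta t ψ T A 0) x = -1 ∧ cvec (theta t ψ T A 1) x = 0 ∧
      ∀ φ, degv G φ = degv G x → cvec (theta t ψ T A 0) φ ≠ 0 → φ = x := by
  classical
  haveI : Finite (↥T →* ℂˣ) := Nat.finite_of_card_ne_zero (by
    rw [ReeCover.card_dual S.T_comm]; exact Nat.card_pos.ne')
  haveI : Finite (↥A →* ℂˣ) := Nat.finite_of_card_ne_zero (by
    rw [ReeCover.card_dual S.A_comm]; exact Nat.card_pos.ne')
  letI := Fintype.ofFinite {l : ↥T →* ℂˣ // l ≠ 1}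
  letI := Fintype.ofFinite {l : ↥A →* ℂˣ // l ≠ 1}
  subst hQ
  obtain ⟨s, hsdeg, hsval, hsone, hsc0, hsc⟩ := S.nonempty_sys' Fc
  obtain ⟨W, D, ea, eb, ec, CC, H⟩ := s.exists_caseA
  obtain ⟨-, hda, hdb, hdc⟩ := Sys.caseA_order CC H
  have q27 : (27 : ℤ) ≤ q := by rw [hm]; nlinarith
  have h0 : 1 ≤ h := by omega
  have hA1 : 1 < (q : ℤ) ^ 2 - q + 1 := by nlinarith
  have hsingle : ∀ {e : IrrCharacter G → ℤ}, e ⬝ᵥ e = 1 → ∀ {d : ℤ}, 0 < d → s.deg ⬝ᵥ e = -d →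
      ∃ x, e = Pi.single x (-1) ∧ s.deg x = d := by
    intro e he d hd hde
    obtain ⟨x, σ, hσ, rfl⟩ := Vec.unit_eq he
    have := s.deg_pos x
    rw [dotProduct_single] at hde
    rcases hσ with rfl | rfl
    · omega
    · exact ⟨x, rfl, by omega⟩
  have zero_of_deg : ∀ {e : IrrCharacter G → ℤ}, e ⬝ᵥ e = 1 → ∀ {φ d}, s.deg φ = d →
      ((s.deg ⬝ᵥ e).natAbs : ℤ) ≠ d → e φ = 0 := by
    intro e he φ d hd hne
    exact by_contra fun h' => hne (by rw [← hd]; exact (s.deg_of_unit he h').symm)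
  have n1 : ((s.deg ⬝ᵥ s.one).natAbs : ℤ) = 1 := by rw [s.deg_one]; rfl
  have na : ((s.deg ⬝ᵥ ea).natAbs : ℤ) = (q : ℤ) ^ 2 - q + 1 := by
    rw [hda, Int.natAbs_neg, Int.natAbs_of_nonneg (by omega)]
  have nb : ((s.deg ⬝ᵥ eb).natAbs : ℤ) = (q : ℤ) * ((q : ℤ) ^ 2 - q + 1) := by
    rw [hdb, Int.natAbs_neg, Int.natAbs_of_nonneg (mul_nonneg (by omega) (by omega))]
  have nc : ((s.deg ⬝ᵥ ec).natAbs : ℤ) = (q : ℤ) ^ 3 := by
    rw [hdc, Int.natAbs_of_nonneg (pow_nonneg (by omega) 3)]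
  refine ⟨?_, ?_⟩
  · obtain ⟨x, hx, hdx⟩ := hsingle H.na (by omega) hda
    have z : ∀ φ, s.deg φ = (q : ℤ) ^ 2 - q + 1 → s.one φ = 0 ∧ eb φ = 0 ∧ ec φ = 0 := fun φ hφ =>
      ⟨zero_of_deg s.one_one hφ (by rw [n1]; omega), zero_of_deg H.nb hφ (by rw [nb]; nlinarith),
        zero_of_deg H.nc hφ (by rw [nc]; nlinarith)⟩
    have hc0 : ∀ φ, s.deg φ = (q : ℤ) ^ 2 - q + 1 → s.c0 φ = ea φ := fun φ hφ => by
      obtain ⟨z1, z2, z3⟩ := z φ hφ
      rw [H.c0_eq]; simp [z1, z2, z3]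
    refine ⟨x, hsdeg ▸ hdx, ?_, ?_, fun j => ?_, fun φ hφ hne => ?_⟩
    · have h1 := H.val_a
      rw [hx, dotProduct_single, hsval] at h1
      omega
    · rw [← hsc0, hc0 x hdx, hx, Pi.single_eq_same]
    · have h1 := H.row_a j
      rw [hx, dotProduct_single, hsc] at h1
      omega
    · rw [← hsdeg] at hφ
      rw [← hsc0, hc0 φ (hφ.trans hdx), hx] at hne
      by_contra h'
      exact hne (Pi.single_eq_of_ne h' _)
  · obtain ⟨u, v, nu, nv, ouv, hc, hval, hs, hsq⟩ := Sys.caseA_square CC H 0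
    have hsq' : (s.deg ⬝ᵥ u - s.deg ⬝ᵥ v) ^ 2 = (2 * h * m * ((q : ℤ) + 1)) ^ 2 := by
      have h3 : (3 : ℤ) * (s.deg ⬝ᵥ u - s.deg ⬝ᵥ v) ^ 2 = 3 * (2 * h * m * ((q : ℤ) + 1)) ^ 2 := by
        have e : (q : ℤ) * ((q : ℤ) - 1) ^ 2 * ((q : ℤ) + 1) ^ 2 =
            3 * m ^ 2 * (2 * h) ^ 2 * ((q : ℤ) + 1) ^ 2 := by
          rw [show (q : ℤ) - 1 = 2 * h by omega]
          linear_combination (2 * h) ^ 2 * ((q : ℤ) + 1) ^ 2 * hm
        rw [hsq, e]; ring
      linarith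
    have hsum : s.deg ⬝ᵥ u + s.deg ⬝ᵥ v = -(6 * h * m ^ 2) := by
      rw [hs, show (q : ℤ) - 1 = 2 * h by omega, hm]; ring
    obtain ⟨u, v, nu, nv, ouv, hc, hval, du, dv⟩ : ∃ u v : IrrCharacter G → ℤ,
        u ⬝ᵥ u = 1 ∧ v ⬝ᵥ v = 1 ∧ u ⬝ᵥ v = 0 ∧ s.c 0 = eb + ec + u + v ∧
        (2 * (s.val ⬝ᵥ u) = (q : ℤ) - 1) ∧ s.deg ⬝ᵥ u = -(h * m * ((q : ℤ) + 1 + 3 * m)) ∧
        s.deg ⬝ᵥ v = h * m * ((q : ℤ) + 1 - 3 * m) := by
      rcases eq_or_eq_neg_of_sq_eq_sq _ _ hsq' with e | e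
      · exact ⟨v, u, nv, nu, by rw [dotProduct_comm]; exact ouv, by rw [hc]; abel, hval.2,
          by linarith, by linarith⟩
      · exact ⟨u, v, nu, nv, ouv, hc, hval.1, by linarith, by linarith⟩
    have hrows : s.c0 ⬝ᵥ u = 0 ∧ s.c 0 ⬝ᵥ u = 1 ∧ s.c 1 ⬝ᵥ u = 0 := by
      obtain ⟨u', v', nu', nv', -, hc', ⟨r0, r0'⟩, ⟨r1, r1'⟩, ⟨r2, r2'⟩, -, -, -⟩ :=
        Sys.caseA_split CC H 0
      have huv : u' + v' = u + v := by
        have e : eb + ec + u' + v' = eb + ec + u + v := hc'.symm.trans hc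
        rw [add_assoc _ u' v', add_assoc _ u v] at e
        exact add_left_cancel e
      have hz : (u' + v') ⬝ᵥ u = 1 := by rw [huv, add_dotProduct, nu, dotProduct_comm, ouv]; rfl
      rw [add_dotProduct] at hz
      rw [show (1 - 0 : Fin 2) = 1 from rfl] at r2 r2'
      rcases Vec.dot_unit nu' nu with h1 | ⟨-, rfl⟩ | ⟨h1, -⟩
      · rcases Vec.dot_unit nv' nu with h2 | ⟨-, rfl⟩ | ⟨h2, -⟩
        · omega
        · exact ⟨r0', r1', r2'⟩
        · omega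
      · exact ⟨r0, r1, r2⟩
      · rcases Vec.dot_unit nv' nu with h2 | ⟨h2, -⟩ | ⟨h2, -⟩ <;> omega
    set du' := h * m * ((q : ℤ) + 1 + 3 * m) with hdu'
    have hpos : 0 < du' := by
      rw [hdu']; exact mul_pos (mul_pos (by omega) (by omega)) (by omega)
    obtain ⟨x, hx, hdx⟩ := hsingle nu hpos du
    have hm9 : 9 * m ≤ (q : ℤ) := by rw [hm]; nlinarith
    have hlt : du' < (q : ℤ) * ((q : ℤ) ^ 2 - q + 1) := by
      have e1 : 2 * h * (9 * m) ≤ (q : ℤ) * q := mul_le_mul (by omega) hm9 (by omega) (by omega)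
      have e2 : (q : ℤ) + 1 + 3 * m ≤ 2 * q := by omega
      have e3 : 18 * du' ≤ (q : ℤ) * q * (2 * q) := by
        rw [hdu', show 18 * (h * m * ((q : ℤ) + 1 + 3 * m)) = 2 * h * (9 * m) * ((q : ℤ) + 1 + 3 * m) by ring]
        exact mul_le_mul e1 e2 (by omega) (mul_nonneg (by omega) (by omega))
      have f1 : 27 * ((q : ℤ) * q) ≤ (q : ℤ) * ((q : ℤ) * q) :=
        mul_le_mul_of_nonneg_right q27 (mul_nonneg (by omega) (by omega))
      rw [show (q : ℤ) * ((q : ℤ) ^ 2 - q + 1) = (q : ℤ) * ((q : ℤ) * q) - (q : ℤ) * q + q by ring]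
      rw [show (q : ℤ) * q * (2 * q) = 2 * ((q : ℤ) * ((q : ℤ) * q)) by ring] at e3
      clear_value du'
      linarith only [e3, f1, q27, mul_nonneg (show (0 : ℤ) ≤ q by omega) (show (0 : ℤ) ≤ q by omega)]
    have hne_v : ((s.deg ⬝ᵥ v).natAbs : ℤ) < du' := by
      rw [dv, Int.natAbs_of_nonneg (mul_nonneg (mul_nonneg (by omega) (by omega)) (by omega)), hdu']
      have hk : 0 < h * m := mul_pos (by omega) (by omega)
      have hk' : 0 < h * m * (6 * m) := mul_pos hk (by omega)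
      linarith only [hk', show h * m * ((q : ℤ) + 1 + 3 * m) - h * m * ((q : ℤ) + 1 - 3 * m) = h * m * (6 * m) by ring]
    have hlt' : du' < (q : ℤ) ^ 3 := by
      refine hlt.trans ?_
      have f2 : 27 * (q : ℤ) ≤ (q : ℤ) * q := mul_le_mul_of_nonneg_right q27 (by omega)
      rw [show (q : ℤ) * ((q : ℤ) ^ 2 - q + 1) = (q : ℤ) ^ 3 - (q : ℤ) * q + q by ring]
      linarith only [f2, q27]
    have hc00 : ∀ φ, s.deg φ = du' → s.c 0 φ = u φ := fun φ hφ => by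
      have z2 : eb φ = 0 := zero_of_deg H.nb hφ (by rw [nb]; omega)
      have z3 : ec φ = 0 := zero_of_deg H.nc hφ (by rw [nc]; omega)
      have z7 : v φ = 0 := zero_of_deg nv hφ (by omega)
      rw [hc]; simp [z2, z3, z7]
    obtain ⟨r0, r1, r2⟩ := hrows
    rw [hx, dotProduct_single] at r0 r1 r2
    refine ⟨x, hsdeg ▸ hdx, ?_, ?_, ?_, ?_, fun φ hφ hne => ?_⟩
    · rw [hx, dotProduct_single, hsval] at hval
      omega
    · rw [← hsc0]; omega
    · rw [← hsc]; omega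
    · rw [← hsc]; omega
    · rw [← hsdeg] at hφ
      rw [← hsc, hc00 φ (hφ.trans hdx), hx] at hne
      by_contra h'
      exact hne (Pi.single_eq_of_ne h' _)

end

end Cfsg.Agent.PrimePowerTI
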