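import Cfsg.Agent.Lib.PrimePowerTI.ReeExt
import Cfsg.Agent.Lib.PrimePowerTI.ReeRows
import Cfsg.Agent.Lib.AbelianSylow.Chars.SysInst

/-!
# Multiplicities of the linear characters of `P` in the Ree case (S3411)

* `RData.abs_coef`    : for invariant characters: the absolute value of a twisted coefficient
* `RData.coef_eq`     : all other linear characters have the same multiplicity
* `tw_rows`           : twisted coefficients from the rows
-/

set_option autoImplicit false
set_option linter.unusedSectionVars false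
set_option linter.unusedVariables false
set_option linter.style.haveILetI false

namespace Cfsg.Agent.PrimePowerTI

open Matrix Subgroup Cfsg.Agent.AbelianSylow Cfsg.Agent.AbelianSylow.Chars ReeInverted
open scoped ComplexConjugate

universe u

variable {G : Type u} [Group G] [Fintype G]

/-- A generalised character as its coefficient. -/
theorem inner_eq_cvec {f : G → ℂ} (hf : IsGeneralizedCharacter G f) (χ : IrrCharacter G) :
    classInner f (χ : G → ℂ) = (cvec f χ : ℂ) := cvec_spec hf χ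

section rows

variable {t i r w : G} {K U A T : Subgroup G} {q a M : ℕ} {Q : ℤ} (S : Sec t i r w K U A T q a M Q)
  {ψ : Fin 2 → (↥U →* ℂˣ)}
include S

theorem twU_gen (l : ↥U →* ℂˣ) : IsGeneralizedCharacter G (twInd t U (lin l)) :=
  S.twInd_lin_isGen S.U_le l

theorem cvec_twist (k : normK K U) (l : ↥U →* ℂˣ) :
    cvec (twInd t U (lin (twK k l))) = cvec (twInd t U (lin l)) := by
  congr 1
  exact twInd_comp t (lin l : U → ℂ) (S.comm_K _ k.2.1).symm fun b =>
    ⟨fun hb => conj_mem_U k hb, fun hb => by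
      have := conj_mem_U k⁻¹ hb
      simpa [mul_assoc] using this⟩

/-- All twisted coefficients add up to the value at `t`. -/
theorem sum_tw_coef [Fintype (IrrCharacter G)] [Fintype (↥U →* ℂˣ)] (χ : IrrCharacter G) :
    ∑ l : ↥U →* ℂˣ, cvec (twInd t U (lin l)) χ = valv t χ := by
  have h : ∑ l : ↥U →* ℂˣ, classInner (twInd t U (lin l)) (χ : G → ℂ) = conj ((χ : G → ℂ) t) := by
    rw [← Char.classInner_sum_left, sum_twInd t S.U_comm, ← Char.classInner_conj_symm,
      inner_twBot S.tt (Char.IsIrrCharacter.isClassFunction χ.2)]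
  rw [(S.valv_spec χ).1, map_intCast] at h
  simp only [inner_eq_cvec (twU_gen S _)] at h
  exact_mod_cast h

/-- The twisted coefficients from the rows. -/
theorem tw_rows [Fintype (IrrCharacter G)] (Fc : ThetaFacts t ψ T A q Q) (χ : IrrCharacter G)
    (hT : ∀ l : ↥T →* ℂˣ, l ≠ 1 → cvec (thetaT t ψ l) χ = 0) :
    (M : ℤ) * (cvec (twInd t U (lin (ψ 0))) χ + cvec (twInd t U (lin (ψ 1))) χ) =
        valv t χ - cvec (theta0 t ψ T) χ ∧
      cvec (twInd t U (lin (ψ 0))) χ - cvec (twInd t U (lin (ψ 1))) χ =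
        cvec (theta t ψ T A 0) χ - cvec (theta t ψ T A 1) χ := by
  classical
  haveI : Finite (↥T →* ℂˣ) := Nat.finite_of_card_ne_zero (by
    rw [ReeCover.card_dual S.T_comm]; exact Nat.card_pos.ne')
  letI : Fintype (↥T →* ℂˣ) := Fintype.ofFinite _
  constructor
  · set s := classInner (sumU t ψ) (χ : G → ℂ) with hs
    have h1 : ∀ l : ↥T →* ℂˣ, classInner (twInd t T (lin l)) (χ : G → ℂ) =
        s + if l = 1 then (cvec (theta0 t ψ T) χ : ℂ) else 0 := by
      intro l
      by_cases hl : l = 1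
      · subst hl
        rw [if_pos rfl, ← inner_eq_cvec Fc.gen0, S.theta0_eq, Char.classInner_sub_left]
        ring
      · have h := inner_eq_cvec (Fc.genT l hl) χ
        rw [hT l hl, Int.cast_zero, thetaT, Char.classInner_sub_left, sub_eq_zero] at h
        rw [if_neg hl, add_zero, h]
    have h : ∑ l : ↥T →* ℂˣ, classInner (twInd t T (lin l)) (χ : G → ℂ) = conj ((χ : G → ℂ) t) := by
      rw [← Char.classInner_sum_left, sum_twInd t S.T_comm, ← Char.classInner_conj_symm,
        inner_twBot S.tt (Char.IsIrrCharacter.isClassFunction χ.2)]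
    rw [(S.valv_spec χ).1, map_intCast, Finset.sum_congr rfl fun l _ => h1 l, Finset.sum_add_distrib,
      Finset.sum_const, Finset.card_univ, ← Nat.card_eq_fintype_card, ReeCover.card_dual S.T_comm, S.card_T,
      nsmul_eq_mul, Finset.sum_ite_eq', if_pos (Finset.mem_univ _), hs, S.sumU_inner,
      inner_eq_cvec (twU_gen S _), inner_eq_cvec (twU_gen S _)] at h
    have h' : (((M : ℤ) * (cvec (twInd t U (lin (ψ 0))) χ + cvec (twInd t U (lin (ψ 1))) χ) : ℤ) : ℂ) =
        ((valv t χ - cvec (theta0 t ψ T) χ : ℤ) : ℂ) := by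
      push_cast
      linear_combination h
    exact_mod_cast h'
  · have h : ∀ j, (cvec (theta t ψ T A j) χ : ℂ) = (cvec (twInd t U (lin (ψ j))) χ : ℂ) +
        (2 : ℂ)⁻¹ * classInner (twInd t T (lin 1) - twInd t A (lin 1)) (χ : G → ℂ) := fun j => by
      rw [← inner_eq_cvec (Fc.gen j), ← inner_eq_cvec (twU_gen S _), S.theta_eq, Char.classInner_add_left,
        Char.classInner_smul_left]
    have h' : ((cvec (twInd t U (lin (ψ 0))) χ - cvec (twInd t U (lin (ψ 1))) χ : ℤ) : ℂ) =
        ((cvec (theta t ψ T A 0) χ - cvec (theta t ψ T A 1) χ : ℤ) : ℂ) := by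
      push_cast
      linear_combination h 1 - h 0
    exact_mod_cast h'

/-- The functions at the characters of `T` miss a character singled out by its degree and a row. -/
theorem thetaT_row [Fintype (IrrCharacter G)] (Fc : ThetaFacts t ψ T A q Q) {g : G → ℂ}
    (hg : IsGeneralizedCharacter G g)
    (hgT : ∀ l : ↥T →* ℂˣ, l ≠ 1 → classInner g (thetaT t ψ l) = 0) {χ : IrrCharacter G}
    (hχ : cvec g χ ≠ 0) (hu : ∀ φ, degv G φ = degv G χ → cvec g φ ≠ 0 → φ = χ)
    (l : ↥T →* ℂˣ) (hl : l ≠ 1) : cvec (thetaT t ψ l) χ = 0 := by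
  classical
  refine row_zero (Fc.genT l hl) hg ?_ (Fc.oddT l 1 S.odd_order_one) (hgT l hl) hχ hu
  rw [Fc.innerTT l l hl hl, if_pos rfl, if_neg fun e => hl (S.eq_inv_T e), add_zero]

end rows

/-- An induced function vanishes off the conjugates. -/
theorem indFun_eq_zero {B : Subgroup G} (θ : B → ℂ) {g : G} (h : ∀ x : G, x⁻¹ * g * x ∉ B) :
    indFun B θ g = 0 :=
  mul_eq_zero_of_right _ (Finset.sum_eq_zero fun x _ => Char.extendByZero_not_mem B θ (h x))

namespace RData

variable {t : G} {F : Type} [Field F] [Fintype F] {H P D T : Subgroup G} {w : G} {q k : ℕ}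
  (R : RData t F H P D T w q k)
include R

/-- `t` fixes the linear character. -/
def IsInv (R : RData t F H P D T w q k) (a : ↥P →* ℂˣ) : Prop :=
  ∀ x : P, a ⟨t * x * t, R.tau_P x.2⟩ = a x

theorem isInv_one : R.IsInv 1 := fun _ => rfl

/-- An invariant character trivial on `U` is trivial. -/
theorem eq_one_of_inv {a : ↥P →* ℂˣ} (ha : R.IsInv a) (hU : R.resU a = 1) : a = 1 := by
  set N := a.ker.map P.subtype with hN
  have mN : ∀ {x : G} (hx : x ∈ P), x ∈ N ↔ a ⟨x, hx⟩ = 1 := fun {x} hx => by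
    constructor
    · rintro ⟨y, hy, e⟩
      have : (⟨x, hx⟩ : P) = y := Subtype.ext e.symm
      rw [this]; exact MonoidHom.mem_ker.1 hy
    · exact fun h => ⟨⟨x, hx⟩, MonoidHom.mem_ker.2 h, rfl⟩
  have hNP : N ≤ P := map_subtype_le _
  have hUN : fixU t P ≤ N := fun x hx => (mN hx.1).2 (congrArg (fun f : ↥(fixU t P) →* ℂˣ => f ⟨x, hx⟩) hU)
  have hn : ∀ g ∈ P, ∀ x ∈ N, g * x * g⁻¹ ∈ N := fun g hg x hx => by
    have hxP := hNP hx
    rw [mN (mul_mem (mul_mem hg hxP) (inv_mem hg)),
      show (⟨g * x * g⁻¹, _⟩ : P) = ⟨g, hg⟩ * ⟨x, hxP⟩ * ⟨g, hg⟩⁻¹ from rfl, map_mul, map_mul, map_inv,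
      (mN hxP).1 hx, mul_one, mul_inv_cancel]
  have htN : ∀ x ∈ N, t * x * t ∈ N := fun x hx => by
    rw [mN (R.tau_P (hNP hx))]
    exact (ha ⟨x, hNP hx⟩).trans ((mN (hNP hx)).1 hx)
  refine MonoidHom.ext fun x => ?_
  have h := (mN (mul_mem x.2 (R.tau_P x.2))).1 (R.mul_tau_mem hUN hNP hn htN x.2)
  rw [show (⟨(x : G) * (t * x * t), _⟩ : P) = x * ⟨t * x * t, R.tau_P x.2⟩ from rfl, map_mul, ha] at h
  obtain ⟨j, hj⟩ : Odd (Nat.card P) := by rw [R.point.card_P]; exact R.odd_q.pow
  have h2 : a x ^ Nat.card P = 1 := by rw [← map_pow, pow_card_eq_one', map_one]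
  rwa [hj, pow_succ, pow_mul, pow_two, h, one_pow, one_mul] at h2

variable {i r w' : G} {K A T' : Subgroup G} {a₀ M : ℕ} {Q : ℤ}

/-- The multiplicity of an invariant character. -/
theorem abs_coef [Fintype P] (hG : Nat.card G = q ^ 3 * ((q ^ 3 + 1) * (q - 1)))
    (S : Sec t i r w' K (fixU t P) A T' q a₀ M Q) {a : ↥P →* ℂˣ} (ha : R.IsInv a) (χ : IrrCharacter G) :
    lcoef a (χ : G → ℂ) = ((cvec (twInd t (fixU t P) (lin (R.resU a))) χ).natAbs : ℂ) := by
  classical
  letI := Fintype.ofFinite (IrrCharacter G)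
  letI : Fintype (fixU t P) := Fintype.ofFinite _
  set f := indFun P (lin a) with hf
  set g := twInd t (fixU t P) (lin (R.resU a)) with hg
  have gf : IsGeneralizedCharacter G f := ind_isGen a
  have gg : IsGeneralizedCharacter G g := twU_gen S _
  have hspl : ∀ φ : IrrCharacter G, ∃ n₁ n₂ : ℕ,
      cvec f φ = (n₁ : ℤ) + n₂ ∧ cvec g φ = (n₁ : ℤ) - n₂ := by
    intro φ
    obtain ⟨n₁, n₂, e₁, e₂⟩ := ext_split R.tt (fun x hx => R.tau_P hx) R.t_not_P a ha
      (Char.IsIrrCharacter.isCharacter φ.2)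
    rw [← lcoef_ind a (Char.IsIrrCharacter.isClassFunction φ.2), inner_eq_cvec gf] at e₁
    rw [R.sum_tx a ha (Char.IsIrrCharacter.isClassFunction φ.2), inner_eq_cvec gg] at e₂
    exact ⟨n₁, n₂, by exact_mod_cast e₁, by exact_mod_cast e₂⟩
  have hnorm : classInner f f = classInner g g := by
    by_cases h1 : a = 1
    · subst h1
      rw [hf, hg, R.inner_one hG, show R.resU 1 = 1 from MonoidHom.ext fun _ => rfl, inner_twU_one S]
    · rw [hf, hg, R.inner_inv hG h1 ha, inner_twU_self S fun e => h1 (R.eq_one_of_inv ha e)]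
  have hdot : cvec f ⬝ᵥ cvec f = cvec g ⬝ᵥ cvec g := by
    rw [cvec_inner gf gf, cvec_inner gg gg] at hnorm
    exact_mod_cast hnorm
  have hle : ∀ φ ∈ (Finset.univ : Finset (IrrCharacter G)), cvec g φ * cvec g φ ≤ cvec f φ * cvec f φ := by
    intro φ _
    obtain ⟨n₁, n₂, e₁, e₂⟩ := hspl φ
    rw [e₁, e₂]
    nlinarith
  have h := (Finset.sum_eq_sum_iff_of_le hle).1 hdot.symm χ (Finset.mem_univ _)
  obtain ⟨n₁, n₂, e₁, e₂⟩ := hspl χ
  rw [e₁, e₂] at h
  have h4 : (n₁ : ℤ) * n₂ = 0 := by linarith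
  rw [← lcoef_ind a (Char.IsIrrCharacter.isClassFunction χ.2), inner_eq_cvec gf, e₂, e₁]
  rcases mul_eq_zero.1 h4 with e | e <;> simp [e]

/-- The other linear characters are alike at a character singled out by its degree and a row. -/
theorem coef_eq [Fintype P] [Fintype (IrrCharacter G)]
    (hG : Nat.card G = q ^ 3 * ((q ^ 3 + 1) * (q - 1))) {a b : ↥P →* ℂˣ} (ha : ¬ R.IsInv a)
    (hb : ¬ R.IsInv b) {g : G → ℂ} (hg : IsGeneralizedCharacter G g)
    (hodd : ∀ x : G, Odd (orderOf x) → g x = 0) {χ : IrrCharacter G} (hχ : cvec g χ ≠ 0)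
    (hu : ∀ φ, degv G φ = degv G χ → cvec g φ ≠ 0 → φ = χ) :
    lcoef a (χ : G → ℂ) = lcoef b (χ : G → ℂ) := by
  by_cases hc : ∃ x ∈ H, IsTwist a b x
  · obtain ⟨x, hx, htw⟩ := hc
    rw [lcoef_eq, lcoef_eq]
    congr 1
    have hconj : ∀ y : P, x⁻¹ * (y : G) * x ∈ P := fun y => by simpa using R.conj_P (inv_mem hx) y.2
    let e : P ≃ P :=
      { toFun := fun y => ⟨x⁻¹ * y * x, hconj y⟩
        invFun := fun y => ⟨x * y * x⁻¹, R.conj_P hx y.2⟩
        left_inv := fun y => Subtype.ext (by show x * (x⁻¹ * y * x) * x⁻¹ = y; group)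
        right_inv := fun y => Subtype.ext (by show x⁻¹ * (x * y * x⁻¹) * x = y; group) }
    refine Fintype.sum_equiv e _ _ fun y => ?_
    rw [← htw y, Char.extendByZero_mem P _ (hconj y)]
    congr 2
    have := Char.IsIrrCharacter.isClassFunction χ.2 (y : G) x⁻¹
    rw [inv_inv] at this
    exact this.symm
  · push Not at hc
    have hfi : IsGeneralizedCharacter G (indFun P (lin a) - indFun P (lin b)) :=
      Char.IsGeneralizedCharacter.sub (ind_isGen a) (ind_isGen b)
    have h0 : cvec (indFun P (lin a) - indFun P (lin b)) χ = 0 := by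
      refine row_zero hfi hg ?_ ?_ ?_ hχ hu
      · rw [Char.classInner_sub_left, Char.classInner_sub_right, Char.classInner_sub_right,
          R.inner_noninv hG ha, R.inner_noninv hG hb,
          ← Char.classInner_conj_symm (indFun P (lin a)) (indFun P (lin b)), R.inner_apart hG hc, map_sub,
          map_natCast, map_one]
        ring
      · rw [Pi.sub_apply, Char.indFun_one_apply, Char.indFun_one_apply, map_one, map_one, sub_self]
      · rw [classInner]
        refine mul_eq_zero_of_right _ (Finset.sum_eq_zero fun x _ => ?_)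
        by_cases hx : ∃ y : G, y⁻¹ * x * y ∈ P
        · obtain ⟨y, hy⟩ := hx
          have ho := R.odd_P hy
          rw [show orderOf (y⁻¹ * x * y) = orderOf x by
            simpa using MulEquiv.orderOf_eq (MulAut.conj y⁻¹) x] at ho
          rw [hodd x ho, zero_mul]
        · push Not at hx
          rw [Pi.sub_apply, indFun_eq_zero _ hx, indFun_eq_zero _ hx, sub_zero, map_zero, mul_zero]
    have h1 := inner_eq_cvec hfi χ
    rw [h0, Int.cast_zero, Char.classInner_sub_left, sub_eq_zero,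
      lcoef_ind a (Char.IsIrrCharacter.isClassFunction χ.2),
      lcoef_ind b (Char.IsIrrCharacter.isClassFunction χ.2)] at h1
    exact h1

end RData

end Cfsg.Agent.PrimePowerTI
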