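import Cfsg.Agent.Lib.PrimePowerTI.ReeStruct
import Mathlib.FieldTheory.Finite.GaloisField
import Mathlib.RingTheory.IntegralDomain

/-!
# Coordinates in `GF(q)` for sections of order `q` (S3411)

* `Coord` : a surjection of `A` onto `K` with kernel `B` on which `T` acts by multiplication
* `RData.exists_coord` : coordinates exist for invariant abelian sections of order `q`
-/

set_option autoImplicit false
set_option linter.style.haveILetI false
set_option linter.unusedSectionVars false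

namespace Cfsg.Agent.PrimePowerTI

open Subgroup Cfsg.Agent.AbelianSylow
open scoped commutatorElement

universe u

variable {G : Type u} [Group G] [Finite G]

/-- `φ` identifies `A / B` with `K` and turns conjugation by `d ∈ T` into multiplication by `χ d`. -/
structure Coord (A B T : Subgroup G) {K : Type*} [Field K] (φ χ : G → K) : Prop where
  add : ∀ a ∈ A, ∀ b ∈ A, φ (a * b) = φ a + φ b
  zero_iff : ∀ a ∈ A, (φ a = 0 ↔ a ∈ B)
  surj : ∀ x : K, ∃ a ∈ A, φ a = x
  equiv : ∀ d ∈ T, ∀ a ∈ A, φ (d * a * d⁻¹) = χ d * φ a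
  conj_mem : ∀ d ∈ T, ∀ a ∈ A, d * a * d⁻¹ ∈ A

namespace Coord

variable {A B T : Subgroup G} {K : Type*} [Field K] {φ χ : G → K} (C : Coord A B T φ χ)
include C

theorem map_one' : φ 1 = 0 := by
  have := C.add 1 (one_mem A) 1 (one_mem A)
  rw [mul_one] at this
  exact left_eq_add.1 this

theorem map_inv' {a : G} (ha : a ∈ A) : φ a⁻¹ = -φ a := by
  have := C.add a⁻¹ (inv_mem ha) a ha
  rw [inv_mul_cancel, C.map_one'] at this
  exact eq_neg_of_add_eq_zero_left this.symm

theorem eq_iff {a b : G} (ha : a ∈ A) (hb : b ∈ A) : φ a = φ b ↔ a⁻¹ * b ∈ B := by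
  rw [← C.zero_iff _ (mul_mem (inv_mem ha) hb), C.add _ (inv_mem ha) _ hb, C.map_inv' ha,
    neg_add_eq_zero]

theorem chi_mul {d e : G} (hd : d ∈ T) (he : e ∈ T) : χ (d * e) = χ d * χ e := by
  obtain ⟨a, ha, h1⟩ := C.surj 1
  have h := C.equiv _ (mul_mem hd he) a ha
  rw [show d * e * a * (d * e)⁻¹ = d * (e * a * e⁻¹) * d⁻¹ by group,
    C.equiv d hd _ (C.conj_mem e he a ha), C.equiv e he a ha, h1, mul_one, mul_one] at h
  exact h.symm

theorem chi_one : χ 1 = 1 := by
  obtain ⟨a, ha, h1⟩ := C.surj 1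
  have h := C.equiv 1 (one_mem T) a ha
  rw [show (1 : G) * a * (1 : G)⁻¹ = a by group, h1, mul_one] at h
  exact h.symm

theorem chi_pow {d : G} (hd : d ∈ T) (n : ℕ) : χ (d ^ n) = χ d ^ n := by
  induction n with
  | zero => rw [pow_zero, pow_zero, C.chi_one]
  | succ n ih => rw [pow_succ, pow_succ, C.chi_mul (pow_mem hd n) hd, ih]

theorem chi_injective (hfree : ∀ d ∈ T, ∀ a ∈ A, a ∉ B → a⁻¹ * (d * a * d⁻¹) ∈ B → d = 1)
    {d : G} (hd : d ∈ T) (h : χ d = 1) : d = 1 := by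
  obtain ⟨a, ha, h1⟩ := C.surj 1
  refine hfree d hd a ha (fun hb => one_ne_zero (h1.symm.trans ((C.zero_iff a ha).2 hb)))
    ((C.eq_iff ha (C.conj_mem d hd a ha)).1 ?_)
  rw [C.equiv d hd a ha, h, one_mul]

theorem orderOf_chi (hfree : ∀ d ∈ T, ∀ a ∈ A, a ∉ B → a⁻¹ * (d * a * d⁻¹) ∈ B → d = 1)
    {d : G} (hd : d ∈ T) : orderOf (χ d) = orderOf d :=
  orderOf_eq_orderOf_iff.2 fun n => by
    rw [← C.chi_pow hd]
    exact ⟨fun h => C.chi_injective hfree (pow_mem hd n) h, fun h => by rw [h, C.chi_one]⟩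

end Coord

namespace RData

variable {t : G} {F : Type} [Field F] [Fintype F] {H P D T : Subgroup G} {w : G} {q k : ℕ}
  (R : RData t F H P D T w q k)
include R

theorem comm_T {d e : G} (hd : d ∈ T) (he : e ∈ T) : d * e = e * d :=
  R.point.comm d (R.T_le hd) e (R.T_le he)

theorem exists_coord {K : Type} [Field K] [Finite K] (hK : Nat.card K = q) {A B : Subgroup G}
    (hA : A ≤ P) (hBA : B ≤ A) (habel : ∀ a ∈ A, ∀ b ∈ A, ⁅a, b⁆ ∈ B)
    (hTA : ∀ d ∈ T, ∀ a ∈ A, d * a * d⁻¹ ∈ A) (hTB : ∀ d ∈ T, ∀ a ∈ B, d * a * d⁻¹ ∈ B)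
    (hcard : Nat.card A = Nat.card B * q) : ∃ φ χ : G → K, Coord A B T φ χ := by
  classical
  haveI hBn : (B.subgroupOf A).Normal := ⟨fun b hb a => by
    rw [mem_subgroupOf] at hb ⊢
    have h := mul_mem (habel a a.2 b (hBA hb)) hb
    rw [commutatorElement_def, inv_mul_cancel_right] at h
    exact h⟩
  letI : CommGroup (A ⧸ B.subgroupOf A) :=
    { (inferInstance : Group (A ⧸ B.subgroupOf A)) with
      mul_comm := fun x y => by
        obtain ⟨a, rfl⟩ := QuotientGroup.mk_surjective x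
        obtain ⟨b, rfl⟩ := QuotientGroup.mk_surjective y
        show QuotientGroup.mk (a * b) = QuotientGroup.mk (b * a)
        rw [QuotientGroup.eq, mem_subgroupOf]
        have h := habel _ (inv_mem b.2) _ (inv_mem a.2)
        simpa [commutatorElement_def, mul_assoc] using h }
  set V := Additive (A ⧸ B.subgroupOf A)
  let mk : A → V := fun a => Additive.ofMul (QuotientGroup.mk a)
  have hmk : Function.Surjective mk := fun v => by
    obtain ⟨a, ha⟩ := QuotientGroup.mk_surjective (Additive.toMul v)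
    exact ⟨a, congrArg Additive.ofMul ha⟩
  let cj : T → (A →* A) := fun d =>
    { toFun := fun a => ⟨d * a * (d : G)⁻¹, hTA d d.2 a a.2⟩
      map_one' := Subtype.ext (by show (d : G) * 1 * (d : G)⁻¹ = 1; group)
      map_mul' := fun a b => Subtype.ext (by
        show (d : G) * (a * b) * (d : G)⁻¹ = d * a * (d : G)⁻¹ * (d * b * (d : G)⁻¹); group) }
  let f : T → AddMonoid.End V := fun d =>
    MonoidHom.toAdditive (QuotientGroup.map (B.subgroupOf A) (B.subgroupOf A) (cj d)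
      fun a ha => mem_subgroupOf.2 (hTB d d.2 _ (mem_subgroupOf.1 ha)))
  have hf : ∀ d a, f d (mk a) = mk (cj d a) := fun d a => rfl
  have hcomm : ∀ x ∈ Set.range f, ∀ y ∈ Set.range f, x * y = y * x := by
    rintro _ ⟨d, rfl⟩ _ ⟨e, rfl⟩
    refine AddMonoidHom.ext fun v => ?_
    obtain ⟨a, rfl⟩ := hmk v
    show f d (f e (mk a)) = f e (f d (mk a))
    rw [hf, hf, hf, hf]
    refine congrArg mk (Subtype.ext ?_)
    show (d : G) * (e * a * (e : G)⁻¹) * (d : G)⁻¹ = e * (d * a * (d : G)⁻¹) * (e : G)⁻¹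
    calc (d : G) * (e * a * (e : G)⁻¹) * (d : G)⁻¹ = (d * e : G) * a * (d * e : G)⁻¹ := by group
      _ = (e * d : G) * a * (e * d : G)⁻¹ := by rw [R.comm_T d.2 e.2]
      _ = _ := by group
  set S := Subring.closure (Set.range f)
  letI : CommRing S :=
    { (inferInstance : Ring S) with mul_comm := (Subring.isMulCommutative_closure hcomm).is_comm.comm }
  have hfS : ∀ d, f d ∈ S := fun d => Subring.subset_closure ⟨d, rfl⟩
  have hcS : ∀ s : S, ∀ d v, (s : AddMonoid.End V) (f d v) = f d ((s : AddMonoid.End V) v) := by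
    intro s d v
    have h := congrArg (fun x : S => (x : AddMonoid.End V)) (mul_comm s ⟨f d, hfS d⟩)
    exact DFunLike.congr_fun h v
  have hcardV : Nat.card V = q := by
    have h := (B.subgroupOf A).card_mul_index
    rw [Nat.card_congr (subgroupOfEquivOfLe hBA).toEquiv, hcard, index_eq_card] at h
    exact Nat.eq_of_mul_eq_mul_left Nat.card_pos h
  have dicho : ∀ W : AddSubgroup V, (∀ d, ∀ v ∈ W, f d v ∈ W) → W = ⊥ ∨ W = ⊤ := by
    intro W hW
    let M : Subgroup G :=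
      { carrier := {a | ∃ h : a ∈ A, mk ⟨a, h⟩ ∈ W}
        one_mem' := ⟨one_mem A, by
          have : mk ⟨1, one_mem A⟩ = 0 := rfl
          rw [this]; exact W.zero_mem⟩
        mul_mem' := fun {a b} ⟨ha, ha'⟩ ⟨hb, hb'⟩ => ⟨mul_mem ha hb, by
          have : mk ⟨a * b, mul_mem ha hb⟩ = mk ⟨a, ha⟩ + mk ⟨b, hb⟩ := rfl
          rw [this]; exact W.add_mem ha' hb'⟩
        inv_mem' := fun {a} ⟨ha, ha'⟩ => ⟨inv_mem ha, by
          have : mk ⟨a⁻¹, inv_mem ha⟩ = -mk ⟨a, ha⟩ := rfl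
          rw [this]; exact W.neg_mem ha'⟩ }
    have hMA : M ≤ A := fun a ha => ha.1
    have hBM : B ≤ M := fun b hb => ⟨hBA hb, by
      have : mk ⟨b, hBA hb⟩ = 0 :=
        congrArg Additive.ofMul ((QuotientGroup.eq_one_iff _).2 (mem_subgroupOf.2 hb))
      rw [this]; exact W.zero_mem⟩
    have hMT : ∀ d ∈ T, ∀ a ∈ M, d * a * d⁻¹ ∈ M := fun d hd a ⟨ha, ha'⟩ =>
      ⟨hTA d hd a ha, hW ⟨d, hd⟩ _ ha'⟩
    obtain ⟨i, -, hi⟩ := R.card_invariant (hBA.trans hA) hTB
    obtain ⟨j, -, hj⟩ := R.card_invariant (hMA.trans hA) hMT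
    have h1 : i ≤ j := R.pow_le_pow_iff.1 (hi ▸ hj ▸ card_le_of_le hBM)
    have h2 : j ≤ i + 1 := R.pow_le_pow_iff.1 (by
      rw [pow_succ, ← hi, ← hcard, ← hj]; exact card_le_of_le hMA)
    rcases (show j = i ∨ j = i + 1 by omega) with rfl | rfl
    · left
      have e : B = M := eq_of_le_of_card_ge hBM (by rw [hi, hj])
      refine (AddSubgroup.eq_bot_iff_forall W).2 fun v hv => ?_
      obtain ⟨a, rfl⟩ := hmk v
      have haB : (a : G) ∈ B := e ▸ (⟨a.2, hv⟩ : (a : G) ∈ M)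
      exact congrArg Additive.ofMul ((QuotientGroup.eq_one_iff a).2 (mem_subgroupOf.2 haB))
    · right
      have e : M = A := eq_of_le_of_card_ge hMA (by rw [hj, hcard, hi, pow_succ])
      refine eq_top_iff.2 fun v _ => ?_
      obtain ⟨a, rfl⟩ := hmk v
      obtain ⟨h, h'⟩ : (a : G) ∈ M := e.symm ▸ a.2
      exact h'
  obtain ⟨v₀, hv₀⟩ : ∃ v : V, v ≠ 0 := by
    haveI : Nontrivial V := by rw [← Finite.one_lt_card_iff_nontrivial, hcardV]; exact R.one_lt_q
    exact exists_ne 0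
  let ev : S →+ V :=
    { toFun := fun s => (s : AddMonoid.End V) v₀
      map_zero' := rfl
      map_add' := fun _ _ => rfl }
  have hker : ∀ s : S, s ≠ 0 → ∀ v, (s : AddMonoid.End V) v = 0 → v = 0 := by
    intro s hs v hv
    rcases dicho (AddMonoidHom.ker ((s : AddMonoid.End V) : V →+ V)) (fun d u hu => by
      have hu' : (s : AddMonoid.End V) u = 0 := hu
      show (s : AddMonoid.End V) (f d u) = 0
      rw [hcS s d u, hu', map_zero]) with h | h
    · have : v ∈ AddMonoidHom.ker (s : AddMonoid.End V) := hv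
      rwa [h, AddSubgroup.mem_bot] at this
    · exfalso
      refine hs (Subtype.ext (AddMonoidHom.ext fun u => ?_))
      exact AddMonoidHom.mem_ker.1 (h ▸ AddSubgroup.mem_top u)
  have hinj : Function.Injective ev := by
    refine (injective_iff_map_eq_zero ev).2 fun s hs => by_contra fun hne => hv₀ (hker s hne v₀ hs)
  have hsurj : Function.Surjective ev := by
    rcases dicho ev.range (fun d v ⟨s, hs⟩ => ⟨⟨f d, hfS d⟩ * s, by rw [← hs]; rfl⟩) with h | h
    · exact absurd (AddSubgroup.mem_bot.1 (h ▸ ⟨1, rfl⟩ : ev 1 ∈ (⊥ : AddSubgroup V))) hv₀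
    · exact AddMonoidHom.range_eq_top.1 h
  haveI : Finite S := Finite.of_injective ev hinj
  haveI : Nontrivial S := ⟨0, 1, fun e => hv₀ (congrArg ev e).symm⟩
  haveI : NoZeroDivisors S := ⟨fun {a b} hab => or_iff_not_imp_left.2 fun ha => hinj (by
    refine (hker a ha _ ?_).trans (map_zero ev).symm
    show ((a * b : S) : AddMonoid.End V) v₀ = 0
    rw [hab]; rfl)⟩
  haveI : IsDomain S := NoZeroDivisors.to_isDomain S
  letI : Fintype S := Fintype.ofFinite S
  letI : Fintype K := Fintype.ofFinite K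
  letI : Field S := (Finite.isField_of_domain S).toField
  let e : S ≃+* K := FiniteField.ringEquivOfCardEq (by
    rw [← Nat.card_eq_fintype_card, ← Nat.card_eq_fintype_card, hK,
      Nat.card_congr (Equiv.ofBijective ev ⟨hinj, hsurj⟩), hcardV])
  let eV : V ≃+ K := (AddEquiv.ofBijective ev ⟨hinj, hsurj⟩).symm.trans e.toAddEquiv
  refine ⟨fun a => if h : a ∈ A then eV (mk ⟨a, h⟩) else 0,
    fun d => if h : d ∈ T then e ⟨f ⟨d, h⟩, hfS _⟩ else 0, ⟨fun a ha b hb => ?_, fun a ha => ?_,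
      fun x => ?_, fun d hd a ha => ?_, hTA⟩⟩
  · simp only [dif_pos ha, dif_pos hb, dif_pos (mul_mem ha hb)]
    rw [← map_add]; rfl
  · simp only [dif_pos ha]
    rw [map_eq_zero_iff _ eV.injective]
    refine ⟨fun h => mem_subgroupOf.1 ((QuotientGroup.eq_one_iff (N := B.subgroupOf A) ⟨a, ha⟩).1
      (congrArg Additive.toMul h :)), fun h =>
      congrArg Additive.ofMul ((QuotientGroup.eq_one_iff _).2 (mem_subgroupOf.2 h))⟩
  · obtain ⟨a, ha⟩ := hmk (eV.symm x)
    refine ⟨a, a.2, ?_⟩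
    simp only [dif_pos a.2]
    rw [ha, AddEquiv.apply_symm_apply]
  · simp only [dif_pos ha, dif_pos hd, dif_pos (hTA d hd a ha)]
    obtain ⟨s, hs⟩ := hsurj (mk ⟨a, ha⟩)
    have h1 : eV (ev s) = e s := congrArg e ((AddEquiv.ofBijective ev ⟨hinj, hsurj⟩).symm_apply_apply s)
    have h2 : mk ⟨d * a * d⁻¹, hTA d hd a ha⟩ = ev ((⟨f ⟨d, hd⟩, hfS _⟩ : S) * s) := by
      show _ = f ⟨d, hd⟩ (ev s)
      rw [hs]; rfl
    rw [h2, ← hs, h1]
    have h3 : ∀ r : S, eV (ev r) = e r := fun r =>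
      congrArg e ((AddEquiv.ofBijective ev ⟨hinj, hsurj⟩).symm_apply_apply r)
    rw [h3, map_mul]

end RData

end Cfsg.Agent.PrimePowerTI
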