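import Cfsg.Agent.Lib.PrimePowerTI.ReeStruct
import Cfsg.Agent.Lib.AbelianSylow.ReeSylow.Ext
import Cfsg.Agent.Lib.AbelianSylow.Chars.Coeff
import Mathlib.GroupTheory.FiniteAbelian.Duality

/-!
# Linear characters of the Sylow 3-subgroup in the Ree case (S3411)

* `lcoef`             : multiplicity of a linear character of a subgroup in a character
* `ext_split`         : both extensions of a `t`-invariant linear character
* `RData.sum_tx`      : the sum over `t P` is the product with a twisted function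
* `RData.ind_inner`   : products of the induced linear characters
-/

set_option autoImplicit false
set_option linter.unusedSectionVars false
set_option linter.style.haveILetI false

namespace Cfsg.Agent.PrimePowerTI

open Subgroup Cfsg.Agent.AbelianSylow Cfsg.Agent.AbelianSylow.Chars ReeInverted
open scoped ComplexConjugate

universe u

variable {G : Type u} [Group G] [Fintype G]

/-- The multiplicity of a linear character in the restriction. -/
noncomputable def lcoef {B : Subgroup G} [Fintype B] (a : ↥B →* ℂˣ) (χ : G → ℂ) : ℂ :=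
  classInner (lin a : B → ℂ) (fun x : B => χ x)

theorem lcoef_eq {B : Subgroup G} [Fintype B] (a : ↥B →* ℂˣ) (χ : G → ℂ) :
    lcoef a χ = (Nat.card B : ℂ)⁻¹ * ∑ x : B, lin a x * conj (χ x) := rfl

theorem lcoef_ind {B : Subgroup G} [Fintype B] (a : ↥B →* ℂˣ) {χ : G → ℂ} (hχ : IsClassFunction G χ) :
    classInner (indFun B (lin a)) χ = lcoef a χ :=
  Char.frobenius_reciprocity B _ hχ

theorem lcoef_nat {B : Subgroup G} [Fintype B] (a : ↥B →* ℂˣ) {χ : G → ℂ} (hχ : IsCharacter G χ) :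
    ∃ n : ℕ, lcoef a χ = n :=
  Char.IsCharacter.classInner_nat (Char.isCharacter_of_hom _) (Char.IsCharacter.restrict hχ B)

theorem ind_isGen {B : Subgroup G} (a : ↥B →* ℂˣ) : IsGeneralizedCharacter G (indFun B (lin a)) :=
  Char.isGeneralizedCharacter_of_isCharacter
    (Char.IsCharacter.indFun _ (Char.isCharacter_of_hom (lin a)))

/-- The two extensions. -/
theorem ext_split {t : G} {B : Subgroup G} [Fintype B] (ht : t * t = 1) (hn : ∀ x ∈ B, t * x * t ∈ B)
    (htB : t ∉ B) (a : ↥B →* ℂˣ) (hinv : ∀ x : B, a ⟨t * x * t, hn x x.2⟩ = a x) {χ : G → ℂ}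
    (hχ : IsCharacter G χ) :
    ∃ n₁ n₂ : ℕ, lcoef a χ = (n₁ : ℂ) + n₂ ∧
      (Nat.card B : ℂ)⁻¹ * ∑ x : B, lin a x * conj (χ (t * x)) = (n₁ : ℂ) - n₂ := by
  classical
  letI : Fintype (ReeSylow.pExt t B ht hn) := Fintype.ofFinite _
  have hB : (Nat.card B : ℂ) ≠ 0 := Nat.cast_ne_zero.2 Nat.card_pos.ne'
  have hc : Nat.card (ReeSylow.pExt t B ht hn) = 2 * Nat.card B := by
    rw [← Nat.card_congr (ReeSylow.pExtEquiv ht hn htB), Nat.card_prod,
      Nat.card_eq_fintype_card (α := Bool), Fintype.card_bool]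
  have hE : ∀ (ε : ℂ) (hε : ε * ε = 1),
      classInner (ReeSylow.extHom ht hn htB a hinv ε hε : ReeSylow.pExt t B ht hn → ℂ) (fun g => χ g) =
        (2 * (Nat.card B : ℂ))⁻¹ * (ε * (∑ x : B, lin a x * conj (χ (t * x))) +
          ∑ x : B, lin a x * conj (χ x)) := fun ε hε => by
    rw [classInner, hc]
    push_cast
    congr 1
    rw [← (ReeSylow.pExtEquiv ht hn htB).sum_comp, Fintype.sum_prod_type, Fintype.sum_bool, Finset.mul_sum]
    congr 1 <;> refine Finset.sum_congr rfl fun x _ => ?_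
    · rw [ReeSylow.extHom_apply, ReeSylow.pExtEquiv_apply, if_pos rfl, if_pos rfl]; ring
    · rw [ReeSylow.extHom_apply, ReeSylow.pExtEquiv_apply, if_neg Bool.false_ne_true,
        if_neg Bool.false_ne_true, one_mul, one_mul]
  have hr := Char.IsCharacter.restrict hχ (ReeSylow.pExt t B ht hn)
  obtain ⟨n₁, h₁⟩ := Char.IsCharacter.classInner_nat
    (Char.isCharacter_of_hom (ReeSylow.extHom ht hn htB a hinv 1 (one_mul 1))) hr
  obtain ⟨n₂, h₂⟩ := Char.IsCharacter.classInner_nat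
    (Char.isCharacter_of_hom (ReeSylow.extHom ht hn htB a hinv (-1) (by ring))) hr
  rw [hE] at h₁ h₂
  refine ⟨n₁, n₂, ?_, ?_⟩
  · rw [lcoef_eq, ← h₁, ← h₂]; field_simp; ring
  · rw [← h₁, ← h₂]; field_simp; ring

/-- `commutator B` inside `B`. -/
theorem commutator_eq_derived (B : Subgroup G) : commutator ↥B = (⁅B, B⁆).subgroupOf B := by
  refine map_injective B.subtype_injective ?_
  rw [commutator_def, map_commutator, ← MonoidHom.range_eq_map, B.range_subtype, subgroupOf_map_subtype,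
    inf_of_le_left RData.derived_le]

theorem card_linear (B : Subgroup G) : Nat.card (↥B →* ℂˣ) = ((⁅B, B⁆).subgroupOf B).index := by
  rw [← commutator_eq_derived, Nat.card_congr (Char.linearCharEquiv ↥B), Char.card_linear_irr]

theorem finite_linear (B : Subgroup G) : Finite (↥B →* ℂˣ) :=
  Nat.finite_of_card_ne_zero (by rw [card_linear]; exact index_ne_zero_of_finite)

/-- The sum of the linear characters. -/
theorem sum_linear {B : Subgroup G} [Fintype (↥B →* ℂˣ)] (x : B) [Decidable ((x : G) ∈ ⁅B, B⁆)] :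
    ∑ l : ↥B →* ℂˣ, lin l x = if (x : G) ∈ ⁅B, B⁆ then (Nat.card (↥B →* ℂˣ) : ℂ) else 0 := by
  split_ifs with hx
  · have h1 : x ∈ commutator ↥B := by rwa [commutator_eq_derived, mem_subgroupOf]
    rw [Finset.sum_congr rfl fun l _ => show lin l x = 1 by
      rw [lin_apply, MonoidHom.mem_ker.1 (Abelianization.commutator_subset_ker l h1), Units.val_one],
      Finset.sum_const, Finset.card_univ, nsmul_eq_mul, mul_one, Nat.card_eq_fintype_card]
  · have h1 : Abelianization.of x ≠ 1 := fun e => hx (by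
      have h2 : x ∈ Abelianization.of.ker := e
      rwa [Abelianization.ker_of, commutator_eq_derived, mem_subgroupOf] at h2)
    haveI : NeZero ((Monoid.exponent (Abelianization ↥B) : ℕ) : ℂ) :=
      ⟨Nat.cast_ne_zero.2 Monoid.exponent_ne_zero_of_finite⟩
    obtain ⟨φ, hφ⟩ := CommGroup.exists_apply_ne_one_of_hasEnoughRootsOfUnity (Abelianization ↥B) ℂ h1
    have h2 : lin (φ.comp Abelianization.of) x * ∑ l : ↥B →* ℂˣ, lin l x = ∑ l : ↥B →* ℂˣ, lin l x := by
      rw [Finset.mul_sum]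
      refine Fintype.sum_equiv (Equiv.mulLeft (φ.comp Abelianization.of)) _ _ fun l => ?_
      simp [lin_apply]
    have h3 : (lin (φ.comp Abelianization.of) x - 1) * ∑ l : ↥B →* ℂˣ, lin l x = 0 := by
      rw [sub_mul, h2, one_mul, sub_self]
    refine (mul_eq_zero.1 h3).resolve_left (sub_ne_zero.2 fun e => hφ ?_)
    exact Units.val_eq_one.1 e

/-- The twist of `b` by `g` is `a`. -/
def IsTwist {B : Subgroup G} (a b : ↥B →* ℂˣ) (g : G) : Prop :=
  ∀ x : B, extendByZero B (lin b) (g⁻¹ * x * g) = lin a x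

namespace RData

variable {t : G} {F : Type} [Field F] [Fintype F] {H P D T : Subgroup G} {w : G} {q k : ℕ}
  (R : RData t F H P D T w q k)
include R

theorem t_not_P : t ∉ P := fun h => by
  have h1 := R.odd_P h
  rw [R.point.invol] at h1
  exact absurd h1 (by decide)

theorem U_pow {x : G} (hx : x ∈ fixU t P) : x ^ q = 1 := by
  rw [← R.card_U]
  exact congrArg Subtype.val (pow_card_eq_one' (x := (⟨x, hx⟩ : fixU t P)))

theorem odd_q : Odd q := R.pow ▸ Odd.pow (by decide)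

theorem tU_pow {x : G} (hx : x ∈ fixU t P) : (t * x) ^ q = t := by
  obtain ⟨j, hj⟩ := R.odd_q
  rw [((mem_fixU.1 hx).2.symm).mul_pow, R.U_pow hx, mul_one, hj, pow_succ, pow_mul, pow_two, R.tt,
    one_pow, one_mul]

/-- `a` restricted to `U`. -/
noncomputable def resU (R : RData t F H P D T w q k) (a : ↥P →* ℂˣ) : ↥(fixU t P) →* ℂˣ :=
  a.comp (Subgroup.inclusion inf_le_left)

/-- The sum over `t P`. -/
theorem sum_tx [Fintype P] [Fintype (fixU t P)] (a : ↥P →* ℂˣ)
    (hinv : ∀ x : P, a ⟨t * x * t, R.tau_P x.2⟩ = a x) {χ : G → ℂ} (hχ : IsClassFunction G χ) :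
    (Nat.card P : ℂ)⁻¹ * ∑ x : P, lin a x * conj (χ (t * x)) =
      classInner (twInd t (fixU t P) (lin (R.resU a))) χ := by
  classical
  let Φ : P × fixU t P → P := fun z =>
    ⟨t * (z.1 : G)⁻¹ * t * z.2 * z.1, mul_mem (mul_mem (R.tau_P (inv_mem z.1.2)) z.2.2.1) z.1.2⟩
  have hΦ : ∀ z, t * (Φ z : G) = (z.1 : G)⁻¹ * (t * z.2) * (z.1 : G)⁻¹⁻¹ := fun z => by
    show t * (t * (z.1 : G)⁻¹ * t * z.2 * z.1) = _
    rw [show t * (t * (z.1 : G)⁻¹ * t * z.2 * z.1) = (t * t) * ((z.1 : G)⁻¹ * (t * z.2) * z.1) by group,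
      R.tt, one_mul, inv_inv]
  have hZ : ∀ y : P, (y : G) * ((QuotientGroup.mk y⁻¹ : P ⧸ (fixU t P).subgroupOf P).out : G) ∈ fixU t P := by
    intro y
    have h := QuotientGroup.eq.1 (QuotientGroup.out_eq' (QuotientGroup.mk y⁻¹ : P ⧸ (fixU t P).subgroupOf P))
    rw [mem_subgroupOf] at h
    have h' := inv_mem h
    simpa using h'
  let Θ : P × fixU t P → P × fixU t P := fun z => (Φ z, ⟨_, hZ z.1⟩)
  have hinj : Function.Injective Θ := by
    rintro ⟨y, u⟩ ⟨y', u'⟩ e
    have e1 : t * (Φ (y, u) : G) = t * (Φ (y', u') : G) :=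
      congrArg (fun z : P × fixU t P => t * (z.1 : G)) e
    have e2 : (y : G) * ((QuotientGroup.mk y⁻¹ : P ⧸ (fixU t P).subgroupOf P).out : G) =
        (y' : G) * ((QuotientGroup.mk y'⁻¹ : P ⧸ (fixU t P).subgroupOf P).out : G) :=
      congrArg (fun z : P × fixU t P => (z.2 : G)) e
    rw [hΦ, hΦ] at e1
    have e3 : (y : G)⁻¹ * t * (y : G)⁻¹⁻¹ = (y' : G)⁻¹ * t * (y' : G)⁻¹⁻¹ := by
      have := congrArg (· ^ q) e1
      simpa only [conj_pow, R.tU_pow u.2, R.tU_pow u'.2] using this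
    simp only [inv_inv] at e3 e1
    have hz : (y' : G) * (y : G)⁻¹ ∈ fixU t P := by
      refine mem_fixU.2 ⟨mul_mem y'.2 (inv_mem y.2), ?_⟩
      show (y' : G) * (y : G)⁻¹ * t = t * ((y' : G) * (y : G)⁻¹)
      calc (y' : G) * (y : G)⁻¹ * t = y' * ((y : G)⁻¹ * t * y) * (y : G)⁻¹ := by group
        _ = y' * ((y' : G)⁻¹ * t * y') * (y : G)⁻¹ := by rw [e3]
        _ = _ := by group
    have hu : (u' : G) = u := by
      have h1 : t * (u' : G) = (y' * (y : G)⁻¹) * (t * u) * (y' * (y : G)⁻¹)⁻¹ := by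
        calc t * (u' : G) = y' * ((y' : G)⁻¹ * (t * u') * y') * (y' : G)⁻¹ := by group
          _ = y' * ((y : G)⁻¹ * (t * u) * y) * (y' : G)⁻¹ := by rw [← e1]
          _ = _ := by group
      have hc1 : Commute ((y' : G) * (y : G)⁻¹) (t * u) :=
        (mem_fixU.1 hz).2.mul_right (R.U_elem.1 _ hz _ u.2)
      rw [hc1.eq, mul_inv_cancel_right] at h1
      exact mul_left_cancel h1
    have hq : (QuotientGroup.mk y⁻¹ : P ⧸ (fixU t P).subgroupOf P) = QuotientGroup.mk y'⁻¹ := by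
      rw [QuotientGroup.eq, mem_subgroupOf]
      have := inv_mem hz
      simpa using this
    rw [hq] at e2
    exact Prod.ext (Subtype.ext (mul_right_cancel e2)) (Subtype.ext hu.symm)
  have hbij := Finite.injective_iff_bijective.1 hinj
  set f : P → ℂ := fun x => lin a x * conj (χ (t * x)) with hf
  have h1 : ∑ z : P × fixU t P, f (Φ z) = (q : ℂ) * ∑ x : P, f x := by
    rw [Fintype.sum_equiv (Equiv.ofBijective Θ hbij) (fun z => f (Φ z)) (fun z => f z.1) fun z => rfl,
      Fintype.sum_prod_type, Finset.mul_sum]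
    refine Finset.sum_congr rfl fun x _ => ?_
    show ∑ _u : fixU t P, f x = _
    rw [Finset.sum_const, Finset.card_univ, ← Nat.card_eq_fintype_card, R.card_U, nsmul_eq_mul]
  have hval : ∀ (y : P) (u : fixU t P), f (Φ (y, u)) =
      lin (R.resU a) u * conj (χ (t * u)) := by
    intro y u
    have e : Φ (y, u) = (⟨t * (y⁻¹ : P) * t, R.tau_P (y⁻¹).2⟩ : P) * ⟨u, u.2.1⟩ * y := Subtype.ext rfl
    simp only [hf, hΦ]
    rw [hχ]
    congr 1
    rw [e, map_mul, map_mul, lin_apply, lin_apply, lin_apply, hinv, map_inv, Units.val_inv_eq_inv_val]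
    show _ = ((a ⟨u, u.2.1⟩ : ℂˣ) : ℂ)
    field_simp
  rw [Fintype.sum_prod_type, Finset.sum_congr rfl fun y _ => Finset.sum_congr rfl fun u _ => hval y u,
    Finset.sum_const, Finset.card_univ, ← Nat.card_eq_fintype_card, R.point.card_P, nsmul_eq_mul,
    Nat.cast_pow] at h1
  rw [twInd_inner R.tt _ _ hχ, R.point.card_P, R.card_U, Nat.cast_pow]
  have hq : (q : ℂ) ≠ 0 := Nat.cast_ne_zero.2 (by have := R.q_ge; omega)
  field_simp
  refine mul_left_cancel₀ hq ?_
  linear_combination -h1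

/-- `H = P D`. -/
theorem exists_mul {g : G} (hg : g ∈ H) : ∃ p ∈ P, ∃ d ∈ D, g = p * d := by
  let f : P × D → H := fun z => ⟨z.1 * z.2, mul_mem (R.point.P_le z.1.2) (R.point.D_le z.2.2)⟩
  have hinj : Function.Injective f := by
    rintro ⟨p, d⟩ ⟨p', d'⟩ e
    have e' : (p : G) * d = p' * d' := congrArg Subtype.val e
    have h : (p' : G)⁻¹ * p = d' * (d : G)⁻¹ := by
      rw [eq_mul_inv_iff_mul_eq, mul_assoc, e', inv_mul_cancel_left]
    have hp : (p' : G)⁻¹ * p ∈ P := mul_mem (inv_mem p'.2) p.2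
    have hd : (p' : G)⁻¹ * p ∈ D := h ▸ mul_mem d'.2 (inv_mem d.2)
    have h1 : (p' : G)⁻¹ * p = 1 := by
      by_contra hne
      exact hne (R.fpf hd hne (fun e1 => R.t_not_P (e1 ▸ hp)) hp (Commute.refl _))
    refine Prod.ext (Subtype.ext (inv_mul_eq_one.1 h1).symm) (Subtype.ext ?_)
    rw [h] at h1
    exact (mul_inv_eq_one.1 h1).symm
  obtain ⟨⟨p, d⟩, e⟩ := (hinj.bijective_of_nat_card_le (by
    rw [Nat.card_prod, R.point.card_P, R.point.card_D, R.point.card_H])).2 ⟨g, hg⟩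
  exact ⟨p, p.2, d, d.2, (congrArg Subtype.val e).symm⟩

/-- Fixed linear characters. -/
theorem stab {d : G} (hd : d ∈ D) (a : ↥P →* ℂˣ) (ha : a ≠ 1)
    (hfix : ∀ x : P, a ⟨d * x * d⁻¹, R.conj_P_D hd x.2⟩ = a x) : d = 1 ∨ d = t := by
  by_contra hne
  push Not at hne
  apply ha
  let f : P → P := fun x => x⁻¹ * ⟨d * x * d⁻¹, R.conj_P_D hd x.2⟩
  have hinj : Function.Injective f := by
    intro x y e
    have e' : (x : G)⁻¹ * (d * x * d⁻¹) = (y : G)⁻¹ * (d * y * d⁻¹) := congrArg Subtype.val e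
    have h1 : (y : G) * (x : G)⁻¹ = 1 := R.fpf hd hne.1 hne.2 (mul_mem y.2 (inv_mem x.2))
      (commute_of_conj_eq (by
        calc d * ((y : G) * (x : G)⁻¹) * d⁻¹ = (d * y * d⁻¹) * (d * x * d⁻¹)⁻¹ := by group
          _ = y * ((y : G)⁻¹ * (d * y * d⁻¹)) * ((x : G)⁻¹ * (d * x * d⁻¹))⁻¹ * (x : G)⁻¹ := by group
          _ = y * (x : G)⁻¹ := by rw [e']; group)).symm
    exact Subtype.ext (mul_inv_eq_one.1 h1).symm
  refine MonoidHom.ext fun z => ?_
  obtain ⟨x, rfl⟩ := (Finite.injective_iff_surjective.1 hinj) z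
  show a (x⁻¹ * _) = 1
  rw [map_mul, map_inv, hfix, inv_mul_cancel]

/-- The stabiliser in `H`. -/
theorem twist_stab {g : G} (hg : g ∈ H) (a : ↥P →* ℂˣ) (ha : a ≠ 1) (h : IsTwist a a g) :
    g ∈ P ∨ t * g ∈ P ∧ ∀ x : P, a ⟨t * x * t, R.tau_P x.2⟩ = a x := by
  obtain ⟨p, hp, d, hd, rfl⟩ := R.exists_mul hg
  have hfix : ∀ y : P, a ⟨d⁻¹ * y * d⁻¹⁻¹, R.conj_P_D (inv_mem hd) y.2⟩ = a y := by
    intro y
    have h1 := h (⟨p, hp⟩ * y * ⟨p, hp⟩⁻¹)
    simp only [Subgroup.coe_mul, InvMemClass.coe_inv] at h1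
    rw [show (p * d)⁻¹ * (p * y * p⁻¹) * (p * d) = d⁻¹ * y * d⁻¹⁻¹ by group,
      Char.extendByZero_mem P _ (R.conj_P_D (inv_mem hd) y.2), lin_apply, lin_apply,
      Units.val_inj, map_mul, map_mul, map_inv, mul_inv_cancel_comm] at h1
    exact h1
  rcases R.stab (inv_mem hd) a ha hfix with h1 | h1
  · left
    rwa [inv_eq_one.1 h1, mul_one]
  · right
    have hdt : d = t := by rw [← inv_inv d, h1, R.t_inv]
    refine ⟨?_, fun x => ?_⟩
    · rw [hdt, show t * (p * t) = t * p * t by group]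
      exact R.tau_P hp
    · have h2 := hfix x
      simp only [hdt, R.t_inv] at h2
      exact h2

open scoped Classical in
/-- Products of induced linear characters. -/
theorem ind_inner [Fintype P] (hG : Nat.card G = q ^ 3 * ((q ^ 3 + 1) * (q - 1))) (a b : ↥P →* ℂˣ) :
    classInner (indFun P (lin a)) (indFun P (lin b)) =
      ((q : ℂ) ^ 3)⁻¹ * (Nat.card {g : G // g ∈ H ∧ IsTwist a b g} : ℂ) + ((q : ℂ) - 1) := by
  have hq : (q : ℂ) ≠ 0 := Nat.cast_ne_zero.2 (by have := R.q_ge; omega)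
  rw [lcoef_ind a (Char.indFun_isClassFunction _ _), lcoef_eq, R.point.card_P, Nat.cast_pow]
  have e : ∀ x : P, lin a x * conj (indFun P (lin b) x) = ((q : ℂ) ^ 3)⁻¹ *
      ∑ g : G, lin a x * conj (extendByZero P (lin b) (g⁻¹ * x * g)) := fun x => by
    simp only [indFun, R.point.card_P, Nat.cast_pow, map_mul, map_inv₀, map_pow, map_natCast, map_sum,
      Finset.mul_sum]
    exact Finset.sum_congr rfl fun g _ => by ring
  have key : ∀ g : G, ∑ x : P, lin a x * conj (extendByZero P (lin b) (g⁻¹ * x * g)) =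
      (if g ∈ H ∧ IsTwist a b g then (q : ℂ) ^ 3 else 0) + (if g ∈ H then 0 else 1) := by
    intro g
    by_cases hg : g ∈ H
    · have hconj : ∀ x : P, g⁻¹ * (x : G) * g ∈ P := fun x => by
        simpa using R.conj_P (inv_mem hg) x.2
      let β : ↥P →* ↥P :=
        { toFun := fun x => ⟨g⁻¹ * x * g, hconj x⟩
          map_one' := Subtype.ext (by simp)
          map_mul' := fun x y => Subtype.ext (by simp [mul_assoc]) }
      have hterm : ∀ x : P, lin a x * conj (extendByZero P (lin b) (g⁻¹ * x * g)) =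
          lin a x * lin (b.comp β)⁻¹ x := fun x => by
        rw [Char.extendByZero_mem P _ (hconj x), ← conj_lin_apply]; rfl
      rw [Finset.sum_congr rfl fun x _ => hterm x, sum_lin_mul, hom_inv_inv, R.point.card_P, Nat.cast_pow,
        if_pos hg, add_zero]
      refine if_congr ⟨fun h => ⟨hg, fun x => ?_⟩, fun h => MonoidHom.ext fun x => ?_⟩ rfl rfl
      · rw [Char.extendByZero_mem P _ (hconj x), h]; rfl
      · have h1 := h.2 x
        rw [Char.extendByZero_mem P _ (hconj x), lin_apply, lin_apply, Units.val_inj] at h1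
        exact h1.symm
    · have hg' : g⁻¹ ∉ H := fun h => hg (by simpa using inv_mem h)
      rw [if_neg hg, if_neg (fun h => hg h.1), zero_add, Finset.sum_eq_single (1 : P)]
      · simp [Char.extendByZero_mem P _ (one_mem P), lin_apply, show (⟨1, one_mem P⟩ : ↥P) = 1 from rfl]
      · intro x _ hx
        rw [Char.extendByZero_not_mem P _ fun hm => hx (Subtype.ext (R.point.ti g⁻¹ hg' x x.2
          (by rwa [inv_inv]))), map_zero, mul_zero]
      · exact fun h => absurd (Finset.mem_univ _) h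
  rw [Finset.sum_congr rfl (fun x _ => e x), ← Finset.mul_sum, Finset.sum_comm,
    Finset.sum_congr rfl (fun g _ => key g), Finset.sum_add_distrib]
  simp only [Finset.sum_ite, Finset.sum_const_zero, add_zero, zero_add, Finset.sum_const, nsmul_eq_mul,
    mul_one]
  have h2 : (Finset.univ.filter fun g : G => g ∉ H).card = q ^ 3 * (q ^ 3 * (q - 1)) := by
    have hs := Finset.card_filter_add_card_filter_not (s := (Finset.univ : Finset G)) (fun g : G => g ∈ H)
    have hb : (Finset.univ.filter fun g : G => g ∈ H).card = q ^ 3 * (q - 1) := by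
      rw [← R.point.card_H, Nat.card_eq_fintype_card, Fintype.card_subtype]
    rw [hb, Finset.card_univ, ← Nat.card_eq_fintype_card, hG,
      show q ^ 3 * ((q ^ 3 + 1) * (q - 1)) = q ^ 3 * (q - 1) + q ^ 3 * (q ^ 3 * (q - 1)) by ring] at hs
    omega
  rw [h2, Nat.card_eq_fintype_card, Fintype.card_subtype, Nat.cast_mul, Nat.cast_mul, Nat.cast_pow,
    Nat.cast_sub (show 1 ≤ q by have := R.q_ge; omega), Nat.cast_one]
  field_simp

/-- The norm: stabiliser `P`. -/
theorem inner_noninv [Fintype P] (hG : Nat.card G = q ^ 3 * ((q ^ 3 + 1) * (q - 1))) {a : ↥P →* ℂˣ}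
    (ha : ¬ ∀ x : P, a ⟨t * x * t, R.tau_P x.2⟩ = a x) :
    classInner (indFun P (lin a)) (indFun P (lin a)) = (q : ℂ) := by
  have ha1 : a ≠ 1 := fun e => ha (by subst e; exact fun _ => rfl)
  have hq : (q : ℂ) ≠ 0 := Nat.cast_ne_zero.2 (by have := R.q_ge; omega)
  have e : Nat.card {g : G // g ∈ H ∧ IsTwist a a g} = q ^ 3 := by
    rw [← R.point.card_P]
    refine Nat.card_congr (Equiv.subtypeEquivRight fun g => ⟨fun h => ?_, fun h => ⟨R.point.P_le h, ?_⟩⟩)
    · rcases R.twist_stab h.1 a ha1 h.2 with h1 | ⟨-, h1⟩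
      · exact h1
      · exact absurd h1 ha
    · intro x
      have hm : g⁻¹ * (x : G) * g ∈ P := mul_mem (mul_mem (inv_mem h) x.2) h
      rw [Char.extendByZero_mem P _ hm,
        show (⟨g⁻¹ * x * g, hm⟩ : P) = ⟨g, h⟩⁻¹ * x * ⟨g, h⟩ from rfl, lin_apply, lin_apply,
        Units.val_inj, map_mul, map_mul, map_inv, mul_right_comm, inv_mul_cancel, one_mul]
  rw [R.ind_inner hG, e, Nat.cast_pow, inv_mul_cancel₀ (pow_ne_zero _ hq)]
  ring

/-- The norm: invariant, non-trivial. -/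
theorem inner_inv [Fintype P] (hG : Nat.card G = q ^ 3 * ((q ^ 3 + 1) * (q - 1))) {a : ↥P →* ℂˣ}
    (ha1 : a ≠ 1) (ha : ∀ x : P, a ⟨t * x * t, R.tau_P x.2⟩ = a x) :
    classInner (indFun P (lin a)) (indFun P (lin a)) = (q : ℂ) + 1 := by
  have hq : (q : ℂ) ≠ 0 := Nat.cast_ne_zero.2 (by have := R.q_ge; omega)
  have hn : ∀ x ∈ P, t * x * t ∈ P := fun x hx => R.tau_P hx
  have e : Nat.card {g : G // g ∈ H ∧ IsTwist a a g} = 2 * q ^ 3 := by
    rw [show 2 * q ^ 3 = Nat.card (ReeSylow.pExt t P R.tt hn) by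
      rw [← Nat.card_congr (ReeSylow.pExtEquiv R.tt hn R.t_not_P), Nat.card_prod,
        Nat.card_eq_fintype_card (α := Bool), Fintype.card_bool, R.point.card_P]]
    refine Nat.card_congr (Equiv.subtypeEquivRight fun g => ⟨fun h => ?_, fun h => ?_⟩)
    · exact (R.twist_stab h.1 a ha1 h.2).imp id And.left
    · rcases h with h | h
      · refine ⟨R.point.P_le h, fun x => ?_⟩
        have hm : g⁻¹ * (x : G) * g ∈ P := mul_mem (mul_mem (inv_mem h) x.2) h
        rw [Char.extendByZero_mem P _ hm,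
          show (⟨g⁻¹ * x * g, hm⟩ : P) = ⟨g, h⟩⁻¹ * x * ⟨g, h⟩ from rfl, lin_apply, lin_apply,
          Units.val_inj, map_mul, map_mul, map_inv, mul_right_comm, inv_mul_cancel, one_mul]
      · refine ⟨?_, fun x => ?_⟩
        · rw [← ReeSylow.eq_t_mul R.tt g]
          exact mul_mem (R.point.D_le R.point.t_mem) (R.point.P_le h)
        · have eg : g⁻¹ * (x : G) * g =
              (t * g)⁻¹ * (t * x * t) * (t * g) := by
            rw [show (t * g)⁻¹ * (t * (x : G) * t) * (t * g) = g⁻¹ * (t⁻¹ * t) * x * (t * t) * g by group,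
              inv_mul_cancel, R.tt, mul_one, mul_one]
          rw [eg, Char.extendByZero_mem P _ (mul_mem (mul_mem (inv_mem h) (R.tau_P x.2)) h),
            show (⟨(t * g)⁻¹ * (t * x * t) * (t * g), mul_mem (mul_mem (inv_mem h) (R.tau_P x.2)) h⟩ : P) =
              ⟨t * g, h⟩⁻¹ * ⟨t * x * t, R.tau_P x.2⟩ * ⟨t * g, h⟩ from rfl, lin_apply, lin_apply,
            Units.val_inj, map_mul, map_mul, map_inv, mul_right_comm, inv_mul_cancel, one_mul]
          exact ha x
  rw [R.ind_inner hG, e, Nat.cast_mul, Nat.cast_pow, Nat.cast_two]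
  field_simp
  ring

/-- The norm: trivial. -/
theorem inner_one [Fintype P] (hG : Nat.card G = q ^ 3 * ((q ^ 3 + 1) * (q - 1))) :
    classInner (indFun P (lin (1 : ↥P →* ℂˣ))) (indFun P (lin (1 : ↥P →* ℂˣ))) = 2 * ((q : ℂ) - 1) := by
  have hq : (q : ℂ) ≠ 0 := Nat.cast_ne_zero.2 (by have := R.q_ge; omega)
  have e : Nat.card {g : G // g ∈ H ∧ IsTwist (1 : ↥P →* ℂˣ) 1 g} = q ^ 3 * (q - 1) := by
    rw [← R.point.card_H]
    refine Nat.card_congr (Equiv.subtypeEquivRight fun g => ⟨And.left, fun h => ⟨h, fun x => ?_⟩⟩)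
    have hm : g⁻¹ * (x : G) * g ∈ P := by simpa using R.conj_P (inv_mem h) x.2
    rw [Char.extendByZero_mem P _ hm]
    rfl
  rw [R.ind_inner hG, e, Nat.cast_mul, Nat.cast_pow, Nat.cast_sub (show 1 ≤ q by have := R.q_ge; omega),
    Nat.cast_one]
  field_simp
  ring

/-- The product of two linear characters that are not conjugate. -/
theorem inner_apart [Fintype P] (hG : Nat.card G = q ^ 3 * ((q ^ 3 + 1) * (q - 1))) {a b : ↥P →* ℂˣ}
    (h : ∀ g ∈ H, ¬ IsTwist a b g) :
    classInner (indFun P (lin a)) (indFun P (lin b)) = (q : ℂ) - 1 := by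
  haveI : IsEmpty {g : G // g ∈ H ∧ IsTwist a b g} := ⟨fun g => h g g.2.1 g.2.2⟩
  rw [R.ind_inner hG, Nat.card_of_isEmpty, Nat.cast_zero, mul_zero, zero_add]

end RData

end Cfsg.Agent.PrimePowerTI
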