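import Cfsg.Agent.Lib.AbelianSylow.TwoTrans.Ree
import Cfsg.Agent.Lib.PSL2.Centralizers
import Cfsg.Agent.Lib.PSL2.Groups
import Cfsg.Agent.Lib.PrimePowerTI.Basic

/-!
# The point stabiliser of a group of Ree type (S3411)

For the data `Point t H P D w q` of a group of Ree type:

* `RData.fpf` : only `1` and `t` of `D` centralise non-trivial elements of `P`
* `RData.card_invariant` : a `T`-invariant subgroup of `P` has order a power of `q`
* `RData.exists_fix` : fixed points of `t` lift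
-/

set_option autoImplicit false
set_option linter.style.haveILetI false
set_option linter.unusedSectionVars false

namespace Cfsg.Agent.PrimePowerTI

open Subgroup Cfsg.Agent.AbelianSylow

universe u

variable {G : Type u} [Group G] [Finite G]

/-- The point stabiliser with the odd part `T` of the complement. -/
structure RData (t : G) (F : Type) [Field F] [Fintype F] (H P D T : Subgroup G) (w : G) (q k : ℕ) :
    Prop where
  jt : JTData G t F
  card_F : Fintype.card F = q
  point : TwoTrans.Point t H P D w q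
  pow : q = 3 ^ k
  k_three : 3 ≤ k
  k_odd : Odd k
  T_le : T ≤ D
  card_T : 2 * Nat.card T = q - 1
  sq_mem : ∀ d ∈ D, d * d ∈ T

/-- `T` exists. -/
theorem exists_torus {t : G} {H P D : Subgroup G} {w : G} {q : ℕ}
    (X : TwoTrans.Point t H P D w q) :
    ∃ T : Subgroup G, T ≤ D ∧ 2 * Nat.card T = q - 1 ∧ ∀ d ∈ D, d * d ∈ T := by
  haveI : Fact (Nat.Prime 2) := ⟨Nat.prime_two⟩
  let f : D →* D :=
    { toFun := fun d => d * d
      map_one' := mul_one 1
      map_mul' := fun a b => Subtype.ext (by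
        show (a : G) * b * (a * b) = a * a * (b * b)
        rw [(show Commute (b : G) a from X.comm b b.2 a a.2).mul_mul_mul_comm]) }
  have hker : IsPGroup 2 f.ker := fun x => ⟨1, by
    rw [pow_one, pow_two]; exact Subtype.ext x.2⟩
  obtain ⟨n, hn⟩ := IsPGroup.iff_card.1 hker
  have htk : (⟨t, X.t_mem⟩ : D) ∈ f.ker :=
    Subtype.ext (show t * t = 1 by rw [← pow_two, ← X.invol, pow_orderOf_eq_one])
  have hne : Nat.card f.ker ≠ 1 := fun h1 => by
    have h2 : f.ker = ⊥ := Subgroup.card_eq_one.1 h1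
    rw [h2, mem_bot] at htk
    have := X.invol
    rw [show t = 1 from congrArg Subtype.val htk, orderOf_one] at this
    omega
  have hprod := f.ker.card_mul_index
  rw [index_ker, hn, X.card_D] at hprod
  have hn1 : n = 1 := by
    rcases n with _ | _ | n
    · exact absurd (hn.trans (pow_zero 2)) hne
    · rfl
    · exfalso
      rw [show n + 1 + 1 = n + 2 from rfl, pow_add] at hprod
      have h4 : 4 ∣ q - 1 := ⟨2 ^ n * Nat.card f.range, by rw [← hprod]; ring⟩
      have := X.q8
      omega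
  subst hn1
  refine ⟨f.range.map D.subtype, map_subtype_le _, ?_, fun d hd =>
    ⟨⟨d * d, mul_mem hd hd⟩, ⟨⟨d, hd⟩, rfl⟩, rfl⟩⟩
  rw [card_map_of_injective D.subtype_injective, ← hprod, pow_one]

namespace RData

variable {t : G} {F : Type} [Field F] [Fintype F] {H P D T : Subgroup G} {w : G} {q k : ℕ}
  (R : RData t F H P D T w q k)
include R

theorem q8 : q % 8 = 3 := R.point.q8

theorem q_ge : 27 ≤ q := by
  rw [R.pow]
  exact (by norm_num : 27 ≤ 3 ^ 3).trans (Nat.pow_le_pow_right (by norm_num) R.k_three)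

theorem two_h : 2 * ((q - 1) / 2) + 1 = q := by
  have := R.q8; omega

theorem card_T' : Nat.card T = (q - 1) / 2 := by
  have := R.card_T; omega

theorem odd_T : Odd (Nat.card T) := by
  have := R.card_T; have := R.q8; rw [Nat.odd_iff]; omega

theorem one_lt_T : 1 < Nat.card T := by
  have := R.card_T; have := R.q_ge; omega

theorem coprime_T : Nat.Coprime q (Nat.card T) := by
  rw [R.pow]
  refine Nat.Coprime.pow_left k ((Nat.prime_three.coprime_iff_not_dvd).2 fun h => ?_)
  have h1 : 3 ∣ q - 1 := R.card_T ▸ h.mul_left 2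
  have h2 : 3 ∣ q := R.pow ▸ dvd_pow_self 3 (by have := R.k_three; omega)
  have := R.q_ge
  omega

theorem tt : t * t = 1 := by rw [← pow_two, ← R.point.invol, pow_orderOf_eq_one]

theorem t_inv : t⁻¹ = t := inv_eq_of_mul_eq_one_right R.tt

theorem t_ne : t ≠ 1 := fun e => by
  have := R.point.invol
  rw [e, orderOf_one] at this
  omega

theorem comm_t {d : G} (hd : d ∈ D) : Commute d t := R.point.comm d hd t R.point.t_mem

theorem pow_T {d : G} (hd : d ∈ T) : d ^ Nat.card T = 1 :=
  congrArg Subtype.val (pow_card_eq_one' (x := (⟨d, hd⟩ : T)))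

theorem eq_one_of_sq_T {d : G} (hd : d ∈ T) (h2 : d * d = 1) : d = 1 :=
  PSL2.eq_one_of_sq (R.odd_T.of_dvd_nat (T.orderOf_dvd_natCard hd)) h2

theorem t_not_T : t ∉ T := fun h => R.t_ne (R.eq_one_of_sq_T h R.tt)

theorem cases_D {d : G} (hd : d ∈ D) : d ∈ T ∨ t * d ∈ T := by
  set e : D := ⟨d, hd⟩
  have hidx : (T.subgroupOf D).index = 2 := by
    have h := (T.subgroupOf D).card_mul_index
    rw [Nat.card_congr (subgroupOfEquivOfLe R.T_le).toEquiv, R.point.card_D, ← R.card_T, mul_comm 2] at h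
    exact Nat.eq_of_mul_eq_mul_left Nat.card_pos h
  by_cases hdT : d ∈ T
  · exact Or.inl hdT
  · refine Or.inr ?_
    have h := (Subgroup.mul_mem_iff_of_index_two hidx (a := ⟨t, R.point.t_mem⟩) (b := e)).2
      (by simp only [mem_subgroupOf]; exact iff_of_false R.t_not_T hdT)
    exact h

theorem invol_D {d : G} (hd : d ∈ D) (h2 : d * d = 1) : d = 1 ∨ d = t := by
  rcases R.cases_D hd with h | h
  · exact Or.inl (R.eq_one_of_sq_T h h2)
  · refine Or.inr ?_
    have h3 : t * d * (t * d) = 1 := by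
      rw [(R.comm_t hd).mul_mul_mul_comm, R.tt, h2, one_mul]
    have h4 := R.eq_one_of_sq_T h h3
    rw [mul_eq_one_iff_eq_inv] at h4
    rw [h4, inv_eq_of_mul_eq_one_right h2]

theorem conj_P {h x : G} (hh : h ∈ H) (hx : x ∈ P) : h * x * h⁻¹ ∈ P :=
  (mem_normalizer_iff.1 (R.point.normal hh) x).1 hx

theorem conj_P_D {d x : G} (hd : d ∈ D) (hx : x ∈ P) : d * x * d⁻¹ ∈ P :=
  R.conj_P (R.point.D_le hd) hx

theorem tau_P {x : G} (hx : x ∈ P) : t * x * t ∈ P := by
  have := R.conj_P_D R.point.t_mem hx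
  rwa [R.t_inv] at this

theorem isPGroup_P : IsPGroup 3 P :=
  IsPGroup.of_card (n := k * 3) (by rw [R.point.card_P, R.pow, ← pow_mul])

theorem odd_P {x : G} (hx : x ∈ P) : Odd (orderOf x) := by
  refine Odd.of_dvd_nat ?_ (Nat.card_zpowers x ▸ card_dvd_of_le (zpowers_le.2 hx))
  rw [R.point.card_P, R.pow]
  exact (Odd.pow (by decide)).pow

/-- An involution commuting with `t` and a non-trivial element of `T` is `1` or `t`. -/
theorem no_invol {d i : G} (hd : d ∈ T) (hd1 : d ≠ 1) (hi : i * i = 1) (hid : Commute i d)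
    (hit : Commute i t) : i = 1 ∨ i = t := by
  haveI : Fact (Nat.Prime 3) := ⟨Nat.prime_three⟩
  haveI : CharP F 3 := charP_of_card_eq_prime_pow (f := k) (by rw [R.card_F, R.pow])
  obtain ⟨e⟩ := R.jt.cent
  set C := centralizer ({t} : Set G)
  have mem : ∀ {x : G}, Commute x t → x ∈ C := fun h => mem_centralizer_singleton_iff.2 h.eq
  set x : PSL2.PSL2 F := (e ⟨d, mem (R.comm_t (R.T_le hd))⟩).2
  have hTodd := R.odd_T
  have hdo : orderOf d ∣ Nat.card T := T.orderOf_dvd_natCard hd
  have hfst : ∀ a : Multiplicative (ZMod 2), a ^ Nat.card T = 1 → a = 1 := by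
    intro a ha
    obtain ⟨j, hj⟩ := hTodd
    rw [hj, pow_succ, pow_mul, (by decide : ∀ b : Multiplicative (ZMod 2), b ^ 2 = 1) a, one_pow, one_mul] at ha
    exact ha
  have hxpow : e ⟨d, mem (R.comm_t (R.T_le hd))⟩ ^ Nat.card T = 1 := by
    rw [← map_pow, MulEquiv.map_eq_one_iff]
    exact Subtype.ext (R.pow_T hd)
  have hx1 : x ≠ 1 := fun hx => hd1 (congrArg Subtype.val ((MulEquiv.map_eq_one_iff e).1
    (Prod.ext (hfst _ (congrArg Prod.fst hxpow)) hx)))
  have hxo : orderOf x ∣ Nat.card T := orderOf_dvd_of_pow_eq_one (congrArg Prod.snd hxpow)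
  have hxo3 : ¬ orderOf x ∣ 3 := by
    intro h
    rcases (Nat.dvd_prime Nat.prime_three).1 h with e1 | e1
    · exact hx1 (orderOf_eq_one_iff.1 e1)
    · have := Nat.dvd_gcd (R.pow ▸ (dvd_pow_self 3 (by have := R.k_three; omega)) : 3 ∣ q) (e1 ▸ hxo)
      rw [R.coprime_T] at this
      norm_num at this
  have hx3 : 3 ≤ orderOf x := by
    have h0 := orderOf_pos x
    have h1 : orderOf x ≠ 1 := fun e1 => hx1 (orderOf_eq_one_iff.1 e1)
    have h2 : orderOf x ≠ 2 := fun e1 => by
      have := (Nat.odd_iff.1 hTodd)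
      have := Nat.mod_eq_zero_of_dvd (e1 ▸ hxo)
      omega
    omega
  obtain ⟨y, hxy, hC, hy⟩ := PSL2.centralizer_torus 3 hxo3 hx3
  have hyodd : Odd (orderOf y) := by
    rcases hy with hy | hy
    · rw [hy, Nat.card_eq_fintype_card, R.card_F]
      have := R.q8
      rw [Nat.gcd_eq_left (show 2 ∣ q - 1 by omega), Nat.odd_iff]
      omega
    · exfalso
      have h1 : orderOf x ∣ (Nat.card F - 1) / Nat.gcd 2 (Nat.card F - 1) := by
        rw [Nat.card_eq_fintype_card, R.card_F]
        have := R.q8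
        rw [Nat.gcd_eq_left (show 2 ∣ q - 1 by omega), ← R.card_T']
        exact hxo
      have h2 := Nat.dvd_gcd h1 (hy ▸ orderOf_dvd_of_mem_zpowers hxy)
      rw [PSL2.coprime_torus (F := F), Nat.dvd_one] at h2
      omega
  have key : ∀ z : G, ∀ hzt : Commute z t, z * z = 1 → Commute z d → (e ⟨z, mem hzt⟩).2 = 1 := by
    intro z hzt hz2 hzd
    have hc : Commute (e ⟨z, mem hzt⟩).2 x :=
      congrArg Prod.snd ((show Commute (⟨z, mem hzt⟩ : C) ⟨d, mem (R.comm_t (R.T_le hd))⟩ from
        Subtype.ext hzd.eq).map e).eq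
    have hm : (e ⟨z, mem hzt⟩).2 ∈ zpowers y := hC ▸ mem_centralizer_singleton_iff.2 hc.eq
    refine PSL2.eq_one_of_sq (hyodd.of_dvd_nat (orderOf_dvd_of_mem_zpowers hm)) ?_
    have : e ⟨z, mem hzt⟩ * e ⟨z, mem hzt⟩ = 1 := by
      rw [← map_mul, MulEquiv.map_eq_one_iff]
      exact Subtype.ext hz2
    exact congrArg Prod.snd this
  by_cases hi1 : i = 1
  · exact Or.inl hi1
  refine Or.inr ?_
  have hi' := key i hit hi hid
  have ht' := key t (Commute.refl t) R.tt (R.comm_t (R.T_le hd)).symm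
  have hne : ∀ z : G, ∀ hzt : Commute z t, z ≠ 1 → (e ⟨z, mem hzt⟩).2 = 1 →
      (e ⟨z, mem hzt⟩).1 ≠ 1 := fun z hzt hz h2 h1 =>
    hz (congrArg Subtype.val ((MulEquiv.map_eq_one_iff e).1 (Prod.ext h1 h2)))
  have heq : e ⟨i, mem hit⟩ = e ⟨t, mem (Commute.refl t)⟩ :=
    Prod.ext ((Local.zmod_two_cases _ _ (hne t (Commute.refl t) R.t_ne ht')).resolve_left
      (hne i hit hi1 hi')) (hi'.trans ht'.symm)
  exact congrArg Subtype.val (e.injective heq)

/-- The centraliser of a non-trivial element of `T` has twice odd order. -/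
theorem not_four_cent {d : G} (hd : d ∈ T) (hd1 : d ≠ 1) :
    ¬ 4 ∣ Nat.card (centralizer ({d} : Set G)) := by
  intro h4
  haveI : Fact (Nat.Prime 2) := ⟨Nat.prime_two⟩
  have htC : t ∈ centralizer ({d} : Set G) :=
    mem_centralizer_singleton_iff.2 (R.comm_t (R.T_le hd)).symm.eq
  obtain ⟨Q, hQ⟩ := (IsPGroup.of_card (p := 2) (n := 1)
    (G := zpowers (⟨t, htC⟩ : centralizer ({d} : Set G)))
    (by rw [Nat.card_zpowers, ← orderOf_coe, R.point.invol, pow_one])).exists_le_sylow
  obtain ⟨S, hS⟩ := (Q.2.map (centralizer ({d} : Set G)).subtype).exists_le_sylow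
  have htS : t ∈ (S : Subgroup G) := hS ⟨_, hQ (mem_zpowers _), rfl⟩
  obtain ⟨⟨hScomm⟩, hSsq⟩ := (R.jt.sylow S).1
  have hQ2 : Nat.card (Q : Subgroup (centralizer ({d} : Set G))) ≤ Nat.card ({1, t} : Set G) := by
    refine Nat.card_le_card_of_injective
      (fun z : (Q : Subgroup (centralizer ({d} : Set G))) =>
        (⟨((z : centralizer ({d} : Set G)) : G), ?_⟩ : ({1, t} : Set G)))
      fun a b h => Subtype.ext (Subtype.ext (congrArg Subtype.val h :))
    have hzS : ((z : centralizer ({d} : Set G)) : G) ∈ (S : Subgroup G) := hS ⟨_, z.2, rfl⟩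
    refine R.no_invol hd hd1 (by rw [← pow_two]; exact hSsq _ hzS)
      (mem_centralizer_singleton_iff.1 (z : centralizer ({d} : Set G)).2) ?_
    exact congrArg Subtype.val (hScomm.comm ⟨_, hzS⟩ ⟨t, htS⟩)
  have h1 := Q.pow_dvd_card_of_pow_dvd_card (n := 2) h4
  have h2 : Nat.card ({1, t} : Set G) ≤ 2 := by
    rw [Nat.card_coe_set_eq]
    exact (Set.ncard_insert_le _ _).trans (by simp)
  have := Nat.le_of_dvd Nat.card_pos h1
  omega

theorem conj_w {d : G} (hd : d ∈ D) : w⁻¹ * d * w = d⁻¹ := by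
  have h := R.point.w_inv d hd
  rw [inv_eq_of_mul_eq_one_right R.point.w_mul] at h ⊢
  exact h

/-- Non-trivial elements of `T` act without fixed points on `P`. -/
theorem fpf_T {d : G} (hd : d ∈ T) (hd1 : d ≠ 1) {x : G} (hx : x ∈ P) (hxd : Commute x d) :
    x = 1 := by
  set C := centralizer ({d} : Set G) with hC
  have mC : ∀ {g : G}, g ∈ C ↔ Commute g d := mem_centralizer_singleton_iff
  have hwi : w⁻¹ = w := inv_eq_of_mul_eq_one_right R.point.w_mul
  have hCH : C ≤ H := by
    by_contra hcon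
    obtain ⟨g₀, hg₀C, hg₀H⟩ := SetLike.not_le_iff_exists.1 hcon
    have dec : ∀ g : G, g ∈ C → ∀ p ∈ P, ∀ h ∈ H, g = p * w * h → Commute p d := by
      intro g hg p hp h hh e
      have hdD := R.T_le hd
      set p' := d * p * d⁻¹ with hp'
      set h' := d⁻¹ * h * d⁻¹ with hh'
      have hh'H : h' ∈ H := mul_mem (mul_mem (inv_mem (R.point.D_le hdD)) hh) (inv_mem (R.point.D_le hdD))
      have e1 : p * w * h = p' * w * h' := by
        calc p * w * h = d * (p * w * h) * d⁻¹ := by
              rw [← e, show Commute d g from (mC.1 hg).symm |>.eq, mul_inv_cancel_right]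
          _ = p' * (d * w) * h * d⁻¹ := by rw [hp']; group
          _ = p' * w * h' := by
              rw [show d * w = w * d⁻¹ by rw [← R.conj_w hdD]; group, hh']
              group
      have hsemi := R.point.semireg w R.point.w_not (p'⁻¹ * p)
        (mul_mem (inv_mem (R.conj_P_D hdD hp)) hp) (by
          rw [hwi, show w * (p'⁻¹ * p) * w = w * p'⁻¹ * (p * w * h) * h⁻¹ by group, e1,
            show w * p'⁻¹ * (p' * w * h') * h⁻¹ = w * w * (h' * h⁻¹) by group, R.point.w_mul, one_mul]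
          exact mul_mem hh'H (inv_mem hh))
      exact (commute_of_conj_eq (inv_mul_eq_one.1 hsemi)).symm
    obtain ⟨p₀, hp₀, h₀, hh₀, e₀⟩ := R.point.cover g₀ hg₀H
    have hp₀d : p₀ ∈ C := mC.2 (dec g₀ hg₀C p₀ hp₀ h₀ hh₀ e₀)
    set C₀ := (H ⊓ C).subgroupOf C with hC₀
    set RR := P ⊓ C with hRR
    have hq0H : p₀⁻¹ * g₀ ∉ H := fun hm => R.point.w_not (by
      rw [e₀, show p₀⁻¹ * (p₀ * w * h₀) = w * h₀ by group] at hm
      exact (mul_mem_cancel_right hh₀).1 hm)
    have hq0C : p₀⁻¹ * g₀ ∈ C := mul_mem (inv_mem hp₀d) hg₀C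
    let f : Option RR → (C ⧸ C₀) := fun o => match o with
      | none => QuotientGroup.mk 1
      | some r => QuotientGroup.mk ⟨(r : G) * (p₀⁻¹ * g₀), mul_mem r.2.2 hq0C⟩
    have hfinj : Function.Injective f := by
      have hne : ∀ r : RR, f (some r) ≠ f none := fun r e => by
        have := QuotientGroup.eq.1 e.symm
        rw [hC₀, mem_subgroupOf] at this
        have h1 : (r : G) * (p₀⁻¹ * g₀) ∈ H := by
          have := this.1
          simpa using this
        exact hq0H ((mul_mem_cancel_left (R.point.P_le r.2.1)).1 h1)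
      rintro (_ | a) (_ | b) e
      · rfl
      · exact absurd e.symm (hne b)
      · exact absurd e (hne a)
      · have := QuotientGroup.eq.1 e
        rw [hC₀, mem_subgroupOf] at this
        have h1 := this.1
        simp only [Subgroup.coe_mul, InvMemClass.coe_inv] at h1
        have h2 := R.point.semireg _ hq0H ((a : G)⁻¹ * b) (mul_mem (inv_mem a.2.1) b.2.1)
          (by simpa [mul_assoc] using h1)
        exact congrArg some (Subtype.ext (inv_mul_eq_one.1 h2))
    have hfsurj : Function.Surjective f := by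
      intro c
      obtain ⟨⟨g, hg⟩, rfl⟩ := QuotientGroup.mk_surjective c
      by_cases hgH : g ∈ H
      · refine ⟨none, QuotientGroup.eq.2 ?_⟩
        rw [hC₀, mem_subgroupOf]
        simpa using ⟨hgH, hg⟩
      · obtain ⟨p, hp, h, hh, e⟩ := R.point.cover g hgH
        have hpd : p ∈ C := mC.2 (dec g hg p hp h hh e)
        refine ⟨some ⟨p, hp, hpd⟩, QuotientGroup.eq.2 ?_⟩
        rw [hC₀, mem_subgroupOf]
        refine ⟨?_, Subtype.coe_prop _⟩
        show ((p : G) * (p₀⁻¹ * g₀))⁻¹ * g ∈ H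
        rw [e, e₀, show (p * (p₀⁻¹ * (p₀ * w * h₀)))⁻¹ * (p * w * h) = h₀⁻¹ * h by group]
        exact mul_mem (inv_mem hh₀) hh
    have hidx : C₀.index = Nat.card RR + 1 := by
      rw [index_eq_card, ← Nat.card_congr (Equiv.ofBijective f ⟨hfinj, hfsurj⟩)]
      exact Finite.card_option
    obtain ⟨a, ha⟩ : 2 ∣ Nat.card C₀ := by
      have htC : t ∈ C := mC.2 (R.comm_t (R.T_le hd)).symm
      have hm : (⟨t, htC⟩ : C) ∈ C₀ := by
        rw [hC₀, mem_subgroupOf]; exact ⟨R.point.D_le R.point.t_mem, htC⟩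
      have := C₀.orderOf_dvd_natCard hm
      rwa [← orderOf_coe, R.point.invol] at this
    obtain ⟨b, hb⟩ : Odd (Nat.card RR) := by
      refine Odd.of_dvd_nat ?_ (card_dvd_of_le (inf_le_left : RR ≤ P))
      rw [R.point.card_P, R.pow]
      exact (Odd.pow (by decide)).pow
    refine R.not_four_cent hd hd1 ⟨a * (b + 1), ?_⟩
    rw [← C₀.card_mul_index, hidx, ha, hb]
    ring
  have hxC : x ∈ C := mC.2 hxd
  have hwx : w * x * w ∈ C := by
    refine mC.2 ?_
    have h := ((Commute.conj_iff w).2 hxd).inv_right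
    rw [R.point.w_inv d (R.T_le hd), inv_inv, hwi] at h
    exact h
  exact R.point.semireg w R.point.w_not x hx (by rw [hwi]; exact hCH hwx)

/-- Only `1` and `t` of `D` centralise non-trivial elements of `P`. -/
theorem fpf {d : G} (hd : d ∈ D) (hd1 : d ≠ 1) (hdt : d ≠ t) {x : G} (hx : x ∈ P)
    (hxd : Commute x d) : x = 1 :=
  R.fpf_T (R.sq_mem d hd) (fun e => (R.invol_D hd e).elim hd1 hdt) hx (hxd.mul_right hxd)

/-- A subgroup of `P` normalised by `T` has order a power of `q`. -/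
theorem card_invariant {N : Subgroup G} (hN : N ≤ P)
    (hT : ∀ d ∈ T, ∀ x ∈ N, d * x * d⁻¹ ∈ N) :
    ∃ j, j ≤ 3 ∧ Nat.card N = q ^ j := by
  have hdvd : Nat.card T ∣ Nat.card N - 1 := by
    letI : MulAction T {x : N // x ≠ 1} :=
      { smul := fun d x => ⟨⟨(d : G) * x.1 * (d : G)⁻¹, hT d d.2 _ x.1.2⟩,
          fun e => x.2 (Subtype.ext (conj_eq_one_iff.1 (congrArg Subtype.val e)))⟩
        one_smul := fun x => by
          refine Subtype.ext (Subtype.ext ?_)
          show (1 : G) * x.1 * (1 : G)⁻¹ = x.1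
          group
        mul_smul := fun a b x => by
          refine Subtype.ext (Subtype.ext ?_)
          show ((a : G) * b) * x.1 * ((a : G) * b)⁻¹ = a * (b * x.1 * (b : G)⁻¹) * (a : G)⁻¹
          group }
    have h := PSL2.dvd_card_of_free T {x : N // x ≠ 1} fun x d e => by
      by_contra hd
      have e' : (d : G) * x.1 * (d : G)⁻¹ = x.1 := congrArg (fun z : {x : N // x ≠ 1} => (z.1 : G)) e
      exact x.2 (Subtype.ext (R.fpf_T d.2 (fun e1 => hd (Subtype.ext e1)) (hN x.1.2)
        (commute_of_conj_eq e').symm))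
    have hc : Nat.card {x : N // x ≠ 1} = Nat.card N - 1 := by
      classical
      haveI := Fintype.ofFinite N
      rw [Nat.card_eq_fintype_card, Nat.card_eq_fintype_card, Fintype.card_subtype_compl,
        Fintype.card_subtype_eq]
    rwa [hc] at h
  have hcard := card_dvd_of_le hN
  rw [R.point.card_P, R.pow, ← pow_mul] at hcard
  obtain ⟨i, hi, hNi⟩ := (Nat.dvd_prime_pow Nat.prime_three).1 hcard
  obtain ⟨a, b, hb, rfl⟩ : ∃ a b, b < k ∧ i = k * a + b :=
    ⟨i / k, i % k, Nat.mod_lt _ (by have := R.k_three; omega), (Nat.div_add_mod i k).symm⟩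
  suffices hb0 : b = 0 by
    subst hb0
    refine ⟨a, ?_, by rw [hNi, add_zero, pow_mul, R.pow]⟩
    have hk : 0 < k := by have := R.k_three; omega
    exact Nat.le_of_mul_le_mul_left (by simpa using hi) hk
  by_contra hb0
  have hmod : ∀ {c : ℕ}, Nat.card T ∣ c - 1 → 1 ≤ c → c ≡ 1 [MOD Nat.card T] := fun h h1 =>
    ((Nat.modEq_iff_dvd' h1).2 h).symm
  have h1 := hmod (hNi ▸ hdvd) (Nat.one_le_pow _ _ (by norm_num))
  have h2 : 3 ^ k ≡ 1 [MOD Nat.card T] := by
    rw [← R.pow]
    exact hmod (R.card_T ▸ Dvd.intro_left 2 rfl) (by have := R.q_ge; omega)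
  rw [pow_add, pow_mul] at h1
  have h3 := ((h2.pow a).mul_right (3 ^ b)).symm.trans h1
  rw [one_pow, one_mul] at h3
  have h4 := Nat.le_of_dvd (by
    have : 3 ≤ 3 ^ b := le_self_pow₀ (by norm_num) hb0
    omega) ((Nat.modEq_iff_dvd' (Nat.one_le_pow _ _ (by norm_num))).1 h3.symm)
  have h5 : 3 ^ b * 3 ≤ q := by
    rw [R.pow, ← pow_succ]
    exact Nat.pow_le_pow_right (by norm_num) hb
  have h6 := R.card_T
  have h7 := R.q_ge
  have h8 : 1 ≤ 3 ^ b := Nat.one_le_pow _ _ (by norm_num)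
  generalize 3 ^ b = B at h4 h5 h8
  generalize Nat.card T = c at h4 h6
  clear hi hNi h1 h2 h3
  omega

/-- Fixed points of `t` in quotients of `P` lift. -/
theorem exists_fix {N : Subgroup G} (hN : N ≤ P) {x : G} (hx : x ∈ P)
    (hfix : x⁻¹ * (t * x * t) ∈ N) :
    ∃ u ∈ P ⊓ centralizer ({t} : Set G), u⁻¹ * x ∈ N := by
  set y := x⁻¹ * (t * x * t) with hy
  have hyt : t * y * t = y⁻¹ := by
    calc t * y * t = t * x⁻¹ * (t * x * (t * t)) := by rw [hy]; group
      _ = y⁻¹ := by rw [R.tt, mul_one, hy, mul_inv_rev, mul_inv_rev, mul_inv_rev, R.t_inv]; group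
  obtain ⟨j, hj⟩ := R.odd_P (hN hfix)
  set z := y ^ (j + 1) with hz
  have hzz : z * z = y := by
    rw [hz, ← pow_add, show j + 1 + (j + 1) = orderOf y + 1 by omega, pow_succ, pow_orderOf_eq_one,
      one_mul]
  have hzt : t * z * t = z⁻¹ := by
    have := conj_pow (i := j + 1) (a := t) (b := y)
    rw [R.t_inv, hyt, inv_pow] at this
    rw [hz, ← this]
  refine ⟨x * z, ⟨mul_mem hx (pow_mem (hN hfix) _), mem_centralizer_singleton_iff.2 ?_⟩, ?_⟩
  · have e : t * (x * z) * t = x * z := by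
      calc t * (x * z) * t = t * x * (t * t) * z * t := by rw [R.tt, mul_one]; group
        _ = x * y * (t * z * t) := by rw [hy]; group
        _ = x * z := by rw [hzt, ← hzz]; group
    calc x * z * t = t * (x * z) * t * t := by rw [e]
      _ = t * (x * z) := by rw [mul_assoc, R.tt, mul_one]
  · rw [mul_inv_rev, inv_mul_cancel_right]
    exact inv_mem (pow_mem hfix _)

end RData

end Cfsg.Agent.PrimePowerTI
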