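import Cfsg.Agent.Lib.PrimePowerTI.ReeLocal
import Cfsg.Agent.Lib.PLocal.Basic
import Cfsg.Agent.Lib.PGroup.Basic
import Mathlib.GroupTheory.FixedPointFree
import Mathlib.GroupTheory.Solvable

/-!
# The Sylow 3-subgroup in the Ree case (S3411)

* `RData.cases` : `U` misses `P'`, or `U = P'` is central, or class three (`ClassThree`)
* `ClassThree.cube` : then `P` has exponent 3 if its cyclic subgroups are TI
-/

set_option autoImplicit false
set_option linter.style.haveILetI false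
set_option linter.unusedSectionVars false
set_option linter.unusedVariables false

namespace Cfsg.Agent.PrimePowerTI

open Subgroup Cfsg.Agent.AbelianSylow
open scoped commutatorElement

universe u

variable {G : Type u} [Group G] [Finite G]

namespace RData

/-- `U = C_P(t)`. -/
abbrev fixU (t : G) (P : Subgroup G) : Subgroup G := P ⊓ centralizer ({t} : Set G)

variable {t : G} {F : Type} [Field F] [Fintype F] {H P D T : Subgroup G} {w : G} {q k : ℕ}
  (R : RData t F H P D T w q k)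
include R

omit R [Finite G] in
theorem mem_fixU {x : G} : x ∈ fixU t P ↔ x ∈ P ∧ Commute x t := by
  rw [fixU, Subgroup.mem_inf, mem_centralizer_singleton_iff]
  rfl

omit R [Finite G] in
theorem conj_fix {x : G} (h : t * x * t = x) (ht : t * t = 1) : Commute x t := by
  show x * t = t * x
  calc x * t = t * x * t * t := by rw [h]
    _ = t * x := by rw [mul_assoc, ht, mul_one]

theorem fix_of_mem {x : G} (hx : x ∈ fixU t P) : t * x * t = x := by
  rw [← (mem_fixU.1 hx).2.eq, mul_assoc, R.tt, mul_one]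

theorem conj_U_D {d x : G} (hd : d ∈ D) (hx : x ∈ fixU t P) : d * x * d⁻¹ ∈ fixU t P := by
  rw [mem_fixU] at hx ⊢
  refine ⟨R.conj_P_D hd hx.1, ?_⟩
  have := (Commute.conj_iff d).2 hx.2
  rwa [conj_eq_of_commute (R.comm_t hd)] at this

theorem one_lt_q : 1 < q := by have := R.q_ge; omega

theorem pow_le_pow_iff {a b : ℕ} : q ^ a ≤ q ^ b ↔ a ≤ b := Nat.pow_le_pow_iff_right R.one_lt_q

theorem card_U : Nat.card (fixU t P) = q := by
  obtain ⟨j, hj3, hj⟩ := R.card_invariant (N := fixU t P) inf_le_left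
    fun d hd x hx => R.conj_U_D (R.T_le hd) hx
  set HC := H ⊓ centralizer ({t} : Set G)
  have hq1 : 1 ≤ q := R.one_lt_q.le
  have hle : fixU t P ≤ HC := fun x hx => ⟨R.point.P_le hx.1, hx.2⟩
  have hDle : D ≤ HC := fun d hd =>
    ⟨R.point.D_le hd, mem_centralizer_singleton_iff.2 (R.comm_t hd).eq⟩
  have hcop : Nat.Coprime (q ^ j) (q - 1) := by
    refine Nat.Coprime.pow_left j ?_
    conv_lhs => rw [← Nat.sub_add_cancel hq1]
    simp
  have h1 : q ^ j * (q - 1) ∣ q * (q - 1) := by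
    refine hcop.mul_dvd_of_dvd_of_dvd ?_ ?_
    · rw [← hj, ← R.point.cent_H]; exact card_dvd_of_le hle
    · rw [← R.point.cent_H]; exact R.point.card_D ▸ card_dvd_of_le hDle
  have hqpos : 0 < q - 1 := by have := R.q_ge; omega
  have hj1 : j ≤ 1 := R.pow_le_pow_iff.1 (by
    rw [pow_one]
    exact Nat.le_of_dvd (by omega) ((Nat.mul_dvd_mul_iff_right hqpos).1 h1))
  have h2 := PLocal.card_sup_mul_card_inf (H := P) (K := HC) (inf_le_left.trans R.point.normal)
  have h3 : Nat.card (P ⊔ HC : Subgroup G) ≤ q ^ 3 * (q - 1) := R.point.card_H ▸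
    card_le_of_le (sup_le R.point.P_le inf_le_left)
  have e : P ⊓ HC = fixU t P :=
    le_antisymm (fun x hx => ⟨hx.1, hx.2.2⟩) (le_inf inf_le_left hle)
  rw [e, hj, R.point.card_P, R.point.cent_H] at h2
  have h4 : q ^ 3 * (q * (q - 1)) ≤ q ^ 3 * (q - 1) * q ^ j := h2 ▸ Nat.mul_le_mul_right _ h3
  have h5 : q ≤ q ^ j := by
    have : (q ^ 3 * (q - 1)) * q ≤ (q ^ 3 * (q - 1)) * q ^ j := by linarith
    exact Nat.le_of_mul_le_mul_left this (Nat.mul_pos (pow_pos (by omega) 3) hqpos)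
  have hj2 : 1 ≤ j := R.pow_le_pow_iff.1 (by rwa [pow_one])
  rw [hj, show j = 1 by omega, pow_one]

/-- A proper invariant subgroup of an invariant subgroup of order `q` is trivial. -/
theorem irreducible {N M : Subgroup G} (hN : N ≤ P) (hc : Nat.card N = q) (hM : M ≤ N)
    (hT : ∀ d ∈ T, ∀ x ∈ M, d * x * d⁻¹ ∈ M) : M = ⊥ ∨ M = N := by
  obtain ⟨j, -, hj⟩ := R.card_invariant (hM.trans hN) hT
  have hle := hj ▸ hc ▸ card_le_of_le hM
  rcases Nat.eq_zero_or_pos j with rfl | hj0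
  · exact Or.inl (Subgroup.card_eq_one.1 (by rw [hj, pow_zero]))
  · refine Or.inr (eq_of_le_of_card_ge hM ?_)
    rw [hc, hj]
    exact le_self_pow₀ R.one_lt_q.le (by omega)

theorem elementary {N : Subgroup G} (hN : N ≤ P) (hc : Nat.card N = q)
    (hT : ∀ d ∈ T, ∀ x ∈ N, d * x * d⁻¹ ∈ N) :
    (∀ x ∈ N, ∀ y ∈ N, Commute x y) ∧ ∀ x ∈ N, x ^ 3 = 1 := by
  haveI : Fact (Nat.Prime 3) := ⟨Nat.prime_three⟩
  have hp : IsPGroup 3 N := R.isPGroup_P.to_le hN
  haveI : Nontrivial N := by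
    rw [← Finite.one_lt_card_iff_nontrivial, hc]; exact R.one_lt_q
  have hcomm : ∀ x ∈ N, ∀ y ∈ N, Commute x y := by
    set M := N ⊓ centralizer (N : Set G) with hM
    have hMT : ∀ d ∈ T, ∀ x ∈ M, d * x * d⁻¹ ∈ M := by
      intro d hd x hx
      refine ⟨hT d hd x hx.1, mem_centralizer_iff.2 fun y hy => ?_⟩
      have hy' : d⁻¹ * y * d⁻¹⁻¹ ∈ N := hT _ (inv_mem hd) y hy
      rw [inv_inv] at hy'
      calc y * (d * x * d⁻¹) = d * ((d⁻¹ * y * d) * x) * d⁻¹ := by group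
        _ = d * (x * (d⁻¹ * y * d)) * d⁻¹ := by rw [mem_centralizer_iff.1 hx.2 _ hy']
        _ = d * x * d⁻¹ * y := by group
    rcases R.irreducible hN hc inf_le_left hMT with h | h
    · exfalso
      obtain ⟨z, hz, hz1⟩ := (bot_or_exists_ne_one (center N)).resolve_left
        (IsPGroup.bot_lt_center (p := 3) hp).ne'
      have hzM : (z : G) ∈ M := ⟨z.2, mem_centralizer_iff.2 fun y hy =>
        congrArg Subtype.val (mem_center_iff.1 hz ⟨y, hy⟩)⟩
      rw [show M = ⊥ from h, mem_bot] at hzM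
      exact hz1 (Subtype.ext hzM)
    · intro x hx y hy
      have hxM : x ∈ M := (show M = N from h).symm ▸ hx
      exact (mem_centralizer_iff.1 hxM.2 y hy).symm
  refine ⟨hcomm, ?_⟩
  let M : Subgroup G :=
    { carrier := {x | x ∈ N ∧ x ^ 3 = 1}
      one_mem' := ⟨one_mem _, one_pow 3⟩
      mul_mem' := fun {a b} ha hb =>
        ⟨mul_mem ha.1 hb.1, by rw [(hcomm a ha.1 b hb.1).mul_pow, ha.2, hb.2, one_mul]⟩
      inv_mem' := fun {a} ha => ⟨inv_mem ha.1, by rw [inv_pow, ha.2, inv_one]⟩ }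
  rcases R.irreducible hN hc (M := M) (fun x hx => hx.1)
    (fun d hd x hx => ⟨hT d hd x hx.1, by rw [conj_pow, hx.2, mul_one, mul_inv_cancel]⟩) with h | h
  · exfalso
    obtain ⟨z, hz⟩ := exists_prime_orderOf_dvd_card' (G := N) 3
      (by rw [hc, R.pow]; exact dvd_pow_self 3 (by have := R.k_three; omega))
    have hzM : (z : G) ∈ M := ⟨z.2, by rw [← hz, ← orderOf_coe, pow_orderOf_eq_one]⟩
    rw [h, mem_bot] at hzM
    rw [← orderOf_coe, hzM, orderOf_one] at hz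
    norm_num at hz
  · intro x hx
    exact (h.symm ▸ hx : x ∈ M).2

theorem U_elem : (∀ x ∈ fixU t P, ∀ y ∈ fixU t P, Commute x y) ∧ ∀ x ∈ fixU t P, x ^ 3 = 1 :=
  R.elementary inf_le_left R.card_U fun d hd _ hx => R.conj_U_D (R.T_le hd) hx

omit R [Finite G] in
theorem derived_le : ⁅P, P⁆ ≤ P := commutator_le.2 fun x hx y hy =>
  mul_mem (mul_mem (mul_mem hx hy) (inv_mem hx)) (inv_mem hy)

omit R [Finite G] in
theorem conj_derived {g : G} (hg : ∀ x ∈ P, g * x * g⁻¹ ∈ P) {x : G} (hx : x ∈ ⁅P, P⁆) :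
    g * x * g⁻¹ ∈ ⁅P, P⁆ := by
  have h := mem_map_of_mem (MulAut.conj g).toMonoidHom hx
  rw [map_commutator] at h
  have hle : P.map (MulAut.conj g).toMonoidHom ≤ P := by
    rintro _ ⟨y, hy, rfl⟩
    exact hg y hy
  exact commutator_mono hle hle h

theorem derived_D {d x : G} (hd : d ∈ D) (hx : x ∈ ⁅P, P⁆) : d * x * d⁻¹ ∈ ⁅P, P⁆ :=
  conj_derived (fun _ hy => R.conj_P_D hd hy) hx

omit R [Finite G] in
theorem derived_conjP {g x : G} (hg : g ∈ P) (hx : x ∈ ⁅P, P⁆) : g * x * g⁻¹ ∈ ⁅P, P⁆ :=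
  conj_derived (fun _ hy => mul_mem (mul_mem hg hy) (inv_mem hg)) hx

theorem derived_ne : ⁅P, P⁆ ≠ P := by
  intro e
  haveI : Fact (Nat.Prime 3) := ⟨Nat.prime_three⟩
  haveI := R.isPGroup_P.isNilpotent
  haveI : Nontrivial P := by
    rw [← Finite.one_lt_card_iff_nontrivial, R.point.card_P]
    exact Nat.one_lt_pow (by norm_num) R.one_lt_q
  have h := Group.IsSolvable.commutator_lt_top_of_nontrivial (G := P)
  rw [commutator_def] at h
  have h2 : (⁅(⊤ : Subgroup P), (⊤ : Subgroup P)⁆ : Subgroup P).map P.subtype = ⁅P, P⁆ := by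
    rw [map_commutator, ← MonoidHom.range_eq_map, P.range_subtype]
  refine h.ne (map_injective P.subtype_injective ?_)
  rw [h2, e, ← MonoidHom.range_eq_map, P.range_subtype]

theorem card_derived : ∃ j, j ≤ 2 ∧ Nat.card (⁅P, P⁆ : Subgroup G) = q ^ j := by
  obtain ⟨j, hj3, hj⟩ := R.card_invariant derived_le fun d hd x hx => R.derived_D (R.T_le hd) hx
  refine ⟨j, ?_, hj⟩
  by_contra h
  exact R.derived_ne (eq_of_le_of_card_ge derived_le (by rw [hj, R.point.card_P, show j = 3 by omega]))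

/-- `t` inverts `P` modulo an invariant normal subgroup containing `U`. -/
theorem mul_tau_mem {N : Subgroup G} (hU : fixU t P ≤ N) (hN : N ≤ P)
    (hn : ∀ g ∈ P, ∀ x ∈ N, g * x * g⁻¹ ∈ N) (htN : ∀ x ∈ N, t * x * t ∈ N) {x : G} (hx : x ∈ P) :
    x * (t * x * t) ∈ N := by
  haveI : (N.subgroupOf P).Normal := ⟨fun a ha g => hn g g.2 a ha⟩
  let τ : P →* P :=
    { toFun := fun y => ⟨t * y * t, R.tau_P y.2⟩
      map_one' := Subtype.ext (by show t * 1 * t = 1; rw [mul_one, R.tt])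
      map_mul' := fun a b => Subtype.ext (by
        show t * (a * b) * t = t * a * t * (t * b * t)
        calc t * ((a : G) * b) * t = t * a * 1 * b * t := by group
          _ = _ := by rw [← R.tt]; group) }
  have hτ : ∀ y : P, τ (τ y) = y := fun y => Subtype.ext (by
    show t * (t * y * t) * t = y
    rw [show t * (t * (y : G) * t) * t = (t * t) * y * (t * t) by group, R.tt, one_mul, mul_one])
  let φ : P ⧸ N.subgroupOf P →* P ⧸ N.subgroupOf P :=
    QuotientGroup.map _ _ τ fun y hy => mem_subgroupOf.2 (htN _ hy)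
  have hfpf : MonoidHom.FixedPointFree φ := by
    intro c hc
    obtain ⟨y, rfl⟩ := QuotientGroup.mk_surjective c
    have h1 : (y : G)⁻¹ * (t * y * t) ∈ N := by
      have h2 := mem_subgroupOf.1 (QuotientGroup.eq.1 (hc : QuotientGroup.mk (τ y) = _).symm)
      exact h2
    obtain ⟨u, hu, huy⟩ := R.exists_fix hN y.2 h1
    rw [QuotientGroup.eq_one_iff, mem_subgroupOf, show (y : G) = u * (u⁻¹ * y) by group]
    exact mul_mem (hU hu) huy
  have hinv := hfpf.coe_eq_inv_of_involutive (fun c => by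
    obtain ⟨y, rfl⟩ := QuotientGroup.mk_surjective c
    show QuotientGroup.mk (τ (τ y)) = _
    rw [hτ])
  have h := congrFun hinv (QuotientGroup.mk ⟨x, hx⟩)
  have h' : QuotientGroup.mk (τ ⟨x, hx⟩) = (QuotientGroup.mk ⟨x, hx⟩ : P ⧸ N.subgroupOf P)⁻¹ := h
  rw [← QuotientGroup.mk_inv, QuotientGroup.eq, mem_subgroupOf] at h'
  have h3 := inv_mem h'
  simp only [Subgroup.coe_mul, InvMemClass.coe_inv, mul_inv_rev, inv_inv] at h3
  exact h3

/-- `t` inverts invariant abelian subgroups without fixed points. -/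
theorem inverts {Z : Subgroup G} (hZP : Z ≤ P) (hcomm : ∀ x ∈ Z, ∀ y ∈ Z, Commute x y)
    (htZ : ∀ x ∈ Z, t * x * t ∈ Z) (hfix : ∀ x ∈ Z, Commute x t → x = 1) {x : G} (hx : x ∈ Z) :
    t * x * t = x⁻¹ := by
  have hm : x * (t * x * t) ∈ Z := mul_mem hx (htZ x hx)
  have h1 := hfix _ hm (conj_fix (by
    calc t * (x * (t * x * t)) * t = t * x * t * x * (t * t) := by group
      _ = x * (t * x * t) := by rw [R.tt, mul_one]; exact (hcomm _ (htZ x hx) _ hx).eq) R.tt)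
  exact eq_inv_of_mul_eq_one_right h1

end RData

/-- The structure left by the case of class three. -/
structure ClassThree (t : G) (P Z : Subgroup G) (q : ℕ) : Prop where
  Z_le : Z ≤ ⁅P, P⁆
  card_Z : Nat.card Z = q
  Z_cube : ∀ z ∈ Z, z ^ 3 = 1
  Z_central : ∀ z ∈ Z, ∀ x ∈ P, Commute z x
  Z_inv : ∀ z ∈ Z, t * z * t = z⁻¹
  Z_conj : ∀ d : G, (∀ x ∈ P, d * x * d⁻¹ ∈ P) → (∀ x ∈ P, d⁻¹ * x * d ∈ P) →
    ∀ z ∈ Z, d * z * d⁻¹ ∈ Z
  U_le : RData.fixU t P ≤ ⁅P, P⁆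
  card_derived : Nat.card (⁅P, P⁆ : Subgroup G) = q ^ 2
  derived_comm : ∀ x ∈ ⁅P, P⁆, ∀ y ∈ ⁅P, P⁆, Commute x y
  derived_cube : ∀ x ∈ ⁅P, P⁆, x ^ 3 = 1
  comm_mem : ∀ u ∈ ⁅P, P⁆, ∀ x ∈ P, ⁅u, x⁆ ∈ Z
  nondeg : ∀ u ∈ RData.fixU t P, (∀ x ∈ P, Commute u x) → u = 1
  tau_derived : ∀ x ∈ P, x * (t * x * t) ∈ ⁅P, P⁆

namespace RData

variable {t : G} {F : Type} [Field F] [Fintype F] {H P D T : Subgroup G} {w : G} {q k : ℕ}
  (R : RData t F H P D T w q k)
include R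

theorem cases : fixU t P ⊓ ⁅P, P⁆ = ⊥ ∨
    (⁅P, P⁆ = fixU t P ∧ ∀ u ∈ fixU t P, ∀ x ∈ P, Commute u x) ∨ ∃ Z, ClassThree t P Z q := by
  haveI : Fact (Nat.Prime 3) := ⟨Nat.prime_three⟩
  set U := fixU t P with hU
  have hUinv : ∀ d ∈ T, ∀ x ∈ U, d * x * d⁻¹ ∈ U := fun d hd x hx => R.conj_U_D (R.T_le hd) hx
  rcases R.irreducible inf_le_left R.card_U (M := U ⊓ ⁅P, P⁆) inf_le_left
    (fun d hd x hx => ⟨hUinv d hd x hx.1, R.derived_D (R.T_le hd) hx.2⟩) with h | h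
  · exact Or.inl h
  right
  have hUD : U ≤ ⁅P, P⁆ := inf_eq_left.1 h
  by_cases hcen : ∀ u ∈ U, ∀ x ∈ P, Commute u x
  · refine Or.inl ⟨le_antisymm (commutator_le.2 fun x hx y hy => ?_) hUD, hcen⟩
    have hn : ∀ g ∈ P, ∀ u ∈ U, g * u * g⁻¹ ∈ U := fun g hg u hu => by
      rw [← (hcen u hu g hg).eq, mul_inv_cancel_right]; exact hu
    have hfix : ∀ u ∈ U, t * u * t ∈ U := fun u hu => by rw [R.fix_of_mem hu]; exact hu
    have hi := fun g (hg : g ∈ P) => R.mul_tau_mem (le_refl U) inf_le_left hn hfix hg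
    -- `τ g ≡ g⁻¹` modulo `U`
    have hτ : ∀ g ∈ P, t * g * t = g⁻¹ * (g * (t * g * t)) := fun g _ => by group
    set a := x * (t * x * t) with ha
    set b := y * (t * y * t) with hb
    set c := x * y * (t * (x * y) * t) with hc
    have e : t * (x * y) * t = x⁻¹ * a * (y⁻¹ * b) := by
      rw [← hτ x hx, ← hτ y hy, show t * x * t * (t * y * t) = t * x * (t * t) * y * t by group, R.tt,
        mul_one]
      group
    have haU : a ∈ U := hi x hx
    have hay : Commute a y⁻¹ := hcen a haU _ (inv_mem hy)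
    have hcom : ⁅x, y⁆ = c * (a * b)⁻¹ := by
      rw [hc, e, commutatorElement_def, show x⁻¹ * a * (y⁻¹ * b) = x⁻¹ * (a * y⁻¹) * b by group, hay.eq]
      group
    rw [hcom]
    exact mul_mem (hi _ (mul_mem hx hy)) (inv_mem (mul_mem haU (hi y hy)))
  right
  set Z := P ⊓ centralizer (P : Set G) with hZ
  have hZc : ∀ z ∈ Z, ∀ x ∈ P, Commute z x := fun z hz x hx => (mem_centralizer_iff.1 hz.2 x hx).symm
  have hZconj : ∀ d : G, (∀ x ∈ P, d * x * d⁻¹ ∈ P) → (∀ x ∈ P, d⁻¹ * x * d ∈ P) →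
      ∀ z ∈ Z, d * z * d⁻¹ ∈ Z := by
    intro d h1 h2 z hz
    refine ⟨h1 z hz.1, mem_centralizer_iff.2 fun x hx => ?_⟩
    calc x * (d * z * d⁻¹) = d * (d⁻¹ * x * d * z) * d⁻¹ := by group
      _ = d * (z * (d⁻¹ * x * d)) * d⁻¹ := by rw [(hZc z hz _ (h2 x hx)).eq]
      _ = d * z * d⁻¹ * x := by group
  have hZD : ∀ d ∈ D, ∀ z ∈ Z, d * z * d⁻¹ ∈ Z := fun d hd => hZconj d (fun x hx => R.conj_P_D hd hx)
    (fun x hx => by simpa using R.conj_P_D (inv_mem hd) hx)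
  have hZt : ∀ z ∈ Z, t * z * t ∈ Z := fun z hz => by
    simpa [R.t_inv] using hZD t R.point.t_mem z hz
  have hUZ : U ⊓ Z = ⊥ := by
    refine (R.irreducible inf_le_left R.card_U inf_le_left fun d hd x hx =>
      ⟨hUinv d hd x hx.1, hZD d (R.T_le hd) x hx.2⟩).resolve_right fun e => hcen fun u hu x hx => ?_
    exact hZc u (inf_eq_left.1 e hu) x hx
  have hfixZ : ∀ z ∈ Z, Commute z t → z = 1 := fun z hz hzt =>
    mem_bot.1 (hUZ ▸ ⟨mem_fixU.2 ⟨hz.1, hzt⟩, hz⟩)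
  obtain ⟨j, hj3, hj⟩ := R.card_invariant (N := Z) inf_le_left fun d hd => hZD d (R.T_le hd)
  haveI : Nontrivial P := by
    rw [← Finite.one_lt_card_iff_nontrivial, R.point.card_P]
    exact Nat.one_lt_pow (by norm_num) R.one_lt_q
  have hZne : Z ≠ ⊥ := by
    obtain ⟨z, hz, hz1⟩ := (bot_or_exists_ne_one (center P)).resolve_left
      (IsPGroup.bot_lt_center (p := 3) R.isPGroup_P).ne'
    intro e
    have hzZ : (z : G) ∈ Z := ⟨z.2, mem_centralizer_iff.2 fun x hx =>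
      congrArg Subtype.val (mem_center_iff.1 hz ⟨x, hx⟩)⟩
    rw [e, mem_bot] at hzZ
    exact hz1 (Subtype.ext hzZ)
  have hUcent : U ≤ centralizer (Z : Set G) := fun u hu =>
    mem_centralizer_iff.2 fun z hz => (hZc z hz u hu.1).eq
  have hsup : Nat.card (Z ⊔ U : Subgroup G) = q ^ j * q := by
    have h2 := PLocal.card_sup_mul_card_inf (H := Z) (K := U)
      (hUcent.trans (Subgroup.centralizer_le_normalizer _))
    rwa [inf_comm, hUZ, card_bot, mul_one, hj, R.card_U] at h2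
  have hsupP : Z ⊔ U ≤ P := sup_le inf_le_left inf_le_left
  have hj1 : j = 1 := by
    have h1 : 1 ≤ j := Nat.one_le_iff_ne_zero.2 fun e =>
      hZne (Subgroup.card_eq_one.1 (by rw [hj, e, pow_zero]))
    have h2 : q ^ (j + 1) ≤ q ^ 3 := by
      rw [pow_succ, ← hsup, ← R.point.card_P]; exact card_le_of_le hsupP
    rw [R.pow_le_pow_iff] at h2
    by_contra hne
    have hP : Z ⊔ U = P := eq_of_le_of_card_ge hsupP
      (by rw [hsup, show j = 2 by omega, R.point.card_P, pow_succ q 2])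
    apply hcen
    intro u hu x hx
    have : P ≤ centralizer (U : Set G) := hP ▸ sup_le
      (le_centralizer_iff.1 hUcent) fun y hy => mem_centralizer_iff.2 fun z hz =>
        (R.U_elem.1 z hz y hy).eq
    exact mem_centralizer_iff.1 (this hx) u hu
  subst hj1
  rw [pow_one] at hj
  obtain ⟨i, hi2, hi⟩ := R.card_derived
  have hcommT : ∀ (A : Subgroup G), (∀ d ∈ T, ∀ x ∈ A, d * x * d⁻¹ ∈ A) →
      ∀ d ∈ T, ∀ x ∈ ⁅A, P⁆, d * x * d⁻¹ ∈ ⁅A, P⁆ := by
    intro A hA d hd x hx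
    have h' := mem_map_of_mem (MulAut.conj d).toMonoidHom hx
    rw [map_commutator] at h'
    refine commutator_mono ?_ ?_ h'
    · rintro _ ⟨y, hy, rfl⟩; exact hA d hd y hy
    · rintro _ ⟨y, hy, rfl⟩; exact R.conj_P_D (R.T_le hd) hy
  have hnil : ∀ A : Subgroup G, A ≤ P → ⁅A, P⁆ = A → A = ⊥ := by
    intro A hA e
    haveI := R.isPGroup_P.isNilpotent
    obtain ⟨n, hn⟩ := (Subgroup.isNilpotent_iff_lowerCentralSeries P).1 inferInstance
    have key : ∀ n, A ≤ P.lowerCentralSeries n := by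
      intro n
      induction n with
      | zero => exact hA
      | succ n ih => exact e ▸ commutator_mono ih le_rfl
    exact le_bot_iff.1 (hn ▸ key n)
  have hi' : i = 2 := by
    by_contra hne
    have hle : ⁅P, P⁆ = U := (eq_of_le_of_card_ge hUD (by
      rw [hi, R.card_U]
      exact (Nat.pow_le_pow_right R.one_lt_q.le (show i ≤ 1 by omega)).trans (pow_one q).le)).symm
    have hsub : ⁅U, P⁆ ≤ U := le_trans (commutator_mono inf_le_left le_rfl) hle.le
    rcases R.irreducible inf_le_left R.card_U hsub (hcommT U hUinv) with e | e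
    · exact hcen fun u hu x hx => commutatorElement_eq_one_iff_commute.1
        (mem_bot.1 (e ▸ commutator_mem_commutator hu hx))
    · have := R.card_U
      rw [← hU, hnil U inf_le_left e, card_bot] at this
      have := R.one_lt_q
      omega
  subst hi'
  have hdT : ∀ d ∈ T, ∀ x ∈ ⁅P, P⁆, d * x * d⁻¹ ∈ ⁅P, P⁆ := fun d hd x hx => R.derived_D (R.T_le hd) hx
  have hdn : ∀ g ∈ P, ∀ x ∈ ⁅P, P⁆, g * x * g⁻¹ ∈ ⁅P, P⁆ := fun g hg x hx => derived_conjP hg hx
  have meet : ∀ A : Subgroup G, A ≤ P → A ≠ ⊥ → (∀ g ∈ P, ∀ x ∈ A, g * x * g⁻¹ ∈ A) →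
      (∀ d ∈ T, ∀ x ∈ A, d * x * d⁻¹ ∈ A) → Z ≤ A := by
    intro A hA hA1 hn hAT
    rcases R.irreducible inf_le_left hj (M := Z ⊓ A) inf_le_left
      (fun d hd x hx => ⟨hZD d (R.T_le hd) x hx.1, hAT d hd x hx.2⟩) with e | e
    · exfalso
      haveI : (A.subgroupOf P).Normal := ⟨fun a ha g => hn g g.2 a ha⟩
      obtain ⟨⟨z, hz⟩, hzm, hz1⟩ := (bot_or_exists_ne_one (A.subgroupOf P ⊓ center P)).resolve_left
        (PGroup.inf_center_ne_bot R.isPGroup_P fun e' => hA1 (by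
          rwa [subgroupOf_eq_bot, disjoint_iff, inf_eq_left.2 hA] at e'))
      have hmem : z ∈ Z ⊓ A := ⟨⟨hz, mem_centralizer_iff.2 fun x hx =>
        congrArg Subtype.val (mem_center_iff.1 hzm.2 ⟨x, hx⟩)⟩, hzm.1⟩
      rw [e, mem_bot] at hmem
      exact hz1 (Subtype.ext hmem)
    · exact inf_eq_left.1 e
  have hZD' : Z ≤ ⁅P, P⁆ := meet _ derived_le (fun e => by
    rw [e, card_bot] at hi
    have := Nat.one_lt_pow two_ne_zero R.one_lt_q
    omega) hdn hdT
  have hsupD : Z ⊔ U = ⁅P, P⁆ := eq_of_le_of_card_ge (sup_le hZD' hUD) (by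
    rw [hi, hsup, pow_one, pow_two])
  have hZcomm : ∀ x ∈ Z, ∀ y ∈ Z, Commute x y := fun x hx y hy => hZc x hx y hy.1
  obtain ⟨-, hZcube⟩ := R.elementary (N := Z) inf_le_left hj fun d hd => hZD d (R.T_le hd)
  have hdecomp : ∀ x ∈ ⁅P, P⁆, ∃ z ∈ Z, ∃ u ∈ U, z * u = x := by
    intro x hx
    rw [← hsupD] at hx
    obtain ⟨a, ha, b, hb, e⟩ :=
      TwoTrans.exists_mul_of_mem_sup (hUcent.trans (Subgroup.centralizer_le_normalizer _)) hx
    exact ⟨a, ha, b, hb, e.symm⟩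
  have hDcomm : ∀ x ∈ ⁅P, P⁆, ∀ y ∈ ⁅P, P⁆, Commute x y := by
    intro x hx y hy
    obtain ⟨z, hz, u, hu, rfl⟩ := hdecomp x hx
    obtain ⟨z', hz', u', hu', rfl⟩ := hdecomp y hy
    exact (((hZc z hz z' hz'.1).mul_right (hZc z hz u' hu'.1))).mul_left
      ((hZc z' hz' u hu.1).symm.mul_right (R.U_elem.1 u hu u' hu'))
  set B := ⁅⁅P, P⁆, P⁆ with hB
  have hBle : B ≤ ⁅P, P⁆ := commutator_mono derived_le le_rfl
  have hBn : ∀ g ∈ P, ∀ x ∈ B, g * x * g⁻¹ ∈ B := by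
    intro g hg x hx
    have h' := mem_map_of_mem (MulAut.conj g).toMonoidHom hx
    rw [hB, map_commutator] at h'
    refine commutator_mono ?_ ?_ h'
    · rintro _ ⟨y, hy, rfl⟩; exact hdn g hg y hy
    · rintro _ ⟨y, hy, rfl⟩; exact mul_mem (mul_mem hg hy) (inv_mem hg)
  have hB1 : B ≠ ⊥ := fun e => hcen fun u hu x hx => commutatorElement_eq_one_iff_commute.1
    (mem_bot.1 (e ▸ commutator_mem_commutator (hUD hu) hx))
  have hBT := hcommT _ hdT
  have hBZ : B = Z := by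
    have hZB := meet B (hBle.trans derived_le) hB1 hBn hBT
    obtain ⟨l, -, hl⟩ := R.card_invariant (hBle.trans derived_le) hBT
    refine (eq_of_le_of_card_ge hZB ?_).symm
    have hlt : l ≤ 1 := by
      by_contra hlt
      have : B = ⁅P, P⁆ := eq_of_le_of_card_ge hBle (by
        rw [hi, hl]; exact Nat.pow_le_pow_right R.one_lt_q.le (by omega))
      have h0 := hnil _ derived_le this
      rw [h0, card_bot] at hi
      have := Nat.one_lt_pow two_ne_zero R.one_lt_q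
      omega
    rw [hl, hj]
    exact (Nat.pow_le_pow_right R.one_lt_q.le hlt).trans (pow_one q).le
  exact ⟨Z, hZD', hj, hZcube, hZc, fun z hz => R.inverts inf_le_left hZcomm hZt hfixZ hz, hZconj, hUD,
    hi, hDcomm, fun x hx => by
      obtain ⟨z, hz, u, hu, rfl⟩ := hdecomp x hx
      rw [(hZc z hz u hu.1).mul_pow, hZcube z hz, R.U_elem.2 u hu, one_mul],
    fun u hu x hx => hBZ ▸ commutator_mem_commutator hu hx,
    fun u hu hc => mem_bot.1 (hUZ ▸ ⟨hu, hu.1, mem_centralizer_iff.2 fun x hx => (hc x hx).symm.eq⟩),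
    fun x hx => R.mul_tau_mem hUD derived_le hdn
      (fun y hy => by simpa [R.t_inv] using R.derived_D R.point.t_mem hy) hx⟩

end RData

namespace ClassThree

variable {t : G} {F : Type} [Field F] [Fintype F] {H P D T : Subgroup G} {w : G} {q k : ℕ}
  {Z : Subgroup G} (C : ClassThree t P Z q) (R : RData t F H P D T w q k)
include C R

omit R [Finite G] in
theorem comm_mul_left {u v x : G} (hu : u ∈ ⁅P, P⁆) (hv : v ∈ ⁅P, P⁆) (hx : x ∈ P) :
    ⁅u * v, x⁆ = ⁅u, x⁆ * ⁅v, x⁆ := by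
  have h := C.Z_central _ (C.comm_mem v hv x hx) u (RData.derived_le hu)
  have h2 := C.Z_central _ (C.comm_mem u hu x hx) _ (RData.derived_le (C.Z_le (C.comm_mem v hv x hx)))
  rw [h2.eq, show ⁅u * v, x⁆ = u * ⁅v, x⁆ * u⁻¹ * ⁅u, x⁆ by simp only [commutatorElement_def]; group,
    ← h.eq, mul_inv_cancel_right]

omit R [Finite G] in
theorem comm_mul_right {u x y : G} (hu : u ∈ ⁅P, P⁆) (hx : x ∈ P) (hy : y ∈ P) :
    ⁅u, x * y⁆ = ⁅u, x⁆ * ⁅u, y⁆ := by
  have h := C.Z_central _ (C.comm_mem u hu y hy) x hx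
  rw [show ⁅u, x * y⁆ = ⁅u, x⁆ * (x * ⁅u, y⁆ * x⁻¹) by simp only [commutatorElement_def]; group,
    ← h.eq, mul_inv_cancel_right]

/-- `D` is regular on the non-trivial elements of `P / P'`. -/
theorem exists_conj {x y : G} (hx : x ∈ P) (hx' : x ∉ ⁅P, P⁆) (hy : y ∈ P) (hy' : y ∉ ⁅P, P⁆) :
    ∃ d ∈ D, ∃ p ∈ ⁅P, P⁆, y = d * x * d⁻¹ * p := by
  set Q := ⁅P, P⁆ with hQ
  have hQn : ∀ g ∈ P, ∀ z ∈ Q, g * z * g⁻¹ ∈ Q := fun g hg z hz => RData.derived_conjP hg hz
  haveI : (Q.subgroupOf P).Normal := ⟨fun a ha g => hQn g g.2 a ha⟩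
  have hQidx : Nat.card (P ⧸ Q.subgroupOf P) = q := by
    have h := (Q.subgroupOf P).card_mul_index
    rw [Nat.card_congr (subgroupOfEquivOfLe RData.derived_le).toEquiv, C.card_derived,
      R.point.card_P, pow_succ q 2] at h
    rw [← index_eq_card]
    exact Nat.eq_of_mul_eq_mul_left (pow_pos (by have := R.q_ge; omega) 2) h
  have hQT : ∀ d ∈ D, ∀ z ∈ Q, d * z * d⁻¹ ∈ Q := fun d hd z hz => R.derived_D hd hz
  -- only the identity fixes the class of `x`
  have hfree : ∀ d ∈ D, x⁻¹ * (d * x * d⁻¹) ∈ Q → d = 1 := by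
    intro d hd hfix
    by_contra hd1
    by_cases hdt : d = t
    · subst hdt
      rw [R.t_inv] at hfix
      have h1 : x * x ∈ Q := by
        have := mul_mem (C.tau_derived x hx) (inv_mem hfix)
        rwa [show x * (d * x * d) * (x⁻¹ * (d * x * d))⁻¹ = x * x by group] at this
      obtain ⟨j, hj⟩ := R.odd_P hx
      refine hx' ?_
      have : (x * x) ^ (j + 1) = x := by
        rw [← pow_two, ← pow_mul, show 2 * (j + 1) = orderOf x + 1 by omega, pow_succ,
          pow_orderOf_eq_one, one_mul]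
      exact this ▸ pow_mem h1 _
    let N : Subgroup G :=
      { carrier := {z | z ∈ P ∧ z⁻¹ * (d * z * d⁻¹) ∈ Q}
        one_mem' := ⟨one_mem _, by rw [show (1 : G)⁻¹ * (d * 1 * d⁻¹) = 1 by group]; exact one_mem _⟩
        mul_mem' := fun {a b} ha hb => ⟨mul_mem ha.1 hb.1, by
          rw [show (a * b)⁻¹ * (d * (a * b) * d⁻¹) =
            (b⁻¹ * (a⁻¹ * (d * a * d⁻¹)) * b⁻¹⁻¹) * (b⁻¹ * (d * b * d⁻¹)) by group]
          exact mul_mem (hQn _ (inv_mem hb.1) _ ha.2) hb.2⟩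
        inv_mem' := fun {a} ha => ⟨inv_mem ha.1, by
          rw [show a⁻¹⁻¹ * (d * a⁻¹ * d⁻¹) = a * (a⁻¹ * (d * a * d⁻¹))⁻¹ * a⁻¹ by group]
          exact hQn _ ha.1 _ (inv_mem ha.2)⟩ }
    have hQN : Q ≤ N := fun z hz => ⟨RData.derived_le hz, mul_mem (inv_mem hz) (hQT d hd z hz)⟩
    have hNT : ∀ e ∈ T, ∀ z ∈ N, e * z * e⁻¹ ∈ N := fun e he z hz => ⟨R.conj_P_D (R.T_le he) hz.1, by
      have hed := R.point.comm d hd e (R.T_le he)
      rw [show (e * z * e⁻¹)⁻¹ * (d * (e * z * e⁻¹) * d⁻¹) = e * z⁻¹ * e⁻¹ * ((d * e) * z * (d * e)⁻¹)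
        by group, hed,
        show e * z⁻¹ * e⁻¹ * ((e * d) * z * (e * d)⁻¹) = e * (z⁻¹ * (d * z * d⁻¹)) * e⁻¹ by group]
      exact hQT e (R.T_le he) _ hz.2⟩
    obtain ⟨l, hl3, hl⟩ := R.card_invariant (N := N) (fun z (hz : z ∈ N) => hz.1) hNT
    have hNP : N = P := by
      refine eq_of_le_of_card_ge (fun z (hz : z ∈ N) => hz.1) ?_
      rw [R.point.card_P, hl]
      refine Nat.pow_le_pow_right R.one_lt_q.le ?_
      by_contra h3
      exact hx' ((eq_of_le_of_card_ge hQN (by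
        rw [C.card_derived, hl]; exact Nat.pow_le_pow_right R.one_lt_q.le (by omega))).symm ▸
          (show x ∈ N from ⟨hx, hfix⟩))
    let f : P → Q := fun z => ⟨(z : G)⁻¹ * (d * z * d⁻¹), (hNP.symm ▸ z.2 : (z : G) ∈ N).2⟩
    have hinj : Function.Injective f := by
      intro a b e
      have e' : (a : G)⁻¹ * (d * a * d⁻¹) = (b : G)⁻¹ * (d * b * d⁻¹) := congrArg Subtype.val e
      have h1 : (b : G) * (a : G)⁻¹ = 1 := R.fpf hd hd1 hdt (mul_mem b.2 (inv_mem a.2))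
        (commute_of_conj_eq (by
          calc d * ((b : G) * (a : G)⁻¹) * d⁻¹
              = (d * b * d⁻¹) * (d * a * d⁻¹)⁻¹ := by group
            _ = b * ((b : G)⁻¹ * (d * b * d⁻¹)) * ((a : G)⁻¹ * (d * a * d⁻¹))⁻¹ * (a : G)⁻¹ := by group
            _ = b * (a : G)⁻¹ := by rw [e']; group)).symm
      exact (Subtype.ext (mul_inv_eq_one.1 h1)).symm
    have h := Nat.card_le_card_of_injective f hinj
    rw [R.point.card_P, C.card_derived, R.pow_le_pow_iff] at h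
    omega
  let g : D → {c : P ⧸ Q.subgroupOf P // c ≠ 1} := fun d =>
    ⟨QuotientGroup.mk ⟨d * x * (d : G)⁻¹, R.conj_P_D d.2 hx⟩, fun e => hx' (by
      rw [QuotientGroup.eq_one_iff, mem_subgroupOf] at e
      have h2 := hQT (d : G)⁻¹ (inv_mem d.2) _ e
      simpa [mul_assoc] using h2)⟩
  have ginj : Function.Injective g := by
    intro a b e
    have e' := QuotientGroup.eq.1 (congrArg Subtype.val e)
    rw [mem_subgroupOf] at e'
    simp only [Subgroup.coe_mul, InvMemClass.coe_inv] at e'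
    have h2 := hQT (a : G)⁻¹ (inv_mem a.2) _ e'
    have h3 := hfree ((a : G)⁻¹ * b) (mul_mem (inv_mem a.2) b.2) (by
      simpa [mul_assoc] using h2)
    exact Subtype.ext (inv_mul_eq_one.1 h3)
  have gcard : Nat.card {c : P ⧸ Q.subgroupOf P // c ≠ 1} ≤ Nat.card D := by
    classical
    haveI := Fintype.ofFinite (P ⧸ Q.subgroupOf P)
    rw [R.point.card_D, ← hQidx, Nat.card_eq_fintype_card, Nat.card_eq_fintype_card,
      Fintype.card_subtype_compl, Fintype.card_subtype_eq]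
  obtain ⟨d, hd⟩ := (ginj.bijective_of_nat_card_le gcard).2 ⟨QuotientGroup.mk ⟨y, hy⟩, fun e =>
    hy' (mem_subgroupOf.1 ((QuotientGroup.eq_one_iff _).1 e))⟩
  have h := QuotientGroup.eq.1 (congrArg Subtype.val hd)
  rw [mem_subgroupOf] at h
  exact ⟨d, d.2, _, h, by simp [mul_assoc]⟩

/-- With TI cyclic subgroups `P` has exponent 3. -/
theorem cube (hTI : PPTI G) {x : G} (hx : x ∈ P) : x ^ 3 = 1 := by
  classical
  haveI : Fact (Nat.Prime 3) := ⟨Nat.prime_three⟩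
  by_contra hx3
  set Q := ⁅P, P⁆ with hQ
  have hxQ : x ∉ Q := fun h => hx3 (C.derived_cube x h)
  haveI : (Q.subgroupOf P).Normal := ⟨fun a ha g => RData.derived_conjP g.2 ha⟩
  have hpow : ∀ y ∈ P, y ^ 3 ∈ Q := by
    obtain ⟨m, hm⟩ := R.isPGroup_P ⟨x, hx⟩
    have hex : ∃ i, x ^ 3 ^ i ∈ Q := ⟨m, by
      rw [show x ^ 3 ^ m = 1 from congrArg Subtype.val hm]; exact one_mem _⟩
    obtain ⟨i, hi⟩ : ∃ i, Nat.find hex = i + 1 := Nat.exists_eq_succ_of_ne_zero fun e =>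
      hxQ (by simpa [e] using Nat.find_spec hex)
    have h1 : x ^ 3 ^ i ∉ Q := Nat.find_min hex (by omega)
    have h2 : (x ^ 3 ^ i) ^ 3 ∈ Q := by rw [← pow_mul, ← pow_succ, ← hi]; exact Nat.find_spec hex
    intro y hy
    by_cases hyQ : y ∈ Q
    · exact pow_mem hyQ 3
    obtain ⟨d, hd, p, hp, rfl⟩ := exists_conj C R (pow_mem hx _) h1 hy hyQ
    set a := d * x ^ 3 ^ i * d⁻¹ with ha
    have h3 : a ^ 3 ∈ Q := by rw [ha, conj_pow]; exact R.derived_D hd h2
    have haP : a ∈ P := R.conj_P_D hd (pow_mem hx _)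
    have h4 : ((QuotientGroup.mk ⟨a * p, mul_mem haP (RData.derived_le hp)⟩ : P ⧸ Q.subgroupOf P)) =
        QuotientGroup.mk ⟨a, haP⟩ := by
      rw [QuotientGroup.eq, mem_subgroupOf]
      simpa using inv_mem hp
    have h5 : ((⟨a * p, mul_mem haP (RData.derived_le hp)⟩ : P) ^ 3) ∈ Q.subgroupOf P := by
      rw [← QuotientGroup.eq_one_iff, QuotientGroup.mk_pow, h4, ← QuotientGroup.mk_pow,
        QuotientGroup.eq_one_iff, mem_subgroupOf]
      exact h3
    exact mem_subgroupOf.1 h5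
  have hc : x ^ 3 ∈ Q := hpow x hx
  have hord : orderOf x = 3 ^ 2 := by
    refine orderOf_eq_prime_pow (by rwa [pow_one]) ?_
    rw [show (3 : ℕ) ^ (1 + 1) = 3 * 3 from rfl, pow_mul]
    exact C.derived_cube _ hc
  have hsmall : ∀ u ∈ Q, ⁅u, x⁆ ∈ zpowers (x ^ 3) := by
    intro u hu
    have h1 := conj_mem_zpowers hTI Nat.prime_three hord (npow_mem_zpowers x 3)
      (fun e => hx3 e) (C.derived_comm u hu _ hc)
    have h2 : ⁅u, x⁆ ∈ zpowers x := mul_mem h1 (inv_mem (mem_zpowers x))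
    obtain ⟨i, hi⟩ := mem_zpowers_iff.1 h2
    have h3 : (x ^ i) ^ (3 : ℕ) = 1 := by rw [hi]; exact C.Z_cube _ (C.comm_mem u hu x hx)
    rw [← hi]
    rw [← zpow_natCast, ← zpow_mul, ← orderOf_dvd_iff_zpow_eq_one, hord] at h3
    obtain ⟨l, hl⟩ : (3 : ℤ) ∣ i := by
      push_cast at h3
      omega
    exact ⟨l, by rw [hl, zpow_mul, ← zpow_natCast]; rfl⟩
  -- the commutator maps `U → Z`
  set U := RData.fixU t P with hU
  let f : P → (U →* G) := fun y =>
    { toFun := fun u => ⁅(u : G), (y : G)⁆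
      map_one' := commutatorElement_one_left _
      map_mul' := fun a b => C.comm_mul_left (C.U_le a.2) (C.U_le b.2) y.2 }
  have hrank : ∀ y : P, Nat.card (f y).range ≤ 3 := by
    intro y
    by_cases hyQ : (y : G) ∈ Q
    · have e : (f y).range = ⊥ := by
        rw [eq_bot_iff]
        rintro _ ⟨u, rfl⟩
        exact mem_bot.2 (commutatorElement_eq_one_iff_commute.2 (C.derived_comm _ (C.U_le u.2) _ hyQ))
      rw [e, card_bot]; norm_num
    obtain ⟨d, hd, p, hp, hyd⟩ := exists_conj C R hx hxQ y.2 hyQ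
    have hle : (f y).range ≤ zpowers (d * x ^ 3 * d⁻¹) := by
      rintro _ ⟨u, rfl⟩
      show ⁅(u : G), (y : G)⁆ ∈ _
      have hu := C.U_le u.2
      rw [hyd, C.comm_mul_right hu (R.conj_P_D hd hx) (RData.derived_le hp),
        commutatorElement_eq_one_iff_commute.2 (C.derived_comm _ hu _ hp), mul_one]
      obtain ⟨i, hi⟩ := hsmall (d⁻¹ * u * d⁻¹⁻¹) (R.derived_D (inv_mem hd) hu)
      refine ⟨i, ?_⟩
      show (d * x ^ 3 * d⁻¹) ^ i = _
      rw [conj_zpow]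
      change (x ^ 3) ^ i = _ at hi
      rw [hi]
      simp only [commutatorElement_def]
      group
    refine (card_le_of_le hle).trans (le_of_eq ?_)
    rw [Nat.card_zpowers]
    exact orderOf_eq_prime (by rw [conj_pow, C.derived_cube _ hc, mul_one, mul_inv_cancel])
      fun e => hx3 (conj_eq_one_iff.1 e)
  have heq : ∀ y y' : P, ∀ c : G, c ≠ 1 → c ∈ (f y).range → c ∈ (f y').range →
      (f y).range = (f y').range := by
    intro y y' c hc1 h h'
    have hcZ : c ^ 3 = 1 := by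
      obtain ⟨u, rfl⟩ := h
      exact C.Z_cube _ (C.comm_mem _ (C.U_le u.2) _ y.2)
    have ho : Nat.card (zpowers c) = 3 := by rw [Nat.card_zpowers, orderOf_eq_prime hcZ hc1]
    rw [← eq_of_le_of_card_ge (zpowers_le.2 h) (ho.symm ▸ hrank y),
      eq_of_le_of_card_ge (zpowers_le.2 h') (ho.symm ▸ hrank y')]
  have hker : ∀ y y' : P, (f y).range ≠ (f y').range → (f y').range ≠ ⊥ → (f y).range ≠ ⊥ →
      (f y).ker ≤ (f y').ker := by
    intro y y' hne hne' hne0 u hu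
    rw [MonoidHom.mem_ker] at hu ⊢
    by_contra hu'
    have hu'' : f (y * y') u = f y' u := by
      show ⁅(u : G), ((y : G) * y')⁆ = _
      rw [C.comm_mul_right (C.U_le u.2) y.2 y'.2, show ⁅(u : G), (y : G)⁆ = 1 from hu, one_mul]
      rfl
    have hr : (f (y * y')).range = (f y').range := heq _ _ _ hu' ⟨u, hu''⟩ ⟨u, rfl⟩
    obtain ⟨c, ⟨v, rfl⟩, hc1⟩ := (bot_or_exists_ne_one (f y).range).resolve_left hne0
    refine hne (heq _ _ (f y v) hc1 ⟨v, rfl⟩ ?_)
    have h2 : f y v = f (y * y') v * (f y' v)⁻¹ := by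
      show ⁅(v : G), (y : G)⁆ = ⁅(v : G), ((y : G) * y')⁆ * (⁅(v : G), (y' : G)⁆)⁻¹
      rw [C.comm_mul_right (C.U_le v.2) y.2 y'.2, mul_inv_cancel_right]
    rw [h2]
    exact mul_mem (hr ▸ ⟨v, rfl⟩) (inv_mem ⟨v, rfl⟩)
  haveI : Nontrivial U := by rw [← Finite.one_lt_card_iff_nontrivial, R.card_U]; exact R.one_lt_q
  obtain ⟨u₀, hu₀⟩ := exists_ne (1 : U)
  obtain ⟨y₁, hy₁⟩ : ∃ y : P, f y u₀ ≠ 1 := by
    by_contra hcon
    push Not at hcon
    exact hu₀ (Subtype.ext (C.nondeg u₀ u₀.2 fun z hz =>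
      commutatorElement_eq_one_iff_commute.1 (hcon ⟨z, hz⟩)))
  have hne1 : (f y₁).range ≠ ⊥ := fun e => hy₁ (mem_bot.1 (e ▸ ⟨u₀, rfl⟩))
  by_cases hall : ∀ y, (f y).range ≤ (f y₁).range
  · set c := f y₁ u₀ with hc0
    have hcm : ∀ d : T, (d : G) * c * (d : G)⁻¹ ∈ (f y₁).range := by
      intro d
      refine hall ⟨_, R.conj_P_D (R.T_le d.2) y₁.2⟩ ⟨⟨_, R.conj_U_D (R.T_le d.2) u₀.2⟩, ?_⟩
      show ⁅(d : G) * u₀ * (d : G)⁻¹, (d : G) * y₁ * (d : G)⁻¹⁆ = _
      rw [hc0]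
      show _ = (d : G) * ⁅(u₀ : G), (y₁ : G)⁆ * (d : G)⁻¹
      simp only [commutatorElement_def]; group
    have hcP : c ∈ P := RData.derived_le (C.Z_le (C.comm_mem _ (C.U_le u₀.2) _ y₁.2))
    have h := Nat.card_le_card_of_injective (fun d : T => (⟨_, hcm d⟩ : (f y₁).range)) fun a b e => by
      have e' : (a : G) * c * (a : G)⁻¹ = b * c * (b : G)⁻¹ := congrArg Subtype.val e
      by_contra hab
      exact hy₁ (R.fpf_T (d := (b : G)⁻¹ * a) (mul_mem (inv_mem b.2) a.2)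
        (fun e1 => hab (Subtype.ext (inv_mul_eq_one.1 e1).symm)) hcP (commute_of_conj_eq (by
          rw [show (b : G)⁻¹ * a * c * ((b : G)⁻¹ * a)⁻¹ = (b : G)⁻¹ * (a * c * (a : G)⁻¹) * b by group,
            e']
          group)).symm)
    have h3 := hrank y₁
    have := R.card_T; have := R.q_ge
    omega
  push Not at hall
  obtain ⟨y₂, hy₂⟩ := hall
  have hne2 : (f y₂).range ≠ ⊥ := fun e => hy₂ (e ▸ bot_le)
  have hne12 : (f y₁).range ≠ (f y₂).range := fun e => hy₂ e.ge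
  have hK : ∀ y, (f y₁).ker ≤ (f y).ker := by
    intro y
    by_cases h0 : (f y).range = ⊥
    · intro u _
      exact MonoidHom.mem_ker.2 (mem_bot.1 (h0 ▸ ⟨u, rfl⟩))
    by_cases h1 : (f y₁).range = (f y).range
    · exact (hker y₁ y₂ hne12 hne2 hne1).trans (hker y₂ y (fun e => hne12 (h1.trans e.symm)) h0 hne2)
    · exact hker y₁ y h1 h0 hne1
  have hbot : (f y₁).ker = ⊥ := by
    rw [eq_bot_iff]
    intro u hu
    refine mem_bot.2 (Subtype.ext (C.nondeg u u.2 fun z hz => ?_))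
    exact commutatorElement_eq_one_iff_commute.1 (hK ⟨z, hz⟩ hu)
  have hi := (f y₁).ker.index_mul_card
  rw [hbot, card_bot, mul_one, ← hbot, index_ker, R.card_U] at hi
  have := hrank y₁
  have := R.q_ge
  omega

end ClassThree

end Cfsg.Agent.PrimePowerTI
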