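import Cfsg.Agent.Lib.PrimePowerTI.Basic
import Cfsg.Agent.Lib.ZStar.Apply
import Cfsg.Agent.Lib.ZStarPrimePower.Proved
import Cfsg.Agent.Lib.Goldschmidt.General.SmallFacts
import Cfsg.Agent.S0111

/-!
# TI prime power cyclic subgroups: rooted involutions do not all centralise a root (S3411)

* `exists_ctx` : a nonabelian Sylow 2-subgroup has a rooted involution in its centre
* `not_all_fix` : some rooted involution of `S` inverts a root of the central one
-/

set_option autoImplicit false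
set_option linter.style.haveILetI false

namespace Cfsg.Agent.PrimePowerTI

open Subgroup

universe u

variable {G : Type u} [Group G]

theorem conj_inv_of_mem {g x y : G} (h : g * x * g⁻¹ = x⁻¹) (hy : y ∈ zpowers x) :
    g * y * g⁻¹ = y⁻¹ := by
  obtain ⟨k, rfl⟩ := mem_zpowers_iff.1 hy
  rw [← conj_zpow, h, inv_zpow]

theorem Root.big {r a : G} (h : Root r a) : Big r a :=
  ⟨0, by rw [h.orderOf_eq]; rfl, by rw [show 2 ^ (0 + 1) = 2 from rfl, pow_two, h.sq]⟩

theorem Root.ne_inv {r a : G} (h : Root r a) : r ≠ r⁻¹ := fun e =>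
  h.ne (by rw [← h.sq]; exact eq_inv_iff_mul_eq_one.1 e)

theorem Big.of_pow {x a : G} {k : ℕ} (hp : x ^ 2 ^ (k + 1) = a) (ha : a * a = 1) (hne : a ≠ 1) :
    Big x a := by
  haveI : Fact (Nat.Prime 2) := ⟨Nat.prime_two⟩
  refine ⟨k, orderOf_eq_prime_pow (by rw [hp]; exact hne) ?_, hp⟩
  rw [pow_succ, pow_mul, hp, pow_two, ha]

/-- Two big elements with different involutions generate subgroups meeting trivially. -/
theorem Big.inter_eq_one {x y a b e : G} (hx : Big x a) (hy : Big y b) (hab : a ≠ b)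
    (he : e ∈ zpowers x) (he' : e ∈ zpowers y) : e = 1 := by
  by_contra h1
  obtain ⟨n, hn, -⟩ := id hx
  obtain ⟨k, -, hk⟩ := (Nat.dvd_prime_pow Nat.prime_two).1
    (hn ▸ (Nat.card_zpowers x ▸ Subgroup.orderOf_dvd_natCard _ he))
  rcases invol_or_big hk with e2 | ⟨c, hc⟩
  · exact hab (((hx.eq_of_mem he e2).resolve_left h1).symm.trans ((hy.eq_of_mem he' e2).resolve_left h1))
  · exact hab (((hx.eq_of_mem ((zpowers_le.2 he) hc.mem_zpowers') hc.self_inv).resolve_left hc.ne).symm.trans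
      ((hy.eq_of_mem ((zpowers_le.2 he') hc.mem_zpowers') hc.self_inv).resolve_left hc.ne))

/-- A rooted involution `z` in the centre of the Sylow 2-subgroup `S`. -/
structure Ctx (S : Sylow 2 G) (z : G) : Prop where
  ti : PPTI G
  mem : z ∈ (S : Subgroup G)
  rooted : Rooted z
  central : ∀ s ∈ (S : Subgroup G), Commute s z

/-- An element of `S` noncommuting with an involution of `S` gives a big element. -/
theorem exists_big_mul {S : Sylow 2 G} {s t : G} (hs : s ∈ (S : Subgroup G)) (ht : t ∈ (S : Subgroup G))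
    (hs2 : s * s = 1) (ht2 : t * t = 1) (hst : ¬ Commute s t) : ∃ a, Big (s * t) a := by
  refine (mem_cases S (mul_mem hs ht)).resolve_left fun h => hst ?_
  show s * t = t * s
  rw [← inv_eq_of_mul_eq_one_right h, mul_inv_rev, inv_eq_of_mul_eq_one_right hs2,
    inv_eq_of_mul_eq_one_right ht2]

theorem exists_big {S : Sylow 2 G}
    (hnc : ¬ ∀ a ∈ (S : Subgroup G), ∀ b ∈ (S : Subgroup G), Commute a b) :
    ∃ x ∈ (S : Subgroup G), ∃ a, Big x a := by
  push Not at hnc
  obtain ⟨s, hs, t, ht, hst⟩ := hnc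
  rcases mem_cases S hs with h1 | h1
  · rcases mem_cases S ht with h2 | h2
    · exact ⟨_, mul_mem hs ht, exists_big_mul hs ht h1 h2 hst⟩
    · exact ⟨t, ht, h2⟩
  · exact ⟨s, hs, h1⟩

theorem exists_ctx [Finite G] (hTI : PPTI G) (S : Sylow 2 G)
    (hnc : ¬ ∀ a ∈ (S : Subgroup G), ∀ b ∈ (S : Subgroup G), Commute a b) : ∃ z, Ctx S z := by
  classical
  haveI : Fact (Nat.Prime 2) := ⟨Nat.prime_two⟩
  obtain ⟨x, hx, a, hxa⟩ := exists_big hnc
  obtain ⟨z, ⟨hz, hzr⟩, hmax⟩ := Set.exists_max_image {y | y ∈ (S : Subgroup G) ∧ Rooted y}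
    (fun y => Nat.card ((S : Subgroup G) ⊓ centralizer ({y} : Set G) : Subgroup G)) (Set.toFinite _)
    ⟨a, (zpowers_le.2 hx) hxa.mem_zpowers', hxa.rooted⟩
  by_contra hno
  set M := (S : Subgroup G) ⊓ centralizer ({z} : Set G) with hM
  have hMlt : M.subgroupOf (S : Subgroup G) < ⊤ := by
    rw [lt_top_iff_ne_top, Ne, subgroupOf_eq_top]
    exact fun h => hno ⟨z, hTI, hz, hzr, fun s hs => mem_centralizer_singleton_iff.1 (h hs).2⟩
  haveI := S.2.isNilpotent
  obtain ⟨g, hgN, hgM⟩ := SetLike.exists_of_lt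
    (Group.normalizerCondition_of_isNilpotent (G := (S : Subgroup G)) _ hMlt)
  have hex : ∃ i : ℕ, g ^ 2 ^ i ∈ M.subgroupOf (S : Subgroup G) := by
    obtain ⟨n, hn⟩ := IsPGroup.iff_orderOf.1 S.2 g
    exact ⟨n, by rw [← hn, pow_orderOf_eq_one]; exact one_mem _⟩
  obtain ⟨i, hi⟩ : ∃ i, Nat.find hex = i + 1 := by
    refine Nat.exists_eq_succ_of_ne_zero fun h => hgM ?_
    simpa [h] using Nat.find_spec hex
  have hg2 : g ^ 2 ^ i * g ^ 2 ^ i ∈ M.subgroupOf (S : Subgroup G) := by
    rw [← pow_add, ← two_mul, ← pow_succ', ← hi]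
    exact Nat.find_spec hex
  have hg1 : g ^ 2 ^ i ∉ M.subgroupOf (S : Subgroup G) := Nat.find_min hex (by omega)
  have hgN' := pow_mem hgN (2 ^ i)
  generalize g ^ 2 ^ i = h at hg2 hg1 hgN'
  rw [mem_subgroupOf] at hg2 hg1
  set z' := (h : G) * z * (h : G)⁻¹ with hz'
  have hzM : z ∈ M := ⟨hz, mem_centralizer_singleton_iff.2 rfl⟩
  have hz'M : z' ∈ M := mem_subgroupOf.1 ((mem_normalizer_iff.1 hgN' ⟨z, hz⟩).1 hzM)
  have hzz : Commute z z' := ((mem_centralizer_singleton_iff.1 hz'M.2 : z' * z = z * z')).symm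
  have hzne : z ≠ z' := fun e =>
    hg1 ⟨h.2, mem_centralizer_singleton_iff.2 (commute_of_conj_eq e.symm).eq⟩
  have hprod : z * z' ∈ (S : Subgroup G) ∧ Rooted (z * z') :=
    ⟨mul_mem hz hz'M.1, hzr.mul hTI (hzr.map _) hzne hzz⟩
  have hz'z : ∀ m ∈ M, Commute m z' := by
    intro m hm
    have h1 := mem_subgroupOf.1
      ((mem_normalizer_iff.1 (inv_mem hgN') ⟨m, hm.1⟩).1 hm)
    simp only [Subgroup.coe_mul, InvMemClass.coe_inv, inv_inv] at h1
    have h2 : (h : G)⁻¹ * m * h * z = z * ((h : G)⁻¹ * m * h) := mem_centralizer_singleton_iff.1 h1.2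
    show m * z' = z' * m
    calc m * z' = (h : G) * ((h : G)⁻¹ * m * h * z) * (h : G)⁻¹ := by rw [hz']; group
      _ = z' * m := by rw [h2, hz']; group
  have hsub : M ⊔ zpowers (h : G) ≤ (S : Subgroup G) ⊓ centralizer ({z * z'} : Set G) := by
    refine sup_le (fun m hm => ⟨hm.1, mem_centralizer_singleton_iff.2
      (((show Commute m z from mem_centralizer_singleton_iff.1 hm.2)).mul_right (hz'z m hm)).eq⟩)
      (zpowers_le.2 ⟨h.2, mem_centralizer_singleton_iff.2 ?_⟩)
    have h2 : (h : G) * h * z = z * ((h : G) * h) := mem_centralizer_singleton_iff.1 hg2.2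
    have h3 : (h : G) * (z * z') * (h : G)⁻¹ = z * z' := by
      calc (h : G) * (z * z') * (h : G)⁻¹ = z' * ((h : G) * h * z) * (h : G)⁻¹ * (h : G)⁻¹ := by
            rw [hz']; group
        _ = z' * z := by rw [h2]; group
        _ = z * z' := hzz.eq.symm
    exact (commute_of_conj_eq h3).eq
  have hlt : M < M ⊔ zpowers (h : G) :=
    lt_of_le_of_ne le_sup_left fun e => hg1 (e ▸ mem_sup_right (mem_zpowers _))
  have hle := hmax _ hprod
  have hlt' := Set.ncard_lt_ncard (SetLike.coe_ssubset_coe.2 (hlt.trans_le hsub)) (Set.toFinite _)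
  rw [← Nat.card_coe_set_eq, ← Nat.card_coe_set_eq] at hlt'
  exact absurd hlt' (not_lt.2 hle)

/-- Every rooted involution of `S` fixes `v`. -/
def AllFix (S : Sylow 2 G) (v : G) : Prop := ∀ y ∈ (S : Subgroup G), Rooted y → Commute y v

namespace AllFix

variable {S : Sylow 2 G} {z v : G}

theorem triple (hc : Ctx S z) (hv : Root v z) (hA : AllFix S v) {u c r : G}
    (hu : u ∈ (S : Subgroup G)) (hur : Rooted u) (hcS : c ∈ (S : Subgroup G)) (hne : c ≠ z)
    (hr : Root r c) (huc : Commute u c) (hinv : u * r * u⁻¹ = r⁻¹) : False := by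
  obtain ⟨-, hvr, hroot⟩ :=
    hv.fix hc.ti hr (Ne.symm hne) (hc.central c hcS).symm (hA c hcS ⟨r, hr⟩)
  have e : u * (v * r) * u⁻¹ = v * r⁻¹ := by
    rw [show u * (v * r) * u⁻¹ = u * v * u⁻¹ * (u * r * u⁻¹) by group,
      conj_eq_of_commute (hA u hu hur), hinv]
  rcases hroot.conj hc.ti ((hc.central u hu).mul_right huc) with h | h
  · rw [e] at h
    exact hr.ne_inv (mul_left_cancel h).symm
  · rw [e, mul_inv_rev, (hvr.inv_inv).symm.eq] at h
    exact hv.ne_inv (mul_right_cancel h)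

theorem fix_root (hc : Ctx S z) (hv : Root v z) (hA : AllFix S v) {u y r : G}
    (hu : u ∈ (S : Subgroup G)) (hur : Rooted u) (hy : y ∈ (S : Subgroup G)) (hr : Root r y) :
    Commute u r := by
  have huy : Commute u y := by
    by_contra hn
    have huinv : u⁻¹ = u := inv_eq_of_mul_eq_one_right hur.inv
    have hd : u * (u * y) * u⁻¹ = (u * y)⁻¹ := by
      rw [mul_inv_rev, hr.self_inv, huinv, ← mul_assoc, hur.inv, one_mul]
    obtain ⟨c, hc'⟩ := exists_big_mul hu hy hur.inv hr.inv hn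
    obtain ⟨r', hr'm, hr'⟩ := hc'.exists_root
    have huc : Commute u c := commute_of_conj_eq <| by
      rw [conj_inv_of_mem hd hc'.mem_zpowers', hr'.self_inv]
    have hinv := conj_inv_of_mem hd hr'm
    by_cases hcz : c = z
    · subst hcz
      exact hr'.ne_inv ((conj_eq_of_commute
        (hv.fix_all hc.ti hr' hur huc.symm (hA u hu hur))).symm.trans hinv)
    · exact triple hc hv hA hu hur ((zpowers_le.2 (mul_mem hu hy)) hc'.mem_zpowers') hcz hr' huc hinv
  by_cases hyz : y = z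
  · subst hyz
    exact hv.fix_all hc.ti hr hur huy.symm (hA u hu hur)
  · rcases hr.conj hc.ti huy with e | e
    · exact commute_of_conj_eq e
    · exact (triple hc hv hA hu hur hy hyz hr huy e).elim

theorem commute_big (hc : Ctx S z) (hv : Root v z) (hA : AllFix S v) {u : G}
    (hu : u ∈ (S : Subgroup G)) (hur : Rooted u) {x a : G} (hx : x ∈ (S : Subgroup G))
    (hxa : Big x a) : Commute u x := by
  induction hn : orderOf x using Nat.strong_induction_on generalizing x a with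
  | _ n ih =>
  subst hn
  have haS : a ∈ (S : Subgroup G) := (zpowers_le.2 hx) hxa.mem_zpowers'
  rcases hxa.sq_or_root with ⟨h2, hlt⟩ | hroot
  · have ih2 : Commute u (x * x) := ih _ hlt (mul_mem hx hx) h2 rfl
    by_cases hua : u = a
    · exact hua ▸ hxa.commute.symm
    obtain ⟨w, hw⟩ := hur
    obtain ⟨n, hn, -⟩ := id hxa
    have haw : Commute a w := fix_root hc hv hA haS hxa.rooted hu hw
    have hy : w * x * w⁻¹ ∈ zpowers x :=
      conj_mem_zpowers hc.ti Nat.prime_two hn hxa.mem_zpowers' hxa.ne haw.symm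
    have hwx2 : w * (x * x) * w⁻¹ = x * x := by
      rcases hw.conj hc.ti (ih2.symm) with e | e
      · exact conj_eq_of_commute (commute_of_conj_eq e).symm
      · exfalso
        have h1 : w * (x * x) * w⁻¹ = x * x * u := by
          calc w * (x * x) * w⁻¹ = (x * x * w * (x * x)⁻¹)⁻¹ * (x * x) * w⁻¹ := by rw [e, inv_inv]
            _ = x * x * (w⁻¹ * w⁻¹) := by generalize x * x = X; group
            _ = x * x * u := by rw [hw.symm.sq]
        have hu' : u ∈ zpowers x := by
          rw [show u = (x * x)⁻¹ * (x * x * u) by group, ← h1,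
            show w * (x * x) * w⁻¹ = (w * x * w⁻¹) * (w * x * w⁻¹) by group]
          exact mul_mem (inv_mem (mul_mem (mem_zpowers x) (mem_zpowers x))) (mul_mem hy hy)
        exact hua ((hxa.eq_of_mem hu' hw.inv).resolve_left fun e1 => hw.ne e1)
    obtain ⟨k, hk⟩ := mem_zpowers_iff.1 hy
    set c := x⁻¹ * (w * x * w⁻¹) with hcdef
    have hcm : c ∈ zpowers x := mul_mem (inv_mem (mem_zpowers x)) hy
    have hcx : Commute x⁻¹ (w * x * w⁻¹) := hk ▸ ((Commute.refl x).zpow_right k).inv_left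
    have hc2 : c * c = 1 := by
      rw [hcdef, hcx.symm.mul_mul_mul_comm,
        show w * x * w⁻¹ * (w * x * w⁻¹) = w * (x * x) * w⁻¹ by group, hwx2]
      group
    have hwc : w * c * w⁻¹ = c := by
      rcases hxa.eq_of_mem hcm hc2 with e | e
      · rw [e]; group
      · rw [e, conj_eq_of_commute haw.symm]
    refine commute_of_conj_eq ?_
    rw [← hw.sq, ← conj_conj w w x, show w * x * w⁻¹ = x * c by rw [hcdef]; group,
      show w * (x * c) * w⁻¹ = w * x * w⁻¹ * (w * c * w⁻¹) by group, hwc,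
      show w * x * w⁻¹ = x * c by rw [hcdef]; group, mul_assoc, hc2, mul_one]
  · exact fix_root hc hv hA hu hur haS hroot

/-- Rooted involutions of `S` are central in `S`. -/
theorem rooted_central (hc : Ctx S z) (hv : Root v z) (hA : AllFix S v) {u : G}
    (hu : u ∈ (S : Subgroup G)) (hur : Rooted u) {s : G} (hs : s ∈ (S : Subgroup G)) :
    Commute s u := by
  rcases mem_cases S hs with h | ⟨a, h⟩
  · by_contra hn
    obtain ⟨c, hb⟩ := exists_big_mul hs hu h hur.inv hn
    have h1 := commute_big hc hv hA hu hur (mul_mem hs hu) hb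
    refine hn ?_
    have : Commute u (s * u * u⁻¹) := h1.mul_right (Commute.refl u).inv_right
    rwa [mul_inv_cancel_right, Commute.symm_iff] at this
  · exact (commute_big hc hv hA hu hur hs h).symm

theorem big_commute_of_ne (hc : Ctx S z) (hv : Root v z) (hA : AllFix S v) {x y a b : G}
    (hx : x ∈ (S : Subgroup G)) (hy : y ∈ (S : Subgroup G)) (hxa : Big x a) (hyb : Big y b)
    (hab : a ≠ b) : Commute x y := by
  have ha := rooted_central hc hv hA ((zpowers_le.2 hx) hxa.mem_zpowers') hxa.rooted hy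
  have hb := rooted_central hc hv hA ((zpowers_le.2 hy) hyb.mem_zpowers') hyb.rooted hx
  obtain ⟨n, hn, -⟩ := id hxa
  obtain ⟨m, hm, -⟩ := id hyb
  have h1 := conj_mem_zpowers hc.ti Nat.prime_two hn hxa.mem_zpowers' hxa.ne ha
  have h2 := conj_mem_zpowers hc.ti Nat.prime_two hm hyb.mem_zpowers' hyb.ne hb
  have he := hxa.inter_eq_one hyb hab (e := x * y * x⁻¹ * y⁻¹) ?_ (mul_mem h2 (inv_mem (mem_zpowers y)))
  · exact mul_inv_eq_iff_eq_mul.1 (mul_inv_eq_one.1 he)
  · rw [show x * y * x⁻¹ * y⁻¹ = x * (y * x * y⁻¹)⁻¹ by group]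
    exact mul_mem (mem_zpowers x) (inv_mem h1)

variable [Finite G] [IsSimpleGroup G]

theorem big_commute (hG : ¬ IsMulCommutative G) (hc : Ctx S z) (hv : Root v z) (hA : AllFix S v)
    {x y a b : G} (hx : x ∈ (S : Subgroup G)) (hy : y ∈ (S : Subgroup G)) (hxa : Big x a)
    (hyb : Big y b) : Commute x y := by
  by_cases hab : a = b
  swap
  · exact big_commute_of_ne hc hv hA hx hy hxa hyb hab
  subst hab
  wlog hle : orderOf y ≤ orderOf x generalizing x y
  · exact (this hy hx hyb hxa (le_of_not_ge hle)).symm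
  have haS : a ∈ (S : Subgroup G) := (zpowers_le.2 hx) hxa.mem_zpowers'
  have hac : ∀ s ∈ (S : Subgroup G), Commute s a := fun s hs =>
    rooted_central hc hv hA haS hxa.rooted hs
  haveI : Fact (Nat.Prime 2) := ⟨Nat.prime_two⟩
  have ha2 : orderOf a = 2 := orderOf_eq_prime (by rw [pow_two, hxa.self_inv]) hxa.ne
  have hniso : ¬ IsIsolatedInvolution a := by
    intro hiso
    have hcen := ZStar.isolated_mem_center ZStarPrimePower.uniqueInvolutionZStar_proved hiso
      (Goldschmidt.General.pPrimeCore_eq_bot_of_simple inferInstance (ha2 ▸ orderOf_dvd_natCard a))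
    rcases (inferInstance : (center G).Normal).eq_bot_or_eq_top with h | h
    · exact hxa.ne (by rwa [h, mem_bot] at hcen)
    · exact hG ⟨⟨fun p q => (mem_center_iff.1 (h ▸ mem_top q : q ∈ center G) p)⟩⟩
  obtain ⟨g₀, hcomm, hg₀⟩ : ∃ g : G, Commute a (g * a * g⁻¹) ∧ g * a * g⁻¹ ≠ a := by
    by_contra hcon
    push Not at hcon
    exact hniso ⟨ha2, hcon⟩
  have hord : orderOf (g₀ * a * g₀⁻¹) = 2 ^ 1 := by
    rw [orderOf_conj]; exact ha2
  obtain ⟨c, hca, hcS⟩ := exists_conj_mem S hac hord hcomm.symm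
  have hne : c * (g₀ * a * g₀⁻¹) * c⁻¹ ≠ a := fun e =>
    hg₀ ((MulAut.conj c).injective (e.trans (conj_eq_of_commute hca).symm))
  rw [conj_conj] at hcS hne
  generalize c * g₀ = g at hcS hne
  set a' := g * a * g⁻¹ with ha'
  have ha'c : ∀ s ∈ (S : Subgroup G), Commute s a' := fun s hs =>
    rooted_central hc hv hA hcS (hxa.rooted.map g) hs
  obtain ⟨d, hd, hdS⟩ := exists_conj_le S ha'c
    (S.2.map (MulAut.conj g).toMonoidHom) (by
      rintro _ ⟨s, hs, rfl⟩
      show g * s * g⁻¹ * a' = a' * (g * s * g⁻¹)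
      rw [ha']
      calc g * s * g⁻¹ * (g * a * g⁻¹) = g * (s * a) * g⁻¹ := by group
        _ = _ := by rw [(hac s hs).eq]; group)
  have hwS : d * (g * x * g⁻¹) * d⁻¹ ∈ (S : Subgroup G) := hdS _ ⟨x, hx, rfl⟩
  have hw : Big (d * (g * x * g⁻¹) * d⁻¹) a' := by
    have := (hxa.map g).map d
    rwa [← ha', conj_eq_of_commute hd] at this
  have hwo : orderOf (d * (g * x * g⁻¹) * d⁻¹) = orderOf x := by
    rw [orderOf_conj, orderOf_conj]
  generalize d * (g * x * g⁻¹) * d⁻¹ = w at hwS hw hwo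
  have hyw : Commute y w := big_commute_of_ne hc hv hA hy hwS hyb hw (Ne.symm hne)
  have hxw : Commute x w := big_commute_of_ne hc hv hA hx hwS hxa hw (Ne.symm hne)
  obtain ⟨b, hb, hba⟩ : ∃ b, Big (y * w) b ∧ b ≠ a := by
    obtain ⟨m, hm, hm'⟩ := id hyb
    obtain ⟨k, hk, hk'⟩ := id hw
    have hmk : m ≤ k := by
      rw [hm, ← hwo, hk, Nat.pow_le_pow_iff_right (le_refl 2)] at hle
      omega
    rcases eq_or_lt_of_le hmk with rfl | hlt
    · refine ⟨a * a', Big.of_pow (k := m) (by rw [hyw.mul_pow, hm', hk']) ?_ ?_, ?_⟩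
      · rw [(ha'c a haS).symm.mul_mul_mul_comm, hxa.self_inv, hw.self_inv, one_mul]
      · intro e
        exact hne (mul_left_cancel (e.trans hxa.self_inv.symm))
      · intro e
        exact hw.ne (mul_eq_left.1 e)
    · refine ⟨a', Big.of_pow (k := k) (by
        rw [hyw.mul_pow, hk', show y ^ 2 ^ (k + 1) = 1 from orderOf_dvd_iff_pow_eq_one.1
          (hm ▸ pow_dvd_pow 2 (by omega)), one_mul]) hw.self_inv hw.ne, hne⟩
  have h1 := big_commute_of_ne hc hv hA hx (mul_mem hy hwS) hxa hb (Ne.symm hba)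
  have h2 := h1.mul_right hxw.inv_right
  rwa [mul_inv_cancel_right] at h2

theorem false (hG : ¬ IsMulCommutative G) (hc : Ctx S z) (hv : Root v z) (hA : AllFix S v)
    (hnc : ¬ ∀ a ∈ (S : Subgroup G), ∀ b ∈ (S : Subgroup G), Commute a b) : False := by
  obtain ⟨x₀, hx₀, t, htS, ht2, hnt, a, hxa⟩ : ∃ x₀ ∈ (S : Subgroup G), ∃ t ∈ (S : Subgroup G),
      t * t = 1 ∧ ¬ Commute x₀ t ∧ ∃ a, Big x₀ a := by
    push Not at hnc
    obtain ⟨s, hs, t, ht, hst⟩ := hnc
    rcases mem_cases S hs with h1 | ⟨a, h1⟩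
    · rcases mem_cases S ht with h2 | ⟨b, h2⟩
      · obtain ⟨b, hb⟩ := exists_big_mul hs ht h1 h2 hst
        refine ⟨s * t, mul_mem hs ht, t, ht, h2, fun hco => hst ?_, b, hb⟩
        have := hco.mul_left (Commute.refl t).inv_left
        rwa [mul_inv_cancel_right] at this
      · exact ⟨t, ht, s, hs, h1, fun hco => hst hco.symm, b, h2⟩
    · rcases mem_cases S ht with h2 | ⟨b, h2⟩
      · exact ⟨s, hs, t, ht, h2, hst, a, h1⟩
      · exact absurd (big_commute hG hc hv hA hs ht h1 h2) hst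
  set J := (S : Subgroup G) ⊓ centralizer {x : G | x ∈ (S : Subgroup G) ∧ ∃ a, Big x a} with hJdef
  have hJc : ∀ j ∈ J, ∀ x ∈ (S : Subgroup G), ∀ a, Big x a → Commute j x := fun j hj x hx a hxa =>
    (mem_centralizer_iff.1 hj.2 x ⟨hx, a, hxa⟩).symm
  have hJ : ∀ p ∈ J, ∀ q ∈ J, Commute p q := by
    intro p hp q hq
    rcases mem_cases S hp.1 with h1 | ⟨b, h1⟩
    · rcases mem_cases S hq.1 with h2 | ⟨b, h2⟩
      · by_contra hn
        obtain ⟨b, hb⟩ := exists_big_mul hp.1 hq.1 h1 h2 hn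
        have := (hJc p hp _ (mul_mem hp.1 hq.1) b hb)
        refine hn ?_
        have h3 := (Commute.refl p).inv_right.mul_right this
        rwa [inv_mul_cancel_left] at h3
      · exact hJc p hp q hq.1 b h2
    · exact (hJc q hq p hp.1 b h1).symm
  have hinv : ∀ s ∈ (S : Subgroup G), s ∉ J → s * s = 1 ∧
      ∀ x ∈ (S : Subgroup G), ∀ a, Big x a → s * x * s⁻¹ = x⁻¹ := by
    intro s hs hsJ
    obtain ⟨y, hy, b, hyb, hsy⟩ : ∃ y ∈ (S : Subgroup G), ∃ b, Big y b ∧ ¬ Commute s y := by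
      by_contra hcon
      push Not at hcon
      exact hsJ ⟨hs, mem_centralizer_iff.2 fun x ⟨hx, a, hxa⟩ => (hcon x hx a hxa).symm.eq⟩
    have hs2 : s * s = 1 := (mem_cases S hs).resolve_right fun ⟨c, hsc⟩ =>
      hsy (big_commute hG hc hv hA hs hy hsc hyb)
    refine ⟨hs2, fun x hx a hxa => ?_⟩
    have hsx : ¬ Commute s x := by
      intro hco
      have hsxa : ∃ c, Big (s * x) c := (mem_cases S (mul_mem hs hx)).resolve_left fun e =>
        hxa.not_invol (by rwa [hco.symm.mul_mul_mul_comm, hs2, one_mul] at e)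
      obtain ⟨c, hc'⟩ := hsxa
      have h := (big_commute hG hc hv hA (mul_mem hs hx) hy hc' hyb).mul_left
        (big_commute hG hc hv hA hx hy hxa hyb).inv_left
      rw [mul_inv_cancel_right] at h
      exact hsy h
    have hsx2 : s * x * (s * x) = 1 := (mem_cases S (mul_mem hs hx)).resolve_right fun ⟨c, hc'⟩ => by
      have h := (big_commute hG hc hv hA (mul_mem hs hx) hx hc' hxa).mul_left
        (Commute.refl x).inv_left
      rw [mul_inv_cancel_right] at h
      exact hsx h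
    rw [inv_eq_of_mul_eq_one_right hs2]
    exact mul_eq_one_iff_eq_inv.1 (by rw [← hsx2]; group)
  have htJ : t ∉ J := fun h => hnt (hJc t h x₀ hx₀ a hxa).symm
  have hidx : J.relIndex (S : Subgroup G) = 2 := by
    rw [relIndex_eq_two_iff_exists_notMem_and]
    refine ⟨t, htS, htJ, fun b hb => ?_⟩
    by_contra hcon
    push Not at hcon
    refine hcon.1 ⟨mul_mem hb htS, mem_centralizer_iff.2 fun x ⟨hx, a, hxa⟩ => ?_⟩
    refine (commute_of_conj_eq ?_).symm.eq
    rw [← conj_conj b t x, (hinv t htS htJ).2 x hx a hxa,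
      show b * x⁻¹ * b⁻¹ = (b * x * b⁻¹)⁻¹ by group, (hinv b hb hcon.2).2 x hx a hxa, inv_inv]
  haveI : Fact (Nat.Prime 2) := ⟨Nat.prime_two⟩
  have ht2' : orderOf t = 2 := orderOf_eq_prime (by rw [pow_two, ht2]) fun e =>
    hnt (e ▸ Commute.one_right x₀)
  rcases Cfsg.Agent.S0111.result S J inf_le_left hidx t ht2' htS htJ with ⟨M, hMn, hMi, htM⟩ | ⟨g, hg⟩
  · rcases hMn.eq_bot_or_eq_top with h | h
    · subst h
      rw [index_bot] at hMi
      haveI : IsCyclic G := isCyclic_of_prime_card hMi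
      exact hG ⟨⟨mul_comm'⟩⟩
    · exact htM (h ▸ mem_top t)
  · have hb2 : g * t * g⁻¹ * (g * t * g⁻¹) = 1 := by
      rw [show g * t * g⁻¹ * (g * t * g⁻¹) = g * (t * t) * g⁻¹ by group, ht2]; group
    have hbc : ∀ s ∈ (S : Subgroup G), Commute s (g * t * g⁻¹) := by
      intro s hs
      by_cases hsJ : s ∈ J
      · exact hJ s hsJ _ hg
      · by_contra hn
        obtain ⟨c, hcb⟩ := exists_big_mul hs hg.1 (hinv s hs hsJ).1 hb2 hn
        have h := ((hJc _ hg _ (mul_mem hs hg.1) c hcb).mul_right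
          (Commute.refl (g * t * g⁻¹)).inv_right)
        rw [mul_inv_cancel_right] at h
        exact hn h.symm
    obtain ⟨r, hrm, hr⟩ := hxa.exists_root
    have htinv := conj_inv_of_mem ((hinv t htS htJ).2 x₀ hx₀ a hxa) hrm
    have hta : Commute t a :=
      rooted_central hc hv hA ((zpowers_le.2 hx₀) hxa.mem_zpowers') hxa.rooted htS
    obtain ⟨d, hd, hdS⟩ := exists_conj_mem S hbc (x := g * a * g⁻¹) (n := 1)
      (by rw [orderOf_conj, pow_one]; exact orderOf_eq_prime (by rw [pow_two, hxa.self_inv]) hxa.ne)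
      ((hta.map (MulAut.conj g).toMonoidHom).symm)
    rw [conj_conj] at hdS
    have hbt : d * g * t * (d * g)⁻¹ = g * t * g⁻¹ := by
      rw [← conj_conj, conj_eq_of_commute hd]
    have hac : ∀ s ∈ (S : Subgroup G), Commute s (d * g * a * (d * g)⁻¹) := fun s hs =>
      rooted_central hc hv hA hdS (hxa.rooted.map _) hs
    have hrS := (hr.map (d * g)).big.mem_sylow S hc.ti hac
    have hco := hJc _ hg _ hrS _ (hr.map (d * g)).big
    rw [← hbt] at hco
    exact hr.ne_inv ((conj_eq_of_commute ((Commute.conj_iff (d * g)).1 hco)).symm.trans htinv)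

end AllFix

/-- Some rooted involution of `S` does not centralise a given root of `z`. -/
theorem not_all_fix [Finite G] [IsSimpleGroup G] (hG : ¬ IsMulCommutative G) {S : Sylow 2 G} {z v : G}
    (hnc : ¬ ∀ a ∈ (S : Subgroup G), ∀ b ∈ (S : Subgroup G), Commute a b)
    (hc : Ctx S z) (hv : Root v z) :
    ∃ u ∈ (S : Subgroup G), Rooted u ∧ ¬ Commute u v := by
  by_contra hcon
  push Not at hcon
  exact AllFix.false hG hc hv hcon hnc

end Cfsg.Agent.PrimePowerTI
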